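import Groth.Agent.RGamT.Derived
import Groth.Agent.DCat.Acyclic

/-!
# Complexes of adapted objects compute derived torsion
-/

set_option autoImplicit false
set_option backward.isDefEq.respectTransparency false
set_option backward.defeqAttrib.useBackward true
set_option linter.style.haveILetI false
set_option linter.unusedSectionVars false
set_option maxHeartbeats 1000000

universe u

open CategoryTheory CategoryTheory.Limits CategoryTheory.Pretriangulated
open Groth.Agent.DCat

attribute [local instance] HasDerivedCategory.standard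

noncomputable section

namespace Groth.Agent.RGamT

section Cones

variable {A : Type*} [Category A] [Abelian A] [HasDerivedCategory A]

theorem isZero_Q_iff (K : CochainComplex A ℤ) :
    IsZero (DerivedCategory.Q.obj K) ↔ ∀ i, IsZero (K.homology i) := by
  refine ⟨fun h i => ((DerivedCategory.homologyFunctor A i).map_isZero h).of_iso
    ((DerivedCategory.homologyFunctorFactors A i).app K).symm, fun h => ?_⟩
  obtain ⟨Z, hZ⟩ := HasZeroObject.zero (C := CochainComplex A ℤ)
  have hQ : IsZero (DerivedCategory.Q.obj Z) :=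
    IsZero.of_full_of_faithful_of_isZero (𝟭 _) _ ((Functor.map_isZero DerivedCategory.Q hZ))
  haveI : QuasiIso (0 : K ⟶ Z) := ⟨fun i => by
    rw [quasiIsoAt_iff_isIso_homologyMap]
    exact ⟨0, (h i).eq_of_src _ _, ((HomologicalComplex.homologyFunctor A (ComplexShape.up ℤ) i).map_isZero hZ).eq_of_src _ _⟩⟩
  exact hQ.of_iso (asIso (DerivedCategory.Q.map (0 : K ⟶ Z)))

theorem isIso_Q_map_iff_cone {K L : CochainComplex A ℤ} (φ : K ⟶ L) :
    IsIso (DerivedCategory.Q.map φ) ↔ IsZero (DerivedCategory.Q.obj (CochainComplex.mappingCone φ)) :=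
  (Triangle.isZero₃_iff_isIso₁ _ (DerivedCategory.mappingCone_triangle_distinguished φ)).symm

end Cones

variable {C : Type u} [SmallCategory C] {J₀ : GrothendieckTopology C} {O : Sheaf J₀ CommRingCat.{u}}
  (I : FTors.IdealFam O) [FTors.HasRgamma I]

/-- A class of objects adapted to `Γ_I`. -/
structure Adapted (A : ObjectProperty (ModSite.Mod O)) : Prop where
  injective : ∀ M, Injective M → A M
  biprod : ∀ M N, A M → A N → A (M ⊞ N)
  iso : ∀ M N, (M ≅ N) → A M → A N
  zero : ∀ M, IsZero M → FTors.IsTors I M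
  qis : ∀ P : CochainComplex (ModSite.Mod O) ℤ, (∀ n, A (P.X n)) → (∀ i, FTors.IsTors I (P.homology i)) →
    QuasiIso (gCι I P)

variable {A : ObjectProperty (ModSite.Mod O)} (hA : Adapted I A)

include hA in
theorem isIso_theta_adapted (P : CochainComplex (ModSite.Mod O) ℤ) (hP : ∀ n, A (P.X n)) : IsIso (theta I P) := by
  obtain ⟨J, σ, hJ, hσ, -, hJi⟩ := exists_kInj_res P
  haveI := isIso_theta_kInj I J hJ
  have hcone : ∀ n, A ((CochainComplex.mappingCone σ).X n) := fun n =>
    hA.iso _ _ (HomologicalComplex.homotopyCofiber.XIsoBiprod σ n (n + 1) rfl).symm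
      (hA.biprod _ _ (hP _) (hA.injective _ (hJi _)))
  have hz : IsZero (DerivedCategory.Q.obj (CochainComplex.mappingCone σ)) :=
    (isIso_Q_map_iff_cone σ).1 inferInstance
  haveI := hA.qis _ hcone fun i => hA.zero _ ((isZero_Q_iff _).1 hz i)
  haveI : (FTors.gamma O I).Additive := inferInstance
  have hz' : IsZero (DerivedCategory.Q.obj (CochainComplex.mappingCone (gMap I σ))) :=
    (hz.of_iso (asIso (DerivedCategory.Q.map (gCι I (CochainComplex.mappingCone σ))))).of_iso
      (DerivedCategory.Q.mapIso (CochainComplex.mappingCone.mapHomologicalComplexIso σ (FTors.gamma O I))).symm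
  haveI : IsIso (DerivedCategory.Q.map (gMap I σ)) := (isIso_Q_map_iff_cone _).2 hz'
  haveI : IsIso (theta I P ≫ (FTors.Rgamma I).map (DerivedCategory.Q.map σ)) := by
    rw [← theta_naturality]; infer_instance
  exact IsIso.of_isIso_comp_right (theta I P) ((FTors.Rgamma I).map (DerivedCategory.Q.map σ))

include hA in
/-- `RΓ_I` commutes with sums when `Γ_I` does and sums of injectives are adapted. -/
theorem preservesCoproducts_rgamma (ι : Type u) [PreservesColimitsOfShape (Discrete ι) (FTors.gamma O I)]
    (hsum : ∀ X : ι → ModSite.Mod O, (∀ a, Injective (X a)) → A (∐ X)) :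
    PreservesColimitsOfShape (Discrete ι) (FTors.Rgamma I) := by
  refine ⟨fun {D} => ?_⟩
  choose J hJ using fun a : ι => exists_model (D.obj ⟨a⟩)
  choose hJiso hJK hJi using hJ
  let K' : Discrete ι ⥤ CochainComplex (ModSite.Mod O) ℤ := Discrete.functor J
  let eK : K' ⋙ DerivedCategory.Q ≅ D := Discrete.natIso fun t => hJiso t.as
  haveI := DCat.RHomExist.preservesCoproducts_Q (A := ModSite.Mod O) ι
  let P := (FTors.gamma O I).mapHomologicalComplex (ComplexShape.up ℤ)
  haveI : PreservesColimitsOfShape (Discrete ι) P := ⟨fun {D} => ⟨fun {c} hc =>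
    ⟨HomologicalComplex.isColimitOfEval _ _ fun i =>
      isColimitOfPreserves (FTors.gamma O I) (isColimitOfPreserves (HomologicalComplex.eval _ _ i) hc)⟩⟩⟩
  let S := colimit K'
  haveI : IsIso (theta I S) := isIso_theta_adapted I hA S fun m =>
    hA.iso _ _ ((HasColimit.isoOfNatIso (Discrete.natIso fun _ => Iso.refl _ :
        Discrete.functor (fun t => (J t).X m) ≅ K' ⋙ HomologicalComplex.eval _ _ m)) ≪≫
        (preservesColimitIso (HomologicalComplex.eval _ _ m) K').symm)
      (hsum (fun t => (J t).X m) fun t => hJi t m)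
  haveI : PreservesColimit (K' ⋙ DerivedCategory.Q) (FTors.Rgamma I) := by
    refine preservesColimit_of_preserves_colimit_cocone
      (isColimitOfPreserves DerivedCategory.Q (colimit.isColimit K')) ?_
    let hc := isColimitOfPreserves (P ⋙ DerivedCategory.Q) (colimit.isColimit K')
    haveI : ∀ t, IsIso (theta I (K'.obj t)) := fun t => isIso_theta_kInj I _ (hJK t.as)
    let β : K' ⋙ P ⋙ DerivedCategory.Q ≅ (K' ⋙ DerivedCategory.Q) ⋙ FTors.Rgamma I :=
      NatIso.ofComponents (fun t => asIso (theta I (K'.obj t))) (fun g => theta_naturality I (K'.map g))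
    refine IsColimit.ofIsoColimit ((IsColimit.precomposeHomEquiv β.symm _).symm hc)
      (Cocone.ext (asIso (theta I S)) fun t => ?_)
    dsimp [β]
    rw [Category.assoc, IsIso.inv_comp_eq]
    exact theta_naturality I (colimit.ι K' t)
  exact preservesColimit_of_iso_diagram (FTors.Rgamma I) eK

section Coreflection

variable [(FTors.IsTors I).IsClosedUnderIsomorphisms] (hyp : Hyp I)

include hyp in
theorem map_ε_eq (X : DerivedCategory (ModSite.Mod O)) :
    (FTors.Rgamma I).map ((FTors.Rgammaε I).app X) = (FTors.Rgammaε I).app ((FTors.Rgamma I).obj X) :=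
  (bijective_comp_ε I hyp (isDTors_rgammaT I hyp _) X).1 ((FTors.Rgammaε I).naturality ((FTors.Rgammaε I).app X))

include hyp in
/-- A right adjoint of `RΓ_I` does not change `RΓ_I`. -/
theorem exists_iso_rgamma_rightAdjoint {Λ : DerivedCategory (ModSite.Mod O) ⥤ DerivedCategory (ModSite.Mod O)}
    (adj : FTors.Rgamma I ⊣ Λ) (G : DerivedCategory (ModSite.Mod O)) :
    Nonempty ((FTors.Rgamma I).obj (Λ.obj G) ≅ (FTors.Rgamma I).obj G) := by
  let R := FTors.Rgamma I
  let ε := FTors.Rgammaε I
  have hbij : ∀ {T : DerivedCategory (ModSite.Mod O)}, FTors.IsDTors I T →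
      Function.Bijective (fun ψ : T ⟶ R.obj (Λ.obj G) => ψ ≫ adj.counit.app G) := fun {T} hT => by
    haveI := isIso_ε I hyp T hT
    have h1 := bijective_comp_ε I hyp hT (Λ.obj G)
    have h2 : Function.Bijective (fun φ : T ⟶ Λ.obj G => inv (ε.app T) ≫ R.map φ ≫ adj.counit.app G) := by
      have h3 := (adj.homEquiv T G).symm.bijective
      refine (Function.Bijective.comp (g := fun χ => inv (ε.app T) ≫ χ) ?_ h3 :)|> fun hb => by
        simpa [Function.comp_def, Adjunction.homEquiv_counit] using hb
      exact ⟨fun a b hab => (cancel_epi (inv (ε.app T))).1 hab, fun χ => ⟨ε.app T ≫ χ, by simp⟩⟩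
    convert h2.comp h1 using 1
    funext ψ
    simp only [Function.comp_apply]
    rw [Functor.map_comp]
    erw [map_ε_eq I hyp]
    have h4 : R.map ψ ≫ (FTors.Rgammaε I).app (R.obj (Λ.obj G)) = ε.app T ≫ ψ := ε.naturality ψ
    erw [h4]
    rw [Category.assoc, IsIso.inv_hom_id_assoc]
  obtain ⟨a, ha⟩ := (bijective_comp_ε I hyp (isDTors_rgammaT I hyp (Λ.obj G)) G).2 (adj.counit.app G)
  obtain ⟨b, hb⟩ := (hbij (isDTors_rgammaT I hyp G)).2 ((FTors.Rgammaε I).app G)
  dsimp only at ha hb
  exact ⟨⟨a, b, (hbij (isDTors_rgammaT I hyp _)).1 (by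
      dsimp only
      rw [Category.assoc, hb, ha, Category.id_comp]),
    (bijective_comp_ε I hyp (isDTors_rgammaT I hyp G) G).1 (by
      dsimp only
      rw [Category.assoc, ha, hb, Category.id_comp])⟩⟩

end Coreflection

end Groth.Agent.RGamT
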