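import Groth.Agent.DerCompLib.KoszulOrth
import Groth.Agent.DerCompLib.Locality

/-!
# Completeness is tested on covering families

Variants of `mem_secIdeal_of_locally`, `secIdeal_of_cover` asking completeness only on the members of covering families.
-/

set_option autoImplicit false
set_option backward.isDefEq.respectTransparency false

universe u

open CategoryTheory CategoryTheory.Limits Opposite

attribute [local instance] HasDerivedCategory.standard

namespace Groth.Agent.DerCompLib

variable {C : Type u} [SmallCategory C] {J : GrothendieckTopology C} {O : Sheaf J CommRingCat.{u}}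

set_option maxHeartbeats 1600000 in
/-- If a K-injective complex with injective terms is complete for `s` locally on every object, the
telescope of `s` on every complex of sections is acyclic in all degrees. -/
theorem mem_secIdeal_of_family (s : DerComp.GSec O) (L : CochainComplex (ModSite.Mod O) ℤ)
    [L.IsKInjective] (hL : ∀ i, Injective (L.X i))
    (h : ∀ V : C, ∃ (ι : Type u) (Y : ι → C) (g : ∀ a, Y a ⟶ V), Sieve.ofArrows Y g ∈ J V ∧
      ∀ a, s.1 (Y a) ∈ secIdeal L (Y a)) (V : C) :
    s.1 V ∈ secIdeal L V := by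
  let I : ℕ → CochainComplex (ModSite.Mod O) ℤ := fun _ => L
  let P : CochainComplex (ModSite.Mod O) ℤ := ∏ᶜ I
  have hP : P.IsKInjective := DCat.isKInjective_pi (productIsProduct I) fun _ => inferInstance
  let T : P ⟶ P := Pi.lift fun k => Pi.π I k - Pi.π I (k + 1) ≫ smulCx s L
  let seq : ∀ (i : ℤ) (W : C), Sec (P.X i) W → (ℕ → Sec (L.X i) W) :=
    fun i W x k => secMap ((Pi.π I k).f i) W x
  have hseq : ∀ i W, Function.Bijective (seq i W) := fun i W =>
    bijective_sec_fan
      (isLimitFanMkObjOfIsLimit (HomologicalComplex.eval _ _ i) _ (Pi.π I) (productIsProduct I)) W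
  have hseqT : ∀ i W x, seq i W (secMap (T.f i) W x) =
      telMap (Sec (L.X i) W) (s.1 W) (seq i W x) := fun i W x => funext fun k => by
    change secMap ((Pi.π I k).f i) W (secMap (T.f i) W x) = _
    rw [← secMap_comp, ← HomologicalComplex.comp_f, Pi.lift_π]
    rfl
  have hseqd : ∀ i j W x k, seq j W (secMap (P.d i j) W x) k =
      secMap (L.d i j) W (seq i W x k) := fun i j W x k => by
    change secMap ((Pi.π I k).f j) W (secMap (P.d i j) W x) = _
    rw [← secMap_comp, ← (Pi.π I k).comm]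
    rfl
  have hTsurj : ∀ i W, Function.Surjective (secMap (T.f i) W) := fun i W y => by
    haveI := hL i
    obtain ⟨x, hx⟩ := surjective_telMap_sec W (s.1 W) (L.X i) (seq i W y)
    obtain ⟨x, rfl⟩ := (hseq i W).2 x
    exact ⟨x, (hseq i W).1 ((hseqT i W x).trans hx)⟩
  haveI : Epi T := by
    haveI : ∀ i, Epi (T.f i) := fun i => epi_of_surjective_sec _ (hTsurj i)
    exact HomologicalComplex.epi_of_epi_f _ inferInstance
  let S : ShortComplex (CochainComplex (ModSite.Mod O) ℤ) :=
    ShortComplex.mk (kernel.ι T) T (kernel.condition T)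
  have hS : S.ShortExact :=
    { exact := ShortComplex.exact_of_f_is_kernel _ (kernelIsKernel T) }
  have hker : ∀ i W (y : Sec (P.X i) W), secMap (T.f i) W y = 0 →
      ∃ a, secMap ((kernel.ι T).f i) W a = y := by
    intro i W y hy
    have hex : (S.map (HomologicalComplex.eval (ModSite.Mod O) (ComplexShape.up ℤ) i)).Exact :=
      (HomologicalComplex.exact_iff_degreewise_exact S).1 hS.exact i
    haveI : Mono (S.map (HomologicalComplex.eval (ModSite.Mod O) _ i)).f :=
      inferInstanceAs (Mono ((kernel.ι T).f i))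
    have h0 : (secEquiv W _).symm y ≫ T.f i = 0 := (secEquiv W _).injective (by
      rw [secEquiv_comp, AddEquiv.apply_symm_apply, map_zero, hy])
    refine ⟨secEquiv W _ (hex.lift ((secEquiv W _).symm y) h0), ?_⟩
    rw [← secEquiv_comp]
    refine (congrArg (secEquiv W (P.X i)) ?_).trans (AddEquiv.apply_symm_apply _ _)
    exact hex.lift_f _ _
  have hinj : ∀ i W, Function.Injective (secMap ((kernel.ι T).f i) W) := by
    intro i W x y hxy
    apply (secEquiv W _).symm.injective
    rw [← cancel_mono ((kernel.ι T).f i)]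
    apply (secEquiv W _).injective
    rw [secEquiv_comp, secEquiv_comp, AddEquiv.apply_symm_apply, AddEquiv.apply_symm_apply, hxy]
  have hac : (kernel T).Acyclic := fun i => by
    rw [(kernel T).exactAt_iff' (i - 1) i (i + 1) (by simp) (by simp)]
    refine exact_of_locally _ fun W b (hb : secMap ((kernel T).d i (i + 1)) W b = 0) => ?_
    obtain ⟨ι₀, Y₀, g₀, hR, hRmem⟩ := h W
    refine ⟨_, hR, fun W'' k hk => ?_⟩
    obtain ⟨_, k', k, ⟨a₀⟩, rfl⟩ := hk
    suffices hs : ∃ c, secMap ((kernel T).d (i - 1) i) (Y₀ a₀) c = secRes ((kernel T).X i) (g₀ a₀) b by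
      obtain ⟨c, hc⟩ := hs
      exact ⟨secRes ((kernel T).X (i - 1)) k' c, (secMap_secRes _ k' c).trans
        ((congrArg _ hc).trans (secRes_comp ((kernel T).X i) k' (g₀ a₀) b))⟩
    let y := seq i (Y₀ a₀) (secMap ((kernel.ι T).f i) (Y₀ a₀) (secRes ((kernel T).X i) (g₀ a₀) b))
    obtain ⟨g, hg0, hg⟩ := (acyclic_sections_iff L (Y₀ a₀) (s.1 (Y₀ a₀))
      fun i => haveI := hL i; surjective_telMap_sec (Y₀ a₀) (s.1 (Y₀ a₀)) _).2 (hRmem a₀) i y
      (by
        rw [← hseqT, ← secMap_comp, ← HomologicalComplex.comp_f, kernel.condition,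
          HomologicalComplex.zero_f, secMap_zero]
        exact funext fun j => map_zero (secMap ((Pi.π I j).f i) (Y₀ a₀)))
      (fun j => by
        rw [← hseqd, ← secMap_comp, (kernel.ι T).comm, secMap_comp, secMap_secRes, hb, map_zero,
          map_zero]
        exact map_zero (secMap ((Pi.π I j).f (i + 1)) (Y₀ a₀)))
    obtain ⟨g, rfl⟩ := (hseq (i - 1) (Y₀ a₀)).2 g
    obtain ⟨a, ha⟩ := hker (i - 1) (Y₀ a₀) g ((hseq (i - 1) (Y₀ a₀)).1
      ((hseqT _ _ _).trans (hg0.trans (funext fun j => (map_zero _).symm))))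
    refine ⟨a, hinj i (Y₀ a₀) ((hseq i (Y₀ a₀)).1 (funext fun j => ?_))⟩
    change seq i (Y₀ a₀) (secMap ((kernel.ι T).f i) (Y₀ a₀) (secMap ((kernel T).d (i - 1) i) (Y₀ a₀) a)) j = _
    rw [← secMap_comp ((kernel T).d (i - 1) i), ← (kernel.ι T).comm, secMap_comp, ha, hseqd]
    exact (hg j).symm
  haveI : QuasiIso T := quasiIso_of_acyclic_kernel hS hac
  obtain ⟨T', ⟨H⟩, ⟨H'⟩⟩ := exists_homotopyInverse T
  have hom : ∀ {F : P ⟶ P} (H : Homotopy F (𝟙 P)) (i : ℤ) (W : C) (x : Sec (P.X i) W),
      secMap (P.d i (i + 1)) W x = 0 →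
      secMap (F.f i) W x = secMap (P.d (i - 1) i) W (secMap (H.hom i (i - 1)) W x) + x := by
    intro F H i W x hx
    have e := congrArg (fun q => secMap q W x) (H.comm i)
    rw [dNext_eq _ (show (ComplexShape.up ℤ).Rel i (i + 1) by simp),
      prevD_eq _ (show (ComplexShape.up ℤ).Rel (i - 1) i by simp)] at e
    simp only [secMap_add, secMap_comp, hx, map_zero, zero_add] at e
    exact e
  rw [mem_secIdeal]
  intro i
  refine ⟨(injective_iff_map_eq_zero (telMap _ _)).2 fun x hx => ?_, fun y => ?_⟩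
  · choose x' hx' using fun k => Submodule.mkQ_surjective (secBdry L V i) (x k)
    choose w hw using fun k => (secH_mk_eq_zero (x' k - s.1 V • x' (k + 1))).1 (by
      rw [map_sub, map_smul, hx', hx']
      exact congrFun hx k)
    obtain ⟨X, hX⟩ := (hseq i V).2 fun k => (x' k : Sec (L.X i) V)
    obtain ⟨W₀, hW₀⟩ := (hseq (i - 1) V).2 w
    have hXd : secMap (P.d i (i + 1)) V X = 0 := (hseq (i + 1) V).1 (funext fun k => by
      rw [hseqd, hX]
      exact (LinearMap.mem_ker.1 (x' k).2).trans (map_zero _).symm)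
    have e1 : secMap (T.f i) V X = secMap (P.d (i - 1) i) V W₀ := (hseq i V).1 (funext fun k => by
      rw [hseqT, hseqd, hX, hW₀, hw]
      rfl)
    have e2 := hom H i V X hXd
    rw [HomologicalComplex.comp_f, secMap_comp, e1, ← secMap_comp (P.d (i - 1) i), ← T'.comm,
      secMap_comp, ← sub_eq_iff_eq_add', ← map_sub] at e2
    funext k
    rw [← hx' k]
    refine (secH_mk_eq_zero _).2 ⟨seq (i - 1) V
      (secMap (T'.f (i - 1)) V W₀ - secMap (H.hom i (i - 1)) V X) k, ?_⟩
    rw [← hseqd, e2, hX]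
  · choose y' hy' using fun k => Submodule.mkQ_surjective (secBdry L V i) (y k)
    obtain ⟨Y, hY⟩ := (hseq i V).2 fun k => (y' k : Sec (L.X i) V)
    have hYd : secMap (P.d i (i + 1)) V Y = 0 := (hseq (i + 1) V).1 (funext fun k => by
      rw [hseqd, hY]
      exact (LinearMap.mem_ker.1 (y' k).2).trans (map_zero _).symm)
    have hXd : ∀ k, secMap (L.d i (i + 1)) V (seq i V (secMap (T'.f i) V Y) k) = 0 := fun k => by
      rw [← hseqd, ← secMap_comp, T'.comm, secMap_comp, hYd, map_zero]
      exact map_zero (secMap ((Pi.π I k).f (i + 1)) V)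
    have e := hom H' i V Y hYd
    rw [HomologicalComplex.comp_f, secMap_comp] at e
    refine ⟨fun k => (secBdry L V i).mkQ ⟨_, hXd k⟩, funext fun k => ?_⟩
    rw [telMap_apply, ← map_smul, ← map_sub, ← hy' k, ← sub_eq_zero, ← map_sub, secH_mk_eq_zero]
    refine ⟨seq (i - 1) V (secMap (H'.hom i (i - 1)) V Y) k, ?_⟩
    have e' := congrArg (fun z => seq i V z k) e
    simp only [hseqT, telMap_apply] at e'
    rw [← hseqd]
    change _ = (seq i V (secMap (T'.f i) V Y) k - s.1 V • seq i V (secMap (T'.f i) V Y) (k + 1)) -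
      (y' k : Sec (L.X i) V)
    rw [e', ← congrFun hY k, eq_sub_iff_add_eq]
    exact (map_add (secMap ((Pi.π I k).f i) V) _ _).symm

set_option maxHeartbeats 800000 in
/-- Locality of the ideal of completeness. -/
theorem secIdeal_of_family (L : CochainComplex (ModSite.Mod O) ℤ) [L.IsKInjective]
    (hL : ∀ i, Injective (L.X i)) {U : C} (f : O.obj.obj (op U))
    (h : ∀ ⦃V : C⦄ (g : V ⟶ U), ∃ (ι : Type u) (Y : ι → C) (g' : ∀ a, Y a ⟶ V), Sieve.ofArrows Y g' ∈ J V ∧
      ∀ a, (O.obj.map (g' a ≫ g).op).hom f ∈ secIdeal L (Y a)) :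
    f ∈ secIdeal L U := by
  haveI : (restrCx L U).IsKInjective := isKInjective_map_of_adj (ModSite.extZeroAdj O U) L
  have hI : ∀ i, Injective ((restrCx L U).X i) := fun i =>
    haveI := hL i
    (ModSite.restr O U).injective_obj_of_injective (hL i)
  have key := mem_secIdeal_of_family (DerComp.GSec.ofSect O U f) (restrCx L U) hI (fun V => by
    obtain ⟨ι₀, Y₀, g₀, hR, hm⟩ := h V.hom
    refine ⟨ι₀, fun a => Over.mk (g₀ a ≫ V.hom), fun a => Over.homMk (g₀ a), ?_, hm⟩
    rw [GrothendieckTopology.mem_over_iff]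
    refine J.superset_covering (fun W k hk => ?_) hR
    obtain ⟨_, k', k'', ⟨a⟩, rfl⟩ := hk
    rw [Sieve.overEquiv_iff]
    exact (Sieve.mem_ofArrows_iff _ _ _).2 ⟨a, Over.homMk k' (by simp), by ext; simp⟩) (Over.mk (𝟙 U))
  have e : (DerComp.GSec.ofSect O U f).1 (Over.mk (𝟙 U)) = f := by
    change (O.obj.map (𝟙 U).op).hom f = f
    simp
  rw [e] at key
  exact key

end Groth.Agent.DerCompLib
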