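import Groth.Agent.RGamT.Derived
import Groth.Agent.FModLib.GammaBound
import Groth.Agent.DerCompLib.Criterion
import Groth.Agent.DerCompLib.KoszulOrth
import Groth.Agent.AdicRing.Basic
import Groth.Agent.RGamT.FamLocality
import Groth.Agent.FModLib.PullSys

/-!
# Complexes with coherent cohomology on formal schemes are derived complete
-/

set_option autoImplicit false
set_option backward.isDefEq.respectTransparency false
set_option backward.defeqAttrib.useBackward true
set_option linter.style.haveILetI false
set_option linter.unusedSectionVars false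
set_option maxHeartbeats 1000000

universe u

open CategoryTheory CategoryTheory.Limits CategoryTheory.Pretriangulated AlgebraicGeometry Opposite TopologicalSpace
open Groth.Agent.DerCompLib Groth.Agent.SiteDer16

attribute [local instance] HasDerivedCategory.standard

noncomputable section

namespace Groth.Agent.RGamT

section Alg

variable {R M : Type*} [CommRing R] [AddCommGroup M] [Module R M]

/-- Elements of an ideal of completeness act completely. -/
theorem isComplElt_of_adic (I : Ideal R) [IsAdicComplete I M] {f : R} (hf : f ∈ I) : IsComplElt M f := by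
  have hpow : ∀ (n : ℕ) (m : M), f ^ n • m ∈ (I ^ n • ⊤ : Submodule R M) := fun n m =>
    Submodule.smul_mem_smul (Ideal.pow_mem_pow hf n) trivial
  constructor
  · refine (injective_iff_map_eq_zero (telMap M f)).2 fun x hx => funext fun k => ?_
    have hs : ∀ k, x k = f • x (k + 1) := fun k => sub_eq_zero.1 (congrFun hx k)
    have hn : ∀ (n k : ℕ), x k = f ^ n • x (k + n) := by
      intro n
      induction n with
      | zero => intro k; simp
      | succ n ih => intro k; rw [ih k, hs (k + n), smul_smul, ← pow_succ, Nat.add_assoc]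
    exact IsHausdorff.haus (inferInstance : IsHausdorff I M) _ fun n =>
      SModEq.zero.2 (hn n k ▸ hpow n _)
  · intro y
    let P : ℕ → ℕ → M := fun k n => ∑ j ∈ Finset.range n, f ^ j • y (k + j)
    have hP : ∀ k {m n : ℕ}, m ≤ n → P k m ≡ P k n [SMOD (I ^ m • ⊤ : Submodule R M)] := fun k m n hmn => by
      refine SModEq.sub_mem.2 ?_
      rw [← neg_sub]
      refine Submodule.neg_mem _ ?_
      rw [Finset.sum_range_sub_sum_range hmn]
      refine Submodule.sum_mem _ fun j hj => ?_
      exact Submodule.smul_mono_left (Ideal.pow_le_pow_right (Finset.mem_filter.1 hj).2) (hpow j _)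
    choose L hL using fun k => IsPrecomplete.prec (inferInstance : IsPrecomplete I M) (hP k)
    refine ⟨L, funext fun k => ?_⟩
    rw [telMap_apply]
    refine (IsHausdorff.haus (inferInstance : IsHausdorff I M) _ fun n => ?_) |> sub_eq_zero.1
    have e : P k (n + 1) = f • P (k + 1) n + y k := by
      simp only [P, Finset.sum_range_succ', pow_zero, one_smul, Finset.smul_sum, smul_smul]
      congr 1
      refine Finset.sum_congr rfl fun j _ => ?_
      rw [← pow_succ', Nat.add_right_comm, Nat.add_assoc]
    have h1 : P k (n + 1) - L k ∈ (I ^ n • ⊤ : Submodule R M) :=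
      Submodule.smul_mono_left (Ideal.pow_le_pow_right n.le_succ) (SModEq.sub_mem.1 (hL k (n + 1)))
    have h2 : f • (P (k + 1) n - L (k + 1)) ∈ (I ^ n • ⊤ : Submodule R M) :=
      Submodule.smul_mem _ _ (SModEq.sub_mem.1 (hL (k + 1) n))
    refine SModEq.zero.2 ?_
    have h3 := Submodule.sub_mem _ h2 h1
    rw [e, smul_sub] at h3
    convert h3 using 1
    abel

end Alg

section Generic

variable {C : Type u} [SmallCategory C] {J : GrothendieckTopology C} {O : Sheaf J CommRingCat.{u}}

/-- A morphism out of an object in degree zero, on cohomology. -/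
def phi (X : DerivedCategory (ModSite.Mod O)) (P : ModSite.Mod O)
    (y : (DerivedCategory.singleFunctor (ModSite.Mod O) 0).obj P ⟶ X) :
    P ⟶ (DerivedCategory.homologyFunctor (ModSite.Mod O) 0).obj X :=
  (DerivedCategory.singleFunctorCompHomologyFunctorIso (ModSite.Mod O) 0).inv.app P ≫
    (DerivedCategory.homologyFunctor (ModSite.Mod O) 0).map y

theorem phi_map (X : DerivedCategory (ModSite.Mod O)) {P P' : ModSite.Mod O} (φ : P' ⟶ P)
    (y : (DerivedCategory.singleFunctor (ModSite.Mod O) 0).obj P ⟶ X) :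
    phi X P' ((DerivedCategory.singleFunctor (ModSite.Mod O) 0).map φ ≫ y) = φ ≫ phi X P y := by
  simp only [phi, Functor.map_comp]
  exact ((DerivedCategory.singleFunctorCompHomologyFunctorIso (ModSite.Mod O) 0).inv.naturality_assoc φ _).symm

theorem bijective_phi_congr (X : DerivedCategory (ModSite.Mod O)) {P P' : ModSite.Mod O} (e : P' ≅ P)
    (h : Function.Bijective (phi X P)) : Function.Bijective (phi X P') := by
  have : phi X P' = (fun z => e.hom ≫ z) ∘ phi X P ∘
      (fun y => (DerivedCategory.singleFunctor (ModSite.Mod O) 0).map e.inv ≫ y) := by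
    funext y
    show _ = e.hom ≫ phi X P _
    rw [phi_map, Iso.hom_inv_id_assoc]
  rw [this]
  exact ((Iso.homFromEquiv e).symm.bijective.comp
    (h.comp (Iso.homFromEquiv ((DerivedCategory.singleFunctor (ModSite.Mod O) 0).mapIso e)).bijective))

theorem bijective_phi_modFree (X : DerivedCategory (ModSite.Mod O)) {U : C}
    (h : Function.Bijective (fun y : (modSections O).pt.obj U ⟶ X => (modSections O).θ y)) :
    Function.Bijective (phi X ((modFree O).obj U)) := by
  let A := ModSite.Mod O
  let P := (modFree O).obj U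
  let e := (DerivedCategory.singleFunctorIsoCompQ A 0).app P
  let c : P ≅ P := (DerivedCategory.singleFunctorCompHomologyFunctorIso A 0).symm.app P ≪≫
    (DerivedCategory.homologyFunctor A 0).mapIso e ≪≫
    (DerivedCategory.homologyFunctorFactors A 0).app _ ≪≫
    HomologicalComplex.singleObjHomologySelfIso (ComplexShape.up ℤ) 0 P
  have : phi X P = (fun z => c.hom ≫ z) ∘
      (fun y : (modSections O).pt.obj U ⟶ X => (modSections O).θ y) ∘ (fun y => e.inv ≫ y) := by
    funext y
    have h1 : (DerivedCategory.homologyFunctor A 0).map e.hom ≫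
        (DerivedCategory.homologyFunctor A 0).map e.inv = 𝟙 _ := by rw [← Functor.map_comp]; simp
    simp only [phi, Sections.θ, Function.comp_apply, c, Iso.trans_hom, Category.assoc, Functor.map_comp,
      Iso.app_hom, Functor.mapIso_hom, Iso.symm_hom]
    erw [Iso.hom_inv_id_assoc, Iso.hom_inv_id_app_assoc, reassoc_of% h1]
  rw [this]
  exact (Iso.homFromEquiv c).symm.bijective.comp (h.comp (Iso.homFromEquiv e).bijective)

/-- `modFree` is `freeOn`. -/
theorem nonempty_freeOn_iso (U : C) : Nonempty (ModSite.freeOn O U ≅ (modFree O).obj U) :=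
  ⟨(Coyoneda.fullyFaithful.preimageIso (X := op ((modFree O).obj U)) (Y := op (ModSite.freeOn O U))
    (NatIso.ofComponents (fun F => ((modHomEquiv₀ O U F).trans (secEquiv U F).toEquiv.symm).toIso)
      fun {F G} g => by
        refine ConcreteCategory.hom_ext _ _ fun x => ?_
        show (secEquiv U G).toEquiv.symm (modHomEquiv₀ O U G (x ≫ g)) =
          (secEquiv U F).toEquiv.symm (modHomEquiv₀ O U F x) ≫ g
        rw [Equiv.symm_apply_eq, modHomEquiv₀_postcomp]
        show _ = secEquiv U G ((secEquiv U F).symm (modHomEquiv₀ O U F x) ≫ g)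
        rw [secEquiv_comp, AddEquiv.apply_symm_apply]
        rfl)).unop⟩

variable (P : ℕ → ModSite.Mod O)

/-- Maps out of a countable sum placed in degree zero. -/
theorem bijective_precomp_sigma (X : DerivedCategory (ModSite.Mod O)) :
    Function.Bijective (fun (y : (DerivedCategory.singleFunctor (ModSite.Mod O) 0).obj (∐ P) ⟶ X) (k : ℕ) =>
      (DerivedCategory.singleFunctor (ModSite.Mod O) 0).map (Sigma.ι P k) ≫ y) := by
  let A := ModSite.Mod O
  obtain ⟨L, hL, -, ⟨e⟩⟩ := exists_kInj_rep X
  let S := HomologicalComplex.single A (ComplexShape.up ℤ) 0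
  let i := DerivedCategory.singleFunctorIsoCompQ A 0
  have hQ : ∀ (M : A) (y : (DerivedCategory.singleFunctor A 0).obj M ⟶ X),
      ∃ g : S.obj M ⟶ L, y = i.hom.app M ≫ DerivedCategory.Q.map g ≫ e.inv := fun M y => by
    obtain ⟨g, hg⟩ := DCat.Amplitude.exists_Q_map_eq
      (CochainComplex.IsKInjective.Qh_map_bijective ((HomotopyCategory.quotient A _).obj (S.obj M)) L)
      (i.inv.app M ≫ y ≫ e.hom)
    exact ⟨g, by rw [hg]; simp⟩
  have hcomp : ∀ {M M' : A} (φ : M' ⟶ M) (g : S.obj M ⟶ L),
      (DerivedCategory.singleFunctor A 0).map φ ≫ i.hom.app M ≫ DerivedCategory.Q.map g ≫ e.inv =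
        i.hom.app M' ≫ DerivedCategory.Q.map (S.map φ ≫ g) ≫ e.inv := fun φ g => by
    rw [i.hom.naturality_assoc, Functor.map_comp, Category.assoc]
    rfl
  constructor
  · intro y y' hyy
    rw [← sub_eq_zero]
    have hz : ∀ k, (DerivedCategory.singleFunctor A 0).map (Sigma.ι P k) ≫ (y - y') = 0 := fun k => by
      rw [Preadditive.comp_sub]; exact sub_eq_zero.2 (congrFun hyy k)
    revert hz
    generalize y - y' = z
    intro hz
    obtain ⟨g, rfl⟩ := hQ _ z
    have hk : ∀ k, ∃ hh : P k ⟶ L.X (-1), hh ≫ L.d (-1) 0 =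
        (HomologicalComplex.singleObjXSelf (ComplexShape.up ℤ) 0 _).inv ≫ (S.map (Sigma.ι P k) ≫ g).f 0 := by
      intro k
      have h0 : DerivedCategory.Q.map (S.map (Sigma.ι P k) ≫ g) = 0 := by
        have := hz k
        rw [hcomp] at this
        rw [← cancel_mono e.inv, zero_comp]
        simpa using this
      have h1 : (HomotopyCategory.quotient A (ComplexShape.up ℤ)).map (S.map (Sigma.ι P k) ≫ g) = 0 := by
        refine (CochainComplex.IsKInjective.Qh_map_bijective _ L).1 ?_
        rw [Functor.map_zero, ← cancel_mono ((DerivedCategory.quotientCompQhIso A).hom.app L), zero_comp]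
        rw [DerivedCategory.quotientCompQhIso_hom_naturality, h0, comp_zero]
      let H := HomotopyCategory.homotopyOfEq _ _ (h1.trans (Functor.map_zero _ _ _).symm)
      refine ⟨(HomologicalComplex.singleObjXSelf (ComplexShape.up ℤ) 0 _).inv ≫ H.hom 0 (-1), ?_⟩
      have := H.comm 0
      rw [dNext_eq _ (show (ComplexShape.up ℤ).Rel 0 1 by simp),
        prevD_eq _ (show (ComplexShape.up ℤ).Rel (-1) 0 by simp), HomologicalComplex.zero_f, add_zero,
        HomologicalComplex.single_obj_d, zero_comp, zero_add] at this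
      rw [this, Category.assoc]
    choose hh hhk using hk
    have hg : g = HomologicalComplex.mkHomFromSingle ((Sigma.desc hh) ≫ L.d (-1) 0)
        (fun j _ => by rw [Category.assoc, L.d_comp_d, comp_zero]) := by
      refine HomologicalComplex.from_single_hom_ext ?_
      rw [HomologicalComplex.mkHomFromSingle_f,
        ← cancel_epi (HomologicalComplex.singleObjXSelf (ComplexShape.up ℤ) 0 (∐ P)).inv, Iso.inv_hom_id_assoc]
      refine Sigma.hom_ext _ _ fun k => ?_
      rw [Sigma.ι_desc_assoc, hhk k]
      simp [S, HomologicalComplex.single_map_f_self]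
    let H' : (ii jj : ℤ) → ((S.obj (∐ P)).X ii ⟶ L.X jj) := fun ii jj =>
      if hi : ii = 0 then if hj : jj = -1 then
        eqToHom (by rw [hi]) ≫ (HomologicalComplex.singleObjXSelf (ComplexShape.up ℤ) 0 (∐ P)).hom ≫
          Sigma.desc hh ≫ eqToHom (by rw [hj])
      else 0 else 0
    have hH : g = Homotopy.nullHomotopicMap H' := by
      rw [hg]
      refine HomologicalComplex.from_single_hom_ext ?_
      rw [HomologicalComplex.mkHomFromSingle_f,
        Homotopy.nullHomotopicMap_f (show (ComplexShape.up ℤ).Rel (-1) 0 by simp)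
          (show (ComplexShape.up ℤ).Rel 0 1 by simp), HomologicalComplex.single_obj_d, zero_comp, zero_add]
      simp [H']
    have hq : (HomotopyCategory.quotient A (ComplexShape.up ℤ)).map g = 0 := by
      rw [← Functor.map_zero (HomotopyCategory.quotient A (ComplexShape.up ℤ)), hH]
      refine HomotopyCategory.eq_of_homotopy _ _ (Homotopy.nullHomotopy H' fun ii jj hij => ?_)
      by_cases hi : ii = 0
      · have hj : jj ≠ -1 := fun hj => hij (by simp [hi, hj])
        simp [H', hi, hj]
      · simp [H', hi]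
    have hQg : DerivedCategory.Q.map g = 0 := by
      rw [← cancel_epi ((DerivedCategory.quotientCompQhIso A).hom.app (S.obj (∐ P))), comp_zero,
        ← DerivedCategory.quotientCompQhIso_hom_naturality, hq, Functor.map_zero, zero_comp]
    simp [hQg]
  · intro x
    choose g hg using fun k => hQ (P k) (x k)
    let G : S.obj (∐ P) ⟶ L := HomologicalComplex.mkHomFromSingle
      (Sigma.desc fun k => (HomologicalComplex.singleObjXSelf (ComplexShape.up ℤ) 0 _).inv ≫ (g k).f 0)
      (fun j _ => Sigma.hom_ext _ _ fun k => by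
        rw [Sigma.ι_desc_assoc, Category.assoc, (g k).comm 0 j, HomologicalComplex.single_obj_d, zero_comp, comp_zero, comp_zero])
    refine ⟨i.hom.app _ ≫ DerivedCategory.Q.map G ≫ e.inv, funext fun k => ?_⟩
    show (DerivedCategory.singleFunctor A 0).map (Sigma.ι P k) ≫ _ = _
    rw [hcomp, hg k]
    congr 3
    refine HomologicalComplex.from_single_hom_ext ?_
    simp [S, G, HomologicalComplex.single_map_f_self]

/-- Telescopes act bijectively on classes exactly when the sections are complete. -/
theorem bijective_tel_iff (X : DerivedCategory (ModSite.Mod O)) (U : C) (f : O.obj.obj (op U))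
    (hΦ : Function.Bijective (phi X (ModSite.freeOn O U))) :
    Function.Bijective (fun y : (DerivedCategory.singleFunctor (ModSite.Mod O) 0).obj
        (∐ fun _ : ℕ => ModSite.freeOn O U) ⟶ X =>
      (DerivedCategory.singleFunctor (ModSite.Mod O) 0).map (telEnd (gEnd U f)) ≫ y) ↔
      IsComplElt (DerCompLib.Sec ((DerivedCategory.homologyFunctor (ModSite.Mod O) 0).obj X) U) f := by
  let H := (DerivedCategory.homologyFunctor (ModSite.Mod O) 0).obj X
  let E : ((DerivedCategory.singleFunctor (ModSite.Mod O) 0).obj (∐ fun _ : ℕ => ModSite.freeOn O U) ⟶ X) →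
      (ℕ → DerCompLib.Sec H U) := fun y => seqEquiv U H (phi X _ y)
  have hE : E = (fun z k => secEquiv U H (phi X _ (z k))) ∘ (fun y k =>
      (DerivedCategory.singleFunctor (ModSite.Mod O) 0).map (Sigma.ι (fun _ : ℕ => ModSite.freeOn O U) k) ≫ y) := by
    funext y k
    show _ = secEquiv U H (phi X _ _)
    rw [phi_map]
    rfl
  have hb : Function.Bijective E := by
    rw [hE]
    exact (Function.Bijective.piMap fun _ => (secEquiv U H).bijective.comp hΦ).comp
      (bijective_precomp_sigma (fun _ : ℕ => ModSite.freeOn O U) X)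
  have ht : E ∘ (fun y => (DerivedCategory.singleFunctor (ModSite.Mod O) 0).map (telEnd (gEnd U f)) ≫ y) =
      telMap (DerCompLib.Sec H U) f ∘ E := by
    funext y
    show seqEquiv U H (phi X _ _) = telMap _ f (seqEquiv U H _)
    rw [phi_map, seqEquiv_telEnd]
  rw [← Function.Bijective.of_comp_iff' hb, ht, Function.Bijective.of_comp_iff _ hb]
  exact Iff.rfl

/-- Completeness at `(U, f)` from completeness of the sections of the cohomology objects. -/
theorem subsingleton_away_of_isComplElt (F : DerivedCategory (ModSite.Mod O)) (U : C) (f : O.obj.obj (op U))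
    (hΦ : ∀ n : ℤ, Function.Bijective (phi (F⟦n⟧) (ModSite.freeOn O U)))
    (hc : ∀ n : ℤ, IsComplElt (DerCompLib.Sec ((DerivedCategory.homologyFunctor (ModSite.Mod O) 0).obj (F⟦n⟧)) U) f) :
    ∀ n : ℤ, Subsingleton (SiteCmp.inD O ((ModSite.extZero O U).obj (DerComp.awayOver O U f)) ⟶ F⟦n⟧) := by
  haveI : HasExactColimitsOfShape ℕ (ModSite.Mod O) := exactColimitsNat
  haveI := mono_telEnd (gEnd U f)
  let S : ShortComplex (ModSite.Mod O) := ShortComplex.mk (telEnd (gEnd U f)) (cokernel.π _) (cokernel.condition _)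
  have hS : S.ShortExact :=
    { exact := ShortComplex.exact_of_g_is_cokernel S (cokernelIsCokernel _) }
  have h := (subsingleton_obj₃_iff hS.singleTriangle hS.singleTriangle_distinguished F).2 fun n =>
    (bijective_tel_iff (F⟦n⟧) U f (hΦ n)).2 (hc n)
  intro n
  exact @Equiv.subsingleton _ _
    (((DerivedCategory.singleFunctor (ModSite.Mod O) 0).mapIso (extZeroAwayIso U f)).homFromEquiv) (h n)

end Generic

section Formal

open Groth.Agent.FModLib

variable {𝔛 : FSch.Sys.{u}} {h : 𝔛.IsFormal} (hX : 𝔛.IsLocNoethFormal)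

include hX in
/-- Complexes with coherent cohomology are complete along elements of the ideals of definition. -/
theorem mem_secIdeal_of_coh (L : CochainComplex (FSch.ModF 𝔛 h) ℤ) [L.IsKInjective] (hL : ∀ i, Injective (L.X i))
    (hF : ∀ i : ℤ, FSch.IsCohF 𝔛 h (SiteCmp.HMod (DerivedCategory.Q.obj L) i)) {U : Opens (𝔛.X 0).carrier}
    (f : FBlowLib.Sec 𝔛 h U) (hf : ∀ (V : Opens (𝔛.X 0).carrier) (l : V ≤ U), AFF 𝔛 V → oRes (𝔛.Osh h) l f ∈ jdl h V) :
    f ∈ secIdeal L U := by
  let F := DerivedCategory.Q.obj L
  refine secIdeal_of_family L hL f fun W g => ⟨{V : Opens (𝔛.X 0).carrier // V ≤ W ∧ AFF 𝔛 V}, fun V => V.1,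
    fun V => homOfLE V.2.1, fun y hy => ?_, fun V => ?_⟩
  · obtain ⟨V, hV, hyV, hVU⟩ := basis_AFF (𝔛 := 𝔛) W y hy
    exact ⟨V, homOfLE hVU, Sieve.ofArrows_mk _ _ (⟨V, hVU, hV⟩ : {V : Opens (𝔛.X 0).carrier // V ≤ W ∧ AFF 𝔛 V}), hyV⟩
  have key : ∀ (W : Opens (𝔛.X 0).carrier) (l : W ≤ U), AFF 𝔛 W → oRes (𝔛.Osh h) l f ∈ secIdeal L W := by
    intro W l hW
    refine (subsingleton_extZero_away_iff L hL (Iso.refl F) W _).1
      (subsingleton_away_of_isComplElt F W (oRes (𝔛.Osh h) l f) (fun n => ?_) fun n => ?_)
    · obtain ⟨e⟩ := nonempty_freeOn_iso (O := 𝔛.Osh h) W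
      refine bijective_phi_congr _ e (bijective_phi_modFree _ ?_)
      haveI : HasExt.{u + 1} (FSch.ModF 𝔛 h) := hasExt_of_hasDerivedCategory _
      haveI : HasExt.{u} (FSch.ModF 𝔛 h) := inferInstance
      haveI : ∀ K : ℕ → DerivedCategory (FSch.ModF 𝔛 h), HasProduct K := fun K => SiteDer16.hasProduct_mod K
      refine (modSections (𝔛.Osh h)).bijective_θ_of_acyclic {V : Opens (𝔛.X 0).carrier | AFF 𝔛 V}
        (fun V => ?_) (enoughKInj_sheafOfModules _) (F⟦n⟧) (fun V hV q d hd => ?_) hW
      · obtain ⟨ι, Y, g, -, h2, h3⟩ := exists_cover_of_basis (T := (𝔛.X 0).toTopCat)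
          (B := fun V => IsAffineOpen (X := 𝔛.X 0) V) basis_AFF V ⊤ (GrothendieckTopology.top_mem _ _)
        exact ⟨ι, Y, g, h2, h3⟩
      · refine subsingleton_ext_modFree'.{u + 1, u} (𝔛.Osh h) V d _
          (affine_subsingleton_HU h hX _ ?_ hV d hd)
        haveI := closed_indCoh (𝔛 := 𝔛) h
        exact (indCoh h).prop_of_iso
          (((DerivedCategory.homologyFunctor (FSch.ModF 𝔛 h) 0).shiftIso n q (n + q) rfl).app F).symm
          (ObjectProperty.le_ind _ _ ((goodRing h hX).isFinitePresentation (isPC_of_isCohF h hX _ (hF (n + q)))))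
    · have hc : FSch.IsCohF 𝔛 h ((DerivedCategory.homologyFunctor (FSch.ModF 𝔛 h) 0).obj (F⟦n⟧)) := by
        haveI := (weakSerre_cohP h hX).1
        exact (cohP h).prop_of_iso
          (((DerivedCategory.homologyFunctor (FSch.ModF 𝔛 h) 0).shiftIso n 0 n (add_zero n)).app F).symm (hF n)
      haveI := isNoetherianRing_sec h hX hW
      haveI := (sec_props h hX hW).1
      haveI := (isPC_of_isCohF h hX _ hc).finite W hW
      haveI := AdicRing.isAdicComplete_of_finite (A := FBlowLib.Sec 𝔛 h W) (I := jdl h W)
        (DerCompLib.Sec ((DerivedCategory.homologyFunctor (FSch.ModF 𝔛 h) 0).obj (F⟦n⟧)) W)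
      exact isComplElt_of_adic (jdl h W) (hf W l hW)
  exact key V.1 (V.2.1.trans g.le) V.2.2

end Formal

end Groth.Agent.RGamT
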