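import Groth.Agent.Et18.DerivedExactAdj
import Mathlib.CategoryTheory.Functor.Derived.RightDerived
import Groth.Prelude.Def_FTors3

/-!
# Exact adjoint pairs on derived categories
-/

set_option autoImplicit false
set_option backward.isDefEq.respectTransparency false
set_option backward.defeqAttrib.useBackward true
set_option linter.style.haveILetI false
set_option linter.unusedSectionVars false

universe w w' v v' u u'

open CategoryTheory CategoryTheory.Limits

noncomputable section

namespace Groth.Agent.RGamT

variable {A : Type u} [Category.{v} A] [Abelian A] [HasDerivedCategory.{w} A]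
  {B : Type u'} [Category.{v'} B] [Abelian B] [HasDerivedCategory.{w'} B]
  {G : A ⥤ B} {F : B ⥤ A} [G.Additive] [F.Additive] (adj : G ⊣ F)
  [PreservesFiniteLimits G] [PreservesFiniteColimits G] [PreservesFiniteLimits F] [PreservesFiniteColimits F]

/-- The adjunction of exact functors on derived categories. -/
def adjD : G.mapDerivedCategory ⊣ F.mapDerivedCategory :=
  let : CatCommSq (G.mapHomologicalComplex (ComplexShape.up ℤ)) DerivedCategory.Q DerivedCategory.Q
      G.mapDerivedCategory := ⟨G.mapDerivedCategoryFactors.symm⟩
  let : CatCommSq (F.mapHomologicalComplex (ComplexShape.up ℤ)) DerivedCategory.Q DerivedCategory.Q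
      F.mapDerivedCategory := ⟨F.mapDerivedCategoryFactors.symm⟩
  (Et18.DerivedExactAdj.adjCx adj).localization DerivedCategory.Q (HomologicalComplex.quasiIso _ _)
    DerivedCategory.Q (HomologicalComplex.quasiIso _ _) G.mapDerivedCategory F.mapDerivedCategory

/-- The counit is invertible on complexes on whose cohomology it is. -/
theorem isIso_adjD_counit (M : DerivedCategory B)
    (hM : ∀ n : ℤ, IsIso (adj.counit.app ((DerivedCategory.homologyFunctor B n).obj M))) :
    IsIso ((adjD adj).counit.app M) := by
  let C := DerivedCategory.Q.objPreimage M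
  let e : DerivedCategory.Q.obj C ≅ M := DerivedCategory.Q.objObjPreimageIso M
  refine (NatTrans.isIso_app_iff_of_iso (adjD adj).counit e).1 ?_
  have hC : ∀ n : ℤ, IsIso (adj.counit.app (C.sc n).homology) := fun n =>
    (NatTrans.isIso_app_iff_of_iso adj.counit ((DerivedCategory.homologyFunctor B n).mapIso e.symm ≪≫
      (DerivedCategory.homologyFunctorFactors B n).app C)).1 (hM n)
  have := comp_preservesFiniteLimits F G
  have := comp_preservesFiniteColimits F G
  haveI hq : QuasiIso ((Et18.DerivedExactAdj.adjCx adj).counit.app C) := ⟨fun n => by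
    rw [quasiIsoAt_iff_isIso_homologyMap]
    have := hC n
    change IsIso (ShortComplex.homologyMap (ShortComplex.mapNatTrans (C.sc n) adj.counit))
    rw [ShortComplex.homologyMap_mapNatTrans]
    infer_instance⟩
  haveI : IsIso (DerivedCategory.Q.map ((Et18.DerivedExactAdj.adjCx adj).counit.app C)) := inferInstance
  rw [adjD, Adjunction.localization_counit_app]
  infer_instance

/-- The right adjoint is bijective on morphisms out of such complexes. -/
theorem bijective_mapD (M N : DerivedCategory B)
    (hM : ∀ n : ℤ, IsIso (adj.counit.app ((DerivedCategory.homologyFunctor B n).obj M))) :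
    Function.Bijective (fun φ : M ⟶ N => F.mapDerivedCategory.map φ) := by
  haveI := isIso_adjD_counit adj M hM
  have e : (fun φ : M ⟶ N => F.mapDerivedCategory.map φ) =
      ((adjD adj).homEquiv _ N) ∘ (fun φ : M ⟶ N => (adjD adj).counit.app M ≫ φ) := by
    funext φ
    rw [Function.comp_apply, Adjunction.homEquiv_unit, Functor.map_comp, ← Category.assoc]
    erw [(adjD adj).right_triangle_components M]
    exact (Category.id_comp _).symm
  rw [e]
  exact ((adjD adj).homEquiv _ N).bijective.comp
    ⟨fun a b hab => (cancel_epi _).1 hab, fun ψ => ⟨inv ((adjD adj).counit.app M) ≫ ψ, by simp⟩⟩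

variable (F) in
/-- The total right derived functor of an exact functor. -/
theorem nonempty_rightDerived_iso
    [(F.mapHomotopyCategory (ComplexShape.up ℤ) ⋙ DerivedCategory.Qh).HasRightDerivedFunctor
      (HomotopyCategory.quasiIso B (ComplexShape.up ℤ))] :
    Nonempty ((F.mapHomotopyCategory (ComplexShape.up ℤ) ⋙ DerivedCategory.Qh).totalRightDerived DerivedCategory.Qh
      (HomotopyCategory.quasiIso B (ComplexShape.up ℤ)) ≅ F.mapDerivedCategory) := by
  let W := HomotopyCategory.quasiIso B (ComplexShape.up ℤ)
  let e := F.mapDerivedCategoryFactorsh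
  haveI := Functor.isRightDerivedFunctor_of_inverts W F.mapDerivedCategory e
  exact ⟨Functor.rightDerivedUnique _ F.mapDerivedCategory
    ((F.mapHomotopyCategory (ComplexShape.up ℤ) ⋙ DerivedCategory.Qh).totalRightDerivedUnit DerivedCategory.Qh W) e.inv W⟩

end Groth.Agent.RGamT
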