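import Groth.Agent.RGamT.CompPush
import Groth.Agent.RGamT.ExactPair

/-!
# Derived functors of a completion morphism
-/

set_option autoImplicit false
set_option backward.isDefEq.respectTransparency false
set_option linter.style.haveILetI false
set_option linter.unusedSectionVars false
set_option maxHeartbeats 1000000

universe u

open CategoryTheory CategoryTheory.Limits AlgebraicGeometry Opposite TopologicalSpace

attribute [local instance] HasDerivedCategory.standard

noncomputable section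

namespace Groth.Agent.RGamT

theorem bijective_map_of_natIso {D E : Type*} [Category D] [Category E] {F G : D ⥤ E} (η : F ≅ G) {A B : D}
    (hb : Function.Bijective (fun φ : A ⟶ B => G.map φ)) : Function.Bijective (fun φ : A ⟶ B => F.map φ) := by
  have e : (fun φ : A ⟶ B => F.map φ) =
      (fun ψ => η.hom.app A ≫ ψ ≫ η.inv.app B) ∘ (fun φ : A ⟶ B => G.map φ) := by
    funext φ
    simp
  rw [e]
  refine Function.Bijective.comp ?_ hb
  exact ⟨fun a b hab => (cancel_mono (η.inv.app B)).1 ((cancel_epi (η.hom.app A)).1 hab),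
    fun ψ => ⟨η.inv.app A ≫ ψ ≫ η.hom.app B, by simp⟩⟩

theorem closed_isTors {C : Type u} [SmallCategory C] {J₀ : GrothendieckTopology C} {O : Sheaf J₀ CommRingCat.{u}}
    (I : FTors.IdealFam O) : (FTors.IsTors I).IsClosedUnderIsomorphisms :=
  ⟨fun {M N} e hM U s => by
    have h1 := FTors.IsTorsSect.hom e.hom (hM U (DerCompLib.secMap e.inv U s))
    have h2 : DerCompLib.secMap e.hom U (DerCompLib.secMap e.inv U s) = s :=
      congrArg (fun η => DerCompLib.secMap η U s) e.inv_hom_id
    exact cast (congrArg (fun x => FTors.IsTorsSect I N x) h2) h1⟩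

variable {X : Scheme.{u}} [IsLocallyNoetherian X] {𝔛 : FSch.Sys.{u}} (p : ∀ n, 𝔛.X n ⟶ X)
  (hp : ∀ n, 𝔛.ι n ≫ p (n + 1) = p n) (h : 𝔛.IsFormal) (hci : ∀ n, IsClosedImmersion (p n))
  (𝓘 : X.IdealSheafData) (hker : ∀ n, (p n).ker = 𝓘 ^ (n + 1)) (hX : 𝔛.IsLocNoethFormal)

include hci in
theorem nonempty_RpushD_iso [SiteCmp.HasRpushD (μ p hp h)] :
    haveI := preservesFiniteColimits_push p hp h hci
    haveI : PreservesLimitsOfSize.{0, 0} (pushμ p hp h) := (μ p hp h).adj.rightAdjoint_preservesLimits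
    Nonempty (SiteCmp.RpushD (μ p hp h) ≅ (μ p hp h).push.mapDerivedCategory) :=
  haveI := preservesFiniteColimits_push p hp h hci
  haveI : PreservesLimitsOfSize.{0, 0} (pushμ p hp h) := (μ p hp h).adj.rightAdjoint_preservesLimits
  nonempty_rightDerived_iso (μ p hp h).push

include hci in
/-- Cohomology of the direct image. -/
theorem nonempty_HMod_push [SiteCmp.HasRpushD (μ p hp h)] (G : DerivedCategory (FSch.ModF 𝔛 h)) (i : ℤ) :
    Nonempty (SiteCmp.HMod ((SiteCmp.RpushD (μ p hp h)).obj G) i ≅ (pushμ p hp h).obj (SiteCmp.HMod G i)) := by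
  haveI := preservesFiniteColimits_push p hp h hci
  haveI : PreservesLimitsOfSize.{0, 0} (pushμ p hp h) := (μ p hp h).adj.rightAdjoint_preservesLimits
  obtain ⟨η⟩ := nonempty_RpushD_iso p hp h hci
  obtain ⟨e⟩ := Et18.DerivedExactAdj.nonempty_homology_obj (F := (μ p hp h).push) G i
  exact ⟨(DerivedCategory.homologyFunctor _ i).mapIso (η.app G) ≪≫ e⟩

/-- Cohomology of the inverse image. -/
theorem nonempty_HMod_pull [PreservesFiniteLimits (μ p hp h).pull]
    (F : DerivedCategory (ModSite.Mod X.sheaf)) (i : ℤ) :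
    Nonempty (SiteCmp.HMod ((SiteCmp.pullD (μ p hp h)).obj F) i ≅ (μ p hp h).pull.obj (SiteCmp.HMod F i)) :=
  Et18.DerivedExactAdj.nonempty_homology_obj (F := (μ p hp h).pull) F i

include hci hker hX in
theorem bijective_RpushD_map [PreservesFiniteLimits (μ p hp h).pull] [SiteCmp.HasRpushD (μ p hp h)]
    (G H : DerivedCategory (FSch.ModF 𝔛 h)) (hG : FTors.IsDTorsF 𝔛 h G) :
    Function.Bijective (fun φ : G ⟶ H => (SiteCmp.RpushD (μ p hp h)).map φ) := by
  haveI := preservesFiniteColimits_push p hp h hci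
  haveI : PreservesLimitsOfSize.{0, 0} (pushμ p hp h) := (μ p hp h).adj.rightAdjoint_preservesLimits
  obtain ⟨η⟩ := nonempty_RpushD_iso p hp h hci
  have hb := bijective_mapD (μ p hp h).adj G H fun n => isIso_counit_of_tors p hp h hci 𝓘 hker hX (hG n)
  exact bijective_map_of_natIso η hb

include hci hker hX in
theorem isDTorsF_pullD [PreservesFiniteLimits (μ p hp h).pull] {F : DerivedCategory (ModSite.Mod X.sheaf)}
    (hF : FTors.IsDTorsZp X 𝓘 F) : FTors.IsDTorsF 𝔛 h ((SiteCmp.pullD (μ p hp h)).obj F) := fun i => by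
  obtain ⟨e⟩ := nonempty_HMod_pull p hp h F i
  haveI := closed_isTors (FTors.openIdealFam 𝔛 h)
  exact ObjectProperty.prop_of_iso _ e.symm (isTors_pull p hp h hci 𝓘 hker hX (hF i))

include hci hker hX in
theorem isDTorsZp_RpushD [SiteCmp.HasRpushD (μ p hp h)] {G : DerivedCategory (FSch.ModF 𝔛 h)}
    (hG : FTors.IsDTorsF 𝔛 h G) : FTors.IsDTorsZp X 𝓘 ((SiteCmp.RpushD (μ p hp h)).obj G) := fun i => by
  obtain ⟨e⟩ := nonempty_HMod_push p hp h hci G i
  haveI := closed_isTors (FTors.powIdealFam X 𝓘)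
  exact ObjectProperty.prop_of_iso _ e.symm (isTors_push p hp h hci 𝓘 hker hX (hG i))

end Groth.Agent.RGamT
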