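import Groth.Agent.RGamT.Adapted
import Groth.Agent.FModLib.SecColim
import Groth.Agent.FModLib.RpushDSum

/-!
# Torsion sections of sums; sums of injectives are adapted
-/

set_option autoImplicit false
set_option backward.isDefEq.respectTransparency false
set_option linter.style.haveILetI false
set_option linter.unusedSectionVars false
set_option maxHeartbeats 1000000

universe u

open CategoryTheory CategoryTheory.Limits AlgebraicGeometry Opposite TopologicalSpace
open Groth.Agent.DerCompLib Groth.Agent.FModLib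

noncomputable section

namespace Groth.Agent.RGamT

variable {𝔛 : FSch.Sys.{u}} {h : 𝔛.IsFormal} (hX : 𝔛.IsLocNoethFormal)

section Supp

variable {κ : Type u} (X : κ → FSch.ModF 𝔛 h)

open Classical in
/-- Projection onto one summand. -/
def prj (t : κ) : (∐ X) ⟶ X t := Sigma.desc fun s => if hs : s = t then eqToHom (congrArg X hs) else 0

theorem ι_prj_self (t : κ) : Sigma.ι X t ≫ prj X t = 𝟙 _ := by
  simp [prj]

theorem ι_prj_ne {s t : κ} (hst : s ≠ t) : Sigma.ι X s ≫ prj X t = 0 := by
  simp [prj, hst]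

/-- Projection onto finitely many summands. -/
def part (S : Finset κ) : (∐ X) ⟶ ∐ X := ∑ t ∈ S, prj X t ≫ Sigma.ι X t

theorem ι_part {S : Finset κ} {t : κ} (ht : t ∈ S) : Sigma.ι X t ≫ part X S = Sigma.ι X t := by
  rw [part, Preadditive.comp_sum, Finset.sum_eq_single t
    (fun s _ hs => by rw [← Category.assoc, ι_prj_ne X hs.symm, zero_comp]) (fun hn => absurd ht hn),
    ← Category.assoc, ι_prj_self, Category.id_comp]

include hX in
/-- Sections of a sum over affine opens have finite support. -/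
theorem exists_support {V : Opens (𝔛.X 0).carrier} (hV : AFF 𝔛 V) (x : DerCompLib.Sec (∐ X) V) :
    ∃ S : Finset κ, x = ∑ t ∈ S, secMap (Sigma.ι X t) V (secMap (prj X t) V x) := by
  classical
  haveI := hX.2.2 0
  haveI : PrespectralSpace (𝔛.X 0).toTopCat := inferInstanceAs (PrespectralSpace (𝔛.X 0))
  haveI : QuasiSeparatedSpace (𝔛.X 0).toTopCat := inferInstanceAs (QuasiSeparatedSpace (𝔛.X 0))
  let pres : ColimitPresentation (Finset (Discrete κ)) (∐ X) :=
    ⟨_, _, CoproductsFromFiniteFiltered.isColimitFiniteSubproductsCocone X⟩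
  obtain ⟨F, z, hz⟩ := exists_sec_rep pres (T := (𝔛.X 0).toTopCat) (IsAffineOpen.isCompact hV) x
  let S : Finset κ := F.image Discrete.as
  refine ⟨S, ?_⟩
  have hfix : pres.ι.app F ≫ part X S = pres.ι.app F := by
    refine Sigma.hom_ext _ _ fun s => ?_
    rw [← Category.assoc]
    erw [Sigma.ι_desc]
    exact ι_part X (Finset.mem_image_of_mem _ s.2)
  have h1 : secMap (part X S) V x = x := by
    conv_rhs => rw [← hz, ← hfix]
    rw [← hz]
    rfl
  conv_lhs => rw [← h1]
  rw [part]
  induction S using Finset.induction with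
  | empty => rw [Finset.sum_empty, Finset.sum_empty]; rfl
  | insert a S ha ih => rw [Finset.sum_insert ha, Finset.sum_insert ha, ← ih]; rfl

include hX in
theorem ad_sigma (hI : ∀ t, Injective (X t)) : Ad (𝔛.Osh h) (AFF 𝔛) (∐ X) := by
  intro U hU k g f n x hx
  obtain ⟨S, hS⟩ := exists_support hX X hU x
  have hxt : ∀ t i, g i • secMap (prj X t) U x = 0 := fun t i => by rw [← map_smul, hx i, map_zero]
  choose u m hu hm using fun t => (haveI := hI t; ad_of_injective' (goodRing h hX) (N := X t)) hU k g f n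
    (secMap (prj X t) U x) (hxt t)
  refine ⟨∑ t ∈ S, secMap (Sigma.ι X t) U (u t), S.sup m, fun i => ?_, ?_⟩
  · rw [Finset.smul_sum]
    exact Finset.sum_eq_zero fun t _ => by rw [← map_smul, hu, map_zero]
  · rw [hS, Finset.smul_sum, ← Finset.sum_sub_distrib, Finset.smul_sum]
    refine Finset.sum_eq_zero fun t ht => ?_
    rw [← map_smul, ← map_sub, ← map_smul, pow_smul_zero (hm t) (Finset.le_sup ht), map_zero]

include hX in
theorem preservesCoproducts_gammaT (κ : Type u) :
    PreservesColimitsOfShape (Discrete κ) (FTors.gammaT 𝔛 h) := by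
  refine ⟨fun {D} => ?_⟩
  suffices hX' : ∀ X : κ → FSch.ModF 𝔛 h, IsIso (sigmaComparison (FTors.gammaT 𝔛 h) X) by
    haveI := hX' (fun t => D.obj ⟨t⟩)
    haveI : PreservesColimit (Discrete.functor fun t => D.obj ⟨t⟩) (FTors.gammaT 𝔛 h) :=
      PreservesCoproduct.of_iso_comparison _ _
    exact preservesColimit_of_iso_diagram _
      (Discrete.natIso fun _ => Iso.refl _ : Discrete.functor (fun t => D.obj ⟨t⟩) ≅ D)
  intro X
  have hnat : sigmaComparison (FTors.gammaT 𝔛 h) X ≫ (FTors.gammaTι 𝔛 h).app (∐ X) =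
      Limits.Sigma.map fun t => (FTors.gammaTι 𝔛 h).app (X t) := by
    refine Sigma.hom_ext _ _ fun t => ?_
    rw [Sigma.ι_map, ι_comp_sigmaComparison_assoc]
    exact (FTors.gammaTι 𝔛 h).naturality (Sigma.ι X t)
  haveI : Mono (sigmaComparison (FTors.gammaT 𝔛 h) X) := by
    haveI : ∀ t : Discrete κ, Mono ((Discrete.natTrans fun t => (FTors.gammaTι 𝔛 h).app (X t.as) :
        Discrete.functor (fun t => (FTors.gammaT 𝔛 h).obj (X t)) ⟶ Discrete.functor X).app t) := fun t =>
      inferInstanceAs (Mono ((FTors.gammaTι 𝔛 h).app (X t.as)))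
    haveI : Mono (Limits.Sigma.map fun t => (FTors.gammaTι 𝔛 h).app (X t)) := by
      haveI : Mono (Discrete.natTrans fun t => (FTors.gammaTι 𝔛 h).app (X t.as) :
        Discrete.functor (fun t => (FTors.gammaT 𝔛 h).obj (X t)) ⟶ Discrete.functor X) :=
        NatTrans.mono_of_mono_app _
      haveI : HasExactColimitsOfShape (Discrete κ) (FSch.ModF 𝔛 h) := inferInstance
      exact (inferInstance : Mono (colim.map (Discrete.natTrans fun t => (FTors.gammaTι 𝔛 h).app (X t.as) :
        Discrete.functor (fun t => (FTors.gammaT 𝔛 h).obj (X t)) ⟶ Discrete.functor X)))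
    exact mono_of_mono_fac hnat
  haveI : Epi (sigmaComparison (FTors.gammaT 𝔛 h) X) := by
    refine epi_of_forall (P := AFF 𝔛) basis_AFF _ fun V hV b => ?_
    obtain ⟨S, hS⟩ := exists_support hX X hV (secMap ((FTors.gammaTι 𝔛 h).app (∐ X)) V b)
    refine ⟨∑ t ∈ S, secMap (Sigma.ι (fun t => (FTors.gammaT 𝔛 h).obj (X t)) t) V
      ⟨secMap (prj X t) V b.1, FTors.IsTorsSect.hom (prj X t) b.2⟩, ?_⟩
    apply injective_of_mono ((FTors.gammaTι 𝔛 h).app (∐ X)) V
    rw [map_sum, map_sum]
    refine Eq.trans (Finset.sum_congr rfl fun t _ => ?_) hS.symm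
    rw [← secMap_comp, ← secMap_comp, ι_comp_sigmaComparison_assoc, (FTors.gammaTι 𝔛 h).naturality]
    rfl
  exact isIso_of_mono_of_epi _

end Supp

include hX in
theorem adapted_openIdealFam [FTors.HasRgammaT 𝔛 h] :
    Adapted (FTors.openIdealFam 𝔛 h) (Ad (𝔛.Osh h) (AFF 𝔛)) where
  injective M hM := ad_of_injective' (goodRing h hX)
  biprod M N hM hN := by
    intro U hU k g f n x hx
    obtain ⟨u, m, hu, hm⟩ := hM hU k g f n (secMap biprod.fst U x) fun i => by rw [← map_smul, hx i, map_zero]
    obtain ⟨u', m', hu', hm'⟩ := hN hU k g f n (secMap biprod.snd U x) fun i => by rw [← map_smul, hx i, map_zero]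
    refine ⟨secMap biprod.inl U u + secMap biprod.inr U u', max m m', fun i => ?_, ?_⟩
    · rw [smul_add, ← map_smul, ← map_smul, hu, hu', map_zero, map_zero, add_zero]
    · have hx' : x = secMap biprod.inl U (secMap biprod.fst U x) + secMap biprod.inr U (secMap biprod.snd U x) := by
        rw [← secMap_comp, ← secMap_comp, ← secMap_add, biprod.total]
        rfl
      conv_lhs => arg 2; arg 2; rw [hx']
      rw [smul_add, add_sub_add_comm, ← map_smul, ← map_smul, ← map_sub, ← map_sub, smul_add, ← map_smul, ← map_smul,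
        pow_smul_zero hm (le_max_left _ _), pow_smul_zero hm' (le_max_right _ _), map_zero, map_zero, add_zero]
  iso M N e hM := by
    intro U hU k g f n x hx
    obtain ⟨u, m, hu, hm⟩ := hM hU k g f n (secMap e.inv U x) fun i => by rw [← map_smul, hx i, map_zero]
    refine ⟨secMap e.hom U u, m, fun i => by rw [← map_smul, hu, map_zero], ?_⟩
    have hx' : x = secMap e.hom U (secMap e.inv U x) := by rw [← secMap_comp, e.inv_hom_id]; rfl
    conv_lhs => arg 2; arg 2; rw [hx']
    rw [← map_smul, ← map_sub, ← map_smul, hm, map_zero]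
  zero M hM U s := by
    rw [show s = secMap (0 : M ⟶ M) U s from (congrArg (fun φ => secMap φ U s) (hM.eq_of_src (𝟙 M) 0) :)]
    exact FTors.IsTorsSect.zero _ _ U
  qis P hP hT := quasiIso_gamCι_of_ad hX P hP hT

end Groth.Agent.RGamT
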