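import Groth.Agent.RGamT.StalkDiv
import Groth.Agent.RGamT.Adapted
import Groth.Agent.RGamT.CompDer
import Groth.Agent.RGamT.Sums

/-!
# Inverse images of injectives to a completion are adapted to torsion sections
-/

set_option autoImplicit false
set_option backward.isDefEq.respectTransparency false
set_option linter.style.haveILetI false
set_option linter.unusedSectionVars false
set_option maxHeartbeats 1000000

universe u

open CategoryTheory CategoryTheory.Limits AlgebraicGeometry Opposite TopologicalSpace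
open Groth.Agent.DerCompLib Groth.Agent.FModLib

attribute [local instance] HasDerivedCategory.standard

noncomputable section

namespace Groth.Agent.RGamT

section Abstract

theorem isIso_map_homologyMap {A B : Type*} [Category A] [Category B] [Abelian A] [Abelian B] (F : A ⥤ B)
    [F.Additive] [F.PreservesHomology] {K L : CochainComplex A ℤ} (ι : K ⟶ L)
    [QuasiIso ((F.mapHomologicalComplex (ComplexShape.up ℤ)).map ι)] (i : ℤ) :
    IsIso (F.map (HomologicalComplex.homologyMap ι i)) := by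
  let φ := (HomologicalComplex.shortComplexFunctor A (ComplexShape.up ℤ) i).map ι
  have e := ShortComplex.mapHomologyIso_hom_naturality φ F
  haveI : IsIso (ShortComplex.homologyMap (F.mapShortComplex.map φ)) :=
    inferInstanceAs (IsIso (HomologicalComplex.homologyMap ((F.mapHomologicalComplex (ComplexShape.up ℤ)).map ι) i))
  exact IsIso.of_isIso_fac_left e.symm

theorem isIso_of_map_iso {A B : Type*} [Category A] [Category B] {L : A ⥤ B} {R : B ⥤ A} (adj : L ⊣ R) {X Y : A}
    {f : X ⟶ Y} (hf : IsIso (L.map f)) (hX : IsIso (adj.unit.app X)) (hY : IsIso (adj.unit.app Y)) : IsIso f := by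
  haveI := hf
  haveI := hX
  haveI := hY
  haveI : IsIso (f ≫ adj.unit.app Y) := by
    rw [show f ≫ adj.unit.app Y = adj.unit.app X ≫ R.map (L.map f) from adj.unit.naturality f]
    infer_instance
  exact IsIso.of_isIso_comp_right f (adj.unit.app Y)

end Abstract

section Generic

variable {T : TopCat.{u}} {O : Sheaf (Opens.grothendieckTopology T) CommRingCat.{u}} (I : FTors.IdealFam O)

theorem mono_gammaι (M : ModSite.Mod O) : Mono ((FTors.gammaι I).app M) :=
  mono_of_injective_sec _ fun _ _ _ e => Subtype.ext e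

theorem isTors_gamma (M : ModSite.Mod O) : FTors.IsTors I ((FTors.gamma O I).obj M) := by
  intro U s y hy
  obtain ⟨V, j, ⟨n, hn⟩, hyV⟩ := s.2 y hy
  exact ⟨V, j, ⟨n, fun V' g b hb => Subtype.ext (hn g b hb)⟩, hyV⟩

theorem isIso_gammaι_of_tors {M : ModSite.Mod O} (hM : FTors.IsTors I M) : IsIso ((FTors.gammaι I).app M) :=
  isIso_of_forall (P := fun _ => True) (fun U _ hx => ⟨U, trivial, hx, le_rfl⟩) _ fun _ _ =>
    ⟨fun _ _ e => Subtype.ext e, fun x => ⟨⟨x, hM _ x⟩, rfl⟩⟩

theorem isTors_mono_gen {M N : ModSite.Mod O} (ι : M ⟶ N) [Mono ι] (hN : FTors.IsTors I N) :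
    FTors.IsTors I M := by
  intro U s y hy
  obtain ⟨V, j, ⟨n, hn⟩, hyV⟩ := hN U (secMap ι U s) y hy
  refine ⟨V, j, ⟨n, fun V' g b hb => ?_⟩, hyV⟩
  apply injective_of_mono ι V'
  rw [map_smul, map_zero]
  refine Eq.trans (congrArg (b • ·) ?_) (hn g b hb)
  exact (secMap_secRes' ι g _).trans (congrArg (secRes N g) (secMap_secRes' ι j s))

theorem isTors_epi_gen {M N : ModSite.Mod O} (q : M ⟶ N) [Epi q] (hM : FTors.IsTors I M) :
    FTors.IsTors I N := by
  intro U s y hy
  obtain ⟨V, i, hyV, a, ha⟩ := locally_surjective_of_epi q s hy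
  obtain ⟨V', j, ⟨n, hn⟩, hyV'⟩ := hM V a y hyV
  refine ⟨V', j ≫ homOfLE i, ⟨n, fun W g b hb => ?_⟩, hyV'⟩
  have h1 := congrArg (secMap q W) (hn g b hb)
  rw [map_smul, map_zero] at h1
  refine Eq.trans (congrArg (b • ·) ?_) h1
  refine Eq.trans ?_ ((secMap_secRes' q g _).trans (congrArg (secRes N g) (secMap_secRes' q j a))).symm
  rw [FTors.res_comp, ha]
  rfl

theorem homology_tors (P : CochainComplex (ModSite.Mod O) ℤ) (i : ℤ) : FTors.IsTors I ((gC I P).homology i) :=
  isTors_epi_gen I ((gC I P).homologyπ i) (isTors_mono_gen I ((gC I P).iCycles i) (isTors_gamma I (P.X i)))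

/-- A torsion subcomplex morphism is an isomorphism on torsion terms. -/
theorem isIso_gCι_of_tors (P : CochainComplex (ModSite.Mod O) ℤ) (hP : ∀ n, FTors.IsTors I (P.X n)) :
    IsIso (gCι I P) := by
  haveI : ∀ n, IsIso ((gCι I P).f n) := fun n => by rw [gCι_f]; exact isIso_gammaι_of_tors I (hP n)
  exact HomologicalComplex.Hom.isIso_of_components _

end Generic

variable {X : Scheme.{u}} [IsLocallyNoetherian X] {𝔛 : FSch.Sys.{u}} (p : ∀ n, 𝔛.X n ⟶ X)
  (hp : ∀ n, 𝔛.ι n ≫ p (n + 1) = p n) (h : 𝔛.IsFormal) (hci : ∀ n, IsClosedImmersion (p n))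
  (𝓘 : X.IdealSheafData) (hker : ∀ n, (p n).ker = 𝓘 ^ (n + 1)) (hX : 𝔛.IsLocNoethFormal)

include hci hker hX in
theorem goodNhds_of_adS (K : CochainComplex (FSch.ModF 𝔛 h) ℤ) (hK : ∀ n, AdS p hp h (K.X n)) : GoodNhds K := by
  classical
  intro V y hy
  obtain ⟨_, ⟨W, hW, rfl⟩, hyW, hle⟩ := basis_tr₀ p hci V y hy
  haveI : IsNoetherianRing Γ(X, W) := IsLocallyNoetherian.component_noetherian ⟨W, hW⟩
  obtain ⟨q, a, ha⟩ := Submodule.fg_iff_exists_fin_generating_family.1 (IsNoetherian.noetherian (𝓘.ideal ⟨W, hW⟩))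
  let a' : ℕ → Γ(X, W) := fun l => if hl : l < q then a ⟨l, hl⟩ else 0
  have ha' : ∀ l, a' l ∈ 𝓘.ideal ⟨W, hW⟩ := fun l => by
    by_cases hl : l < q
    · simp only [a', dif_pos hl, ← ha]
      exact Submodule.subset_span ⟨⟨l, hl⟩, rfl⟩
    · simp [a', dif_neg hl]
  have hA := isAffineOpen_tr₀ p hci hW
  have hmem : ∀ l, sharp p hp h W (a' l) ∈ jdl h (tr₀ p W) := fun l =>
    jdl_tr p hp h hci 𝓘 hker hX hW ▸ Ideal.mem_map_of_mem _ (ha' l)
  refine ⟨tr₀ p W, hA, hyW, hle, q, fun l => sharp p hp h W (a' l), ?_, fun l V' hV hV' => ?_, ?_⟩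
  · rw [← jdl_tr p hp h hci 𝓘 hker hX hW, ← Set.image_image (sharp p hp h W) a' (Set.Iio q), ← Ideal.map_span]
    congr 1
    refine le_antisymm (Ideal.span_le.2 ?_) ?_
    · rintro _ ⟨l, -, rfl⟩
      exact ha' l
    · rw [← ha]
      refine Submodule.span_le.2 ?_
      rintro _ ⟨l, rfl⟩
      exact Ideal.subset_span ⟨l, l.2, by simp [a']⟩
  · rw [← map_jdl_eq h hX hV hA hV']
    exact Ideal.mem_map_of_mem _ (hmem l)
  · intro k i V' hV hA' n x hx z hz
    obtain ⟨N, hN⟩ := hx
    obtain ⟨V'', l, hA'', hz'', u, m, hu, hm⟩ := hK i hW k (fun j : Fin k => a' j ^ N) (a' k) n hV x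
      (fun j => by rw [map_pow, map_pow]; exact hN j j.2) z hz
    exact ⟨V'', l, hA'', hz'', u, m, ⟨N, fun j hj => by
      have := hu ⟨j, hj⟩
      rwa [map_pow, map_pow] at this⟩, hm⟩

include hci hker hX in
theorem quasiIso_gCι_adS (P : CochainComplex (FSch.ModF 𝔛 h) ℤ) (hP : ∀ n, AdS p hp h (P.X n))
    (hT : ∀ i, FTors.IsTorsF 𝔛 h (P.homology i)) : QuasiIso (gCι (FTors.openIdealFam 𝔛 h) P) :=
  quasiIso_gamCι_of_goodNhds hX P hT (goodNhds_of_adS p hp h hci 𝓘 hker hX P hP)

include hci hker hX in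
theorem adapted_adS [FTors.HasRgammaT 𝔛 h] : Adapted (FTors.openIdealFam 𝔛 h) (AdS p hp h) where
  injective M hM := adS_of_injective p hp h hci hX M
  biprod M N hM hN := by
    intro W hW k g f n V hV x hx z hz
    obtain ⟨V₁, l₁, -, hz₁, u, m, hu, hm⟩ := hM hW k g f n hV (secMap biprod.fst V x)
      (fun i => by rw [← map_smul, hx i, map_zero]) z hz
    obtain ⟨V₂, l₂, hA₂, hz₂, u', m', hu', hm'⟩ := hN hW k g f n (l₁.trans hV) (secMap biprod.snd V₁ (mRes _ l₁ x))
      (fun i => by rw [← map_smul, ← oRes_oRes hV l₁, ← mRes_smul, hx i, map_zero, map_zero]) z hz₁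
    let hV₂ : V₂ ≤ tr₀ p W := l₂.trans (l₁.trans hV)
    let c := oRes (𝔛.Osh h) hV₂ (sharp p hp h W f)
    refine ⟨V₂, l₂.trans l₁, hA₂, hz₂, secMap biprod.inl V₂ (mRes M l₂ u) + secMap biprod.inr V₂ u', max m m',
      fun i => ?_, ?_⟩
    · rw [smul_add, ← map_smul (secMap biprod.inl V₂), ← map_smul (secMap biprod.inr V₂), hu', ← oRes_oRes (l₁.trans hV) l₂, ← mRes_smul, hu, map_zero, map_zero,
        map_zero, add_zero]
    · have h1 : c ^ m • (c ^ n • mRes M l₂ u - secMap biprod.fst V₂ (mRes _ (l₂.trans l₁) x)) = 0 := by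
        have := congrArg (mRes M l₂) hm
        rw [map_zero, mRes_smul, map_sub, mRes_smul, map_pow, map_pow, oRes_oRes, mRes_mRes, ← secMap_mRes] at this
        exact this
      have h2 : c ^ m' • (c ^ n • u' - secMap biprod.snd V₂ (mRes _ (l₂.trans l₁) x)) = 0 := by
        rw [← secMap_mRes, mRes_mRes] at hm'
        exact hm'
      have hx' : mRes (M ⊞ N) (l₂.trans l₁) x = secMap biprod.inl V₂ (secMap biprod.fst V₂ (mRes _ (l₂.trans l₁) x)) +
          secMap biprod.inr V₂ (secMap biprod.snd V₂ (mRes _ (l₂.trans l₁) x)) := by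
        rw [← secMap_comp, ← secMap_comp, ← secMap_add, biprod.total]
        rfl
      conv_lhs => arg 2; arg 2; rw [hx']
      rw [smul_add, add_sub_add_comm, ← map_smul (secMap biprod.inl V₂), ← map_smul (secMap biprod.inr V₂), ← map_sub,
        ← map_sub, smul_add, ← map_smul (secMap biprod.inl V₂), ← map_smul (secMap biprod.inr V₂),
        pow_smul_zero h1 (le_max_left _ _), pow_smul_zero h2 (le_max_right _ _), map_zero, map_zero, add_zero]
  iso M N e hM := by
    intro W hW k g f n V hV x hx z hz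
    obtain ⟨V', l, hA, hz', u, m, hu, hm⟩ := hM hW k g f n hV (secMap e.inv V x)
      (fun i => by rw [← map_smul, hx i, map_zero]) z hz
    refine ⟨V', l, hA, hz', secMap e.hom V' u, m, fun i => by rw [← map_smul, hu, map_zero], ?_⟩
    have h1 := congrArg (secMap e.hom V') hm
    rw [map_smul, map_sub, map_smul, map_zero, secMap_mRes, ← secMap_comp, e.inv_hom_id] at h1
    exact h1
  zero M hM U s := by
    rw [show s = secMap (0 : M ⟶ M) U s from (congrArg (fun φ => secMap φ U s) (hM.eq_of_src (𝟙 M) 0) :)]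
    exact FTors.IsTorsSect.zero _ _ U
  qis P hP hT := quasiIso_gCι_adS p hp h hci 𝓘 hker hX P hP hT

include hci hker hX in
/-- Torsion sections commute with inverse image. -/
theorem isIso_gamma_pull_ι [PreservesFiniteLimits (μ p hp h).pull] (N : ModSite.Mod X.sheaf) :
    IsIso ((FTors.gamma (𝔛.Osh h) (FTors.openIdealFam 𝔛 h)).map
      ((μ p hp h).pull.map ((FTors.gammaι (FTors.powIdealFam X 𝓘)).app N))) := by
  let ι := (μ p hp h).pull.map ((FTors.gammaι (FTors.powIdealFam X 𝓘)).app N)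
  let γ := FTors.gamma (𝔛.Osh h) (FTors.openIdealFam 𝔛 h)
  let G := (μ p hp h).pull.obj ((FTors.gamma X.sheaf (FTors.powIdealFam X 𝓘)).obj N)
  haveI := mono_gammaι (FTors.powIdealFam X 𝓘) N
  haveI hι : Mono ι := inferInstance
  have hG : FTors.IsTorsF 𝔛 h G := isTors_pull p hp h hci 𝓘 hker hX (isTors_gamma _ N)
  haveI : Mono (γ.map ι) := mono_of_injective_sec _ fun V a b e => Subtype.ext
    (injective_of_mono ι V (congrArg Subtype.val e))
  haveI : Epi (γ.map ι) := by
    refine FModLib.epi_of_locally _ fun V b => ?_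
    refine ⟨⟨fun W => {k | ∃ a, secMap (γ.map ι) W a = secRes _ k b},
      fun {W W'} k ⟨a, ha⟩ j => ⟨secRes _ j a, by rw [secMap_secRes', ha, FModLib.secRes_comp]⟩⟩, fun y hy => ?_,
      fun W k hk => hk⟩
    obtain ⟨V', l, hyV', t, ht⟩ := exists_pull_gamma p hp h hci 𝓘 hker hX b.1 b.2 hy
    exact ⟨V', homOfLE l, ⟨⟨t, hG V' t⟩, Subtype.ext ht⟩, hyV'⟩
  exact isIso_of_mono_of_epi _

include hci hker hX in
theorem isIso_gMap_pull_gCι [PreservesFiniteLimits (μ p hp h).pull] (P : CochainComplex (ModSite.Mod X.sheaf) ℤ) :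
    IsIso (gMap (FTors.openIdealFam 𝔛 h)
      (((μ p hp h).pull.mapHomologicalComplex (ComplexShape.up ℤ)).map (gCι (FTors.powIdealFam X 𝓘) P))) := by
  haveI : ∀ n, IsIso ((gMap (FTors.openIdealFam 𝔛 h)
      (((μ p hp h).pull.mapHomologicalComplex (ComplexShape.up ℤ)).map (gCι (FTors.powIdealFam X 𝓘) P))).f n) :=
    fun n => by
      show IsIso ((FTors.gamma (𝔛.Osh h) _).map ((μ p hp h).pull.map ((gCι (FTors.powIdealFam X 𝓘) P).f n)))
      rw [gCι_f]
      exact isIso_gamma_pull_ι p hp h hci 𝓘 hker hX (P.X n)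
  exact HomologicalComplex.Hom.isIso_of_components _

include hci hker hX in
/-- The inputs about `Γ_Z` on the scheme. -/
theorem hyp_powIdealFam [PreservesFiniteLimits (μ p hp h).pull] : Hyp (FTors.powIdealFam X 𝓘) where
  homology := homology_tors _
  idem M := isIso_gammaι_of_tors _ (isTors_gamma _ M)
  mono := mono_gammaι _
  qis J hJ hT := by
    let I := FTors.openIdealFam 𝔛 h
    let G := gC (FTors.powIdealFam X 𝓘) J
    let ι := gCι (FTors.powIdealFam X 𝓘) J
    let F := (μ p hp h).pull.mapHomologicalComplex (ComplexShape.up ℤ)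
    haveI := isIso_gMap_pull_gCι p hp h hci 𝓘 hker hX J
    haveI := isIso_gCι_of_tors I (F.obj G) fun n => isTors_pull p hp h hci 𝓘 hker hX (isTors_gamma _ (J.X n))
    haveI : QuasiIso (gCι I (F.obj J)) := by
      refine quasiIso_gCι_adS p hp h hci 𝓘 hker hX (F.obj J) (fun n => haveI := hJ n
        adS_pull p hp h hci 𝓘 hker hX (J.X n)) fun i => ?_
      haveI := closed_isTors I
      exact ObjectProperty.prop_of_iso _ ((J.sc i).mapHomologyIso (μ p hp h).pull).symm
        (isTors_pull p hp h hci 𝓘 hker hX (hT i))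
    have e : gMap I (F.map ι) ≫ gCι I (F.obj J) = gCι I (F.obj G) ≫ F.map ι := by
      refine HomologicalComplex.hom_ext _ _ fun n => ?_
      show (gMap I (F.map ι)).f n ≫ (gCι I (F.obj J)).f n = (gCι I (F.obj G)).f n ≫ (F.map ι).f n
      rw [gCι_f, gCι_f]
      exact (FTors.gammaι I).naturality _
    haveI : QuasiIso (F.map ι) := by
      haveI : QuasiIso (gCι I (F.obj G) ≫ F.map ι) := e ▸ inferInstance
      exact quasiIso_of_comp_left (gCι I (F.obj G)) (F.map ι)
    refine ⟨fun i => ?_⟩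
    rw [quasiIsoAt_iff_isIso_homologyMap]
    exact isIso_of_map_iso (μ p hp h).adj (isIso_map_homologyMap (μ p hp h).pull ι i)
      (isIso_unit_of_tors p hp h hci 𝓘 hker hX (homology_tors (FTors.powIdealFam X 𝓘) J i))
      (isIso_unit_of_tors p hp h hci 𝓘 hker hX (hT i))

end Groth.Agent.RGamT
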