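import Groth.Agent.RGamT.CompHom
import Groth.Agent.DCat.BoundedDevissage17
import Groth.Agent.Coherent.CohOps

/-!
# Algebraization of coherent objects on completions: bounded objects
-/

set_option autoImplicit false
set_option backward.isDefEq.respectTransparency false
set_option backward.defeqAttrib.useBackward true
set_option linter.style.haveILetI false
set_option linter.unusedSectionVars false
set_option maxHeartbeats 1000000
set_option synthInstance.maxHeartbeats 400000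

universe u

open ZeroObject
open CategoryTheory CategoryTheory.Limits CategoryTheory.Pretriangulated AlgebraicGeometry Opposite TopologicalSpace
open Groth.Agent.DerCompLib Groth.Agent.FModLib

attribute [local instance] HasDerivedCategory.standard

noncomputable section

namespace Groth.Agent.RGamT

variable {X : Scheme.{u}} [IsLocallyNoetherian X] (𝓘 : X.IdealSheafData)
  (hX : (FSch.completionAlong X 𝓘).IsFormal) [PreservesFiniteLimits (κ 𝓘 hX).pull]
  {A : Type u} [CommRing A] [IsNoetherianRing A] (I : Ideal A) [IsAdicComplete I A]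
  (f : X ⟶ Spec (CommRingCat.of A)) [IsProper f] (h𝓘 : 𝓘 = (FSch.idealSpec A I).comap f)

local instance shAddA : ∀ n : ℤ, (shiftFunctor (DerivedCategory (ModSite.Mod X.sheaf)) n).Additive :=
  fun _ => inferInstance

local instance shAddB : ∀ n : ℤ, (shiftFunctor (DerivedCategory (FSch.ModF (FSch.completionAlong X 𝓘) hX)) n).Additive :=
  fun _ => inferInstance

/-- The inverse image on derived categories. -/
abbrev LD : DerivedCategory (ModSite.Mod X.sheaf) ⥤ DerivedCategory (FSch.ModF (FSch.completionAlong X 𝓘) hX) :=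
  SiteCmp.pullD (κ 𝓘 hX)

include h𝓘 in
/-- The inverse image detects isomorphisms of coherent modules. -/
theorem isIso_of_isIso_pull {M N : X.Modules} (hM : Coh.IsCoh M) (hN : Coh.IsCoh N) (φ : M ⟶ N)
    [IsIso ((pullC 𝓘 hX).map φ)] : IsIso φ := by
  haveI : CompactSpace X := QuasiCompact.compactSpace_of_compactSpace f
  haveI : PreservesFiniteLimits (pullC 𝓘 hX) := ‹_›
  haveI : PreservesFiniteColimits (pullC 𝓘 hX) := SiteCmp.preservesFiniteColimits_pull (κ 𝓘 hX)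
  haveI hk : Coh.IsQCoh (kernel φ) := (Coherent.isCoh_kernel φ hM hN.1).1
  haveI hc : Coh.IsQCoh (cokernel φ) := (Coherent.isCoh_cokernel φ hM.1 hN).1
  haveI : Mono φ := Preadditive.mono_of_kernel_iso_zero (isZero_of_isZero_pullC 𝓘 hX I f h𝓘 _
    (IsZero.of_iso (isZero_kernel_of_mono ((pullC 𝓘 hX).map φ)) (PreservesKernel.iso (pullC 𝓘 hX) φ))).isoZero
  haveI : Epi φ := Preadditive.epi_of_cokernel_iso_zero (isZero_of_isZero_pullC 𝓘 hX I f h𝓘 _
    (IsZero.of_iso (isZero_cokernel_of_epi ((pullC 𝓘 hX).map φ)) (PreservesCokernel.iso (pullC 𝓘 hX) φ))).isoZero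
  exact isIso_of_mono_of_epi φ

include h𝓘 in
theorem isIso_homology_of_mapD {K L : DerivedCategory (ModSite.Mod X.sheaf)} (hK : DCoh.IsCohD (X := X) K)
    (hL : DCoh.IsCohD (X := X) L) (φ : K ⟶ L) (n : ℤ)
    [IsIso ((DerivedCategory.homologyFunctor _ n).map ((LD 𝓘 hX).map φ))] :
    IsIso ((DerivedCategory.homologyFunctor (ModSite.Mod X.sheaf) n).map φ) := by
  haveI : IsIso ((pullC 𝓘 hX).map ((DerivedCategory.homologyFunctor (ModSite.Mod X.sheaf) n).map φ)) :=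
    isIso_of_isIso_homology_mapD (κ 𝓘 hX).pull φ n
  exact isIso_of_isIso_pull 𝓘 hX I f h𝓘 (hK n) (hL n) _

include h𝓘 in
theorem isZero_homology_of_mapD {K : DerivedCategory (ModSite.Mod X.sheaf)} (hK : DCoh.IsCohD (X := X) K) (n : ℤ)
    (hz : IsZero ((DerivedCategory.homologyFunctor _ n).obj ((LD 𝓘 hX).obj K))) :
    IsZero ((DerivedCategory.homologyFunctor (ModSite.Mod X.sheaf) n).obj K) :=
  haveI : CompactSpace X := QuasiCompact.compactSpace_of_compactSpace f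
  haveI : Coh.IsQCoh (X := X) ((DerivedCategory.homologyFunctor (ModSite.Mod X.sheaf) n).obj K) := (hK n).1
  isZero_of_isZero_pullC 𝓘 hX I f h𝓘 _ (hz.of_iso (homologyObjIso (κ 𝓘 hX).pull K n).symm)

include h𝓘 in
theorem isLE_of_mapD {K : DerivedCategory (ModSite.Mod X.sheaf)} (hK : DCoh.IsCohD (X := X) K) (b : ℤ)
    [((LD 𝓘 hX).obj K).IsLE b] : K.IsLE b :=
  (DerivedCategory.isLE_iff _ _).2 fun n hn =>
    isZero_homology_of_mapD 𝓘 hX I f h𝓘 hK n (DerivedCategory.isZero_of_isLE _ b n hn)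

include h𝓘 in
theorem isGE_of_mapD {K : DerivedCategory (ModSite.Mod X.sheaf)} (hK : DCoh.IsCohD (X := X) K) (c : ℤ)
    [((LD 𝓘 hX).obj K).IsGE c] : K.IsGE c :=
  (DerivedCategory.isGE_iff _ _).2 fun n hn =>
    isZero_homology_of_mapD 𝓘 hX I f h𝓘 hK n (DerivedCategory.isZero_of_isGE _ c n hn)

theorem cohIn_singleI (i : ℤ) (F : X.Modules) (hF : Coh.IsCoh F) :
    DCoh.IsCohD (X := X) ((DerivedCategory.singleFunctor X.Modules i).obj F) := by
  intro j
  by_cases hj : j = i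
  · subst hj
    exact Coherent.isCoh_iso ((DerivedCategory.singleFunctorCompHomologyFunctorIso X.Modules j).app F).symm hF
  · have hz : IsZero ((DerivedCategory.homologyFunctor X.Modules j).obj ((DerivedCategory.singleFunctor X.Modules i).obj F)) := by
      rcases lt_or_gt_of_ne hj with h | h
      · exact DerivedCategory.isZero_of_isGE ((DerivedCategory.singleFunctor X.Modules i).obj F) i j h
      · exact DerivedCategory.isZero_of_isLE ((DerivedCategory.singleFunctor X.Modules i).obj F) i j h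
    obtain ⟨Z, hZ, hPZ⟩ := (DQCoh.coh X).exists_prop_of_containsZero
    exact (DQCoh.coh X).prop_of_iso (hZ.iso hz) hPZ

/-- Algebraizable objects of bounded amplitude. -/
def AlgB (G : DerivedCategory (FSch.ModF (FSch.completionAlong X 𝓘) hX)) : Prop :=
  ∃ E : DerivedCategory (ModSite.Mod X.sheaf), DCoh.IsCohD (X := X) E ∧
    (∃ c b : ℤ, E.IsGE c ∧ E.IsLE b) ∧ Nonempty ((LD 𝓘 hX).obj E ≅ G)

include h𝓘 in
theorem algB_ext (T : Triangle (DerivedCategory (FSch.ModF (FSch.completionAlong X 𝓘) hX)))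
    (hT : T ∈ distTriang (DerivedCategory (FSch.ModF (FSch.completionAlong X 𝓘) hX)))
    (h1 : AlgB 𝓘 hX T.obj₁) (h3 : AlgB 𝓘 hX T.obj₃) : AlgB 𝓘 hX T.obj₂ := by
  obtain ⟨E1, hE1, ⟨c1, b1, hc1, hb1⟩, ⟨e1⟩⟩ := h1
  obtain ⟨E3, hE3, ⟨c3, b3, hc3, hb3⟩, ⟨e3⟩⟩ := h3
  haveI : (E1⟦(1 : ℤ)⟧).IsGE (c1 - 1) := DerivedCategory.TStructure.t.isGE_shift E1 c1 1 (c1 - 1) (by omega)
  obtain ⟨d, hd⟩ := (bijective_pullD_coh 𝓘 hX I f h𝓘 E3 (E1⟦(1 : ℤ)⟧) hE3 (isCohD_shift E1 hE1 1) b3 (c1 - 1)).2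
    (e3.hom ≫ T.mor₃ ≫ (shiftFunctor _ (1 : ℤ)).map e1.inv ≫ ((LD 𝓘 hX).commShiftIso (1 : ℤ)).inv.app E1)
  change (LD 𝓘 hX).map d = _ at hd
  obtain ⟨E2, a, b, hS⟩ := distinguished_cocone_triangle₂ d
  refine ⟨E2, SiteDer16.cohIn_obj₂ (A := X.Modules) (DQCoh.coh X) hS hE1 hE3, ⟨min c1 c3, max b1 b3,
    DerivedCategory.TStructure.t.isGE₂ _ hS _ (DerivedCategory.TStructure.t.isGE_of_ge E1 _ c1 (by omega))
      (DerivedCategory.TStructure.t.isGE_of_ge E3 _ c3 (by omega)),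
    DerivedCategory.TStructure.t.isLE₂ _ hS _ (DerivedCategory.TStructure.t.isLE_of_le E1 b1 _ (by omega))
      (DerivedCategory.TStructure.t.isLE_of_le E3 b3 _ (by omega))⟩, ?_⟩
  have hS' := (LD 𝓘 hX).map_distinguished _ hS
  have comm : ((LD 𝓘 hX).mapTriangle.obj (Triangle.mk a b d)).mor₃ ≫ (shiftFunctor _ (1 : ℤ)).map e1.hom =
      e3.hom ≫ T.mor₃ := by
    change ((LD 𝓘 hX).map d ≫ ((LD 𝓘 hX).commShiftIso (1 : ℤ)).hom.app E1) ≫ _ = _
    simp [hd, ← Functor.map_comp]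
  obtain ⟨m, hm1, hm2⟩ := complete_distinguished_triangle_morphism₂ _ _ hS' hT e1.hom e3.hom comm
  let τ : (LD 𝓘 hX).mapTriangle.obj (Triangle.mk a b d) ⟶ T :=
    { hom₁ := e1.hom, hom₂ := m, hom₃ := e3.hom, comm₁ := hm1, comm₂ := hm2, comm₃ := comm }
  haveI : IsIso τ.hom₂ := isIso₂_of_isIso₁₃ τ hS' hT (inferInstanceAs (IsIso e1.hom)) (inferInstanceAs (IsIso e3.hom))
  exact ⟨asIso τ.hom₂⟩

include h𝓘 in
/-- Bounded objects with coherent cohomology algebraize. -/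
theorem algB_of_bounded (G : DerivedCategory (FSch.ModF (FSch.completionAlong X 𝓘) hX))
    (hG : ∀ i : ℤ, FSch.IsCohF _ hX (SiteCmp.HMod G i)) (c b : ℤ) [G.IsGE c] [G.IsLE b] : AlgB 𝓘 hX G := by
  refine BoundedDevissage17.prop_of_homology (AlgB 𝓘 hX) ?_ ?_ (algB_ext 𝓘 hX I f h𝓘) (b + 1 - c).toNat c G
    ‹_› (DerivedCategory.TStructure.t.isLE_of_le G b _ (by omega)) fun i => ?_
  · rintro K L e ⟨E, hE, hb, ⟨e'⟩⟩
    exact ⟨E, hE, hb, ⟨e' ≪≫ e⟩⟩
  · intro K hK
    refine ⟨0, SiteDer16.cohIn_zero (A := X.Modules) (DQCoh.coh X) (isZero_zero _), ⟨0, 0, ?_, ?_⟩,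
      ⟨((LD 𝓘 hX).map_isZero (isZero_zero _)).iso hK⟩⟩
    · exact (DerivedCategory.isGE_iff _ _).2 fun n _ => Functor.map_isZero _ (isZero_zero _)
    · exact (DerivedCategory.isLE_iff _ _).2 fun n _ => Functor.map_isZero _ (isZero_zero _)
  · obtain ⟨F, hF, ⟨eF⟩⟩ := exists_coh_pullC_iso 𝓘 hX I f h𝓘 _ (hG i)
    refine ⟨(DerivedCategory.singleFunctor (ModSite.Mod X.sheaf) i).obj F, ?_, ⟨i, i, inferInstance, inferInstance⟩,
      ⟨((κ 𝓘 hX).pull.mapDerivedCategorySingleFunctor i).app F ≪≫ (DerivedCategory.singleFunctor _ i).mapIso eF⟩⟩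
    exact cohIn_singleI i F hF

end Groth.Agent.RGamT
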