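import Groth.Agent.RGamT.CompAlgzUp
import Groth.Agent.DCat.Hocolim
import Groth.Agent.DCat.DerivedLimits
import Groth.Agent.DQCoh.Coproduct
import Mathlib.CategoryTheory.Limits.Constructions.EventuallyConstant

/-!
# Algebraization of coherent objects on completions: the unbounded case
-/

set_option autoImplicit false
set_option backward.isDefEq.respectTransparency false
set_option backward.defeqAttrib.useBackward true
set_option linter.style.haveILetI false
set_option linter.unusedSectionVars false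
set_option maxHeartbeats 1000000
set_option synthInstance.maxHeartbeats 400000

universe u w w' v v' u'

open CategoryTheory CategoryTheory.Limits CategoryTheory.Pretriangulated AlgebraicGeometry Opposite TopologicalSpace
open Groth.Agent.DerCompLib Groth.Agent.FModLib

attribute [local instance] HasDerivedCategory.standard

noncomputable section

namespace Groth.Agent.RGamT

section Generic

/-- A triangulated left adjoint and homotopy colimits. -/
theorem exists_hocolim_comparison {D : Type u} [Category.{v} D] [Preadditive D] [HasZeroObject D] [HasShift D ℤ]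
    [∀ n : ℤ, (shiftFunctor D n).Additive] [Pretriangulated D]
    {D' : Type u'} [Category.{v'} D'] [Preadditive D'] [HasZeroObject D'] [HasShift D' ℤ]
    [∀ n : ℤ, (shiftFunctor D' n).Additive] [Pretriangulated D']
    (L : D ⥤ D') [L.Additive] [L.CommShift ℤ] [L.IsTriangulated] {R : D' ⥤ D} [R.Additive] (adj : L ⊣ R)
    {K : ℕ → D} (f : ∀ n, K n ⟶ K (n + 1)) [HasCoproduct K] {E : D} (i : ∀ n, K n ⟶ E)
    (hE : DerLim.IsHocolim K f E i) {W : D'} (w : ∀ n, L.obj (K n) ⟶ W)
    (hw : ∀ n, L.map (f n) ≫ w (n + 1) = w n) :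
    ∃ j : L.obj E ⟶ W, ∀ n, L.map (i n) ≫ j = w n := by
  obtain ⟨c, hT⟩ := hE
  let q : L.obj (∐ K) ⟶ W := (adj.homEquiv _ _).symm (Sigma.desc fun n => adj.homEquiv _ _ (w n))
  have hq : ∀ n, L.map (Sigma.ι K n) ≫ q = w n := fun n => by
    rw [← adj.homEquiv_naturality_left_symm, Sigma.ι_desc, Equiv.symm_apply_apply]
  have h0 : L.map (𝟙 (∐ K) - DerLim.shiftMap K f) ≫ q = 0 := by
    apply (adj.homEquiv _ _).injective
    rw [adj.homEquiv_naturality_left]
    refine Eq.trans (Sigma.hom_ext _ (0 : ∐ K ⟶ R.obj W) fun n => ?_) (adj.homAddEquiv _ _).map_zero.symm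
    simp only [q, Equiv.apply_symm_apply, DerLim.shiftMap, Preadditive.sub_comp, Preadditive.comp_sub,
      Category.id_comp, Sigma.ι_desc, Sigma.ι_desc_assoc, Category.assoc, comp_zero]
    rw [sub_eq_zero, ← adj.homEquiv_naturality_left, hw]
  obtain ⟨j, hj⟩ : ∃ j : L.obj E ⟶ W, q = L.map (Sigma.desc i) ≫ j :=
    Triangle.yoneda_exact₂ _ (L.map_distinguished _ hT) q h0
  refine ⟨j, fun n => ?_⟩
  rw [← hq, hj, ← L.map_comp_assoc, Sigma.ι_desc]

/-- Eventually constant sequences and homotopy colimits. -/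
theorem isIso_homology_hocolim {A : Type u'} [Category.{v'} A] [Abelian A] [HasColimitsOfShape ℕ A]
    [HasExactColimitsOfShape ℕ A]
    {D : Type u} [Category.{v} D] [Preadditive D] [HasZeroObject D] [HasShift D ℤ]
    [∀ n : ℤ, (shiftFunctor D n).Additive] [Pretriangulated D] [HasColimitsOfShape (Discrete ℕ) D]
    (H : D ⥤ A) [H.IsHomological] [PreservesColimitsOfShape (Discrete ℕ) H]
    (K : ℕ → D) (f : ∀ n, K n ⟶ K (n + 1)) (E : D) (i : ∀ n, K n ⟶ E) (hE : DerLim.IsHocolim K f E i)
    (N : ℕ) (hN : ∀ n, N ≤ n → IsIso (H.map (f n))) (n : ℕ) (hn : N ≤ n) : IsIso (H.map (i n)) := by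
  obtain ⟨e, he⟩ := DCat.homological_hocolim DCat.seqMono_of_exact H K f E i hE
  let F := Functor.ofSequence fun n => H.map (f n)
  have hF : F.IsEventuallyConstantFrom N := fun m g => by
    obtain ⟨d, rfl⟩ := Nat.exists_eq_add_of_le (leOfHom g)
    induction d with
    | zero =>
      rw [show g = 𝟙 N from Subsingleton.elim _ _]
      infer_instance
    | succ d ih =>
      have e : g = homOfLE (Nat.le_add_right N d) ≫ homOfLE (Nat.le_succ (N + d)) := Subsingleton.elim _ _
      haveI := ih (homOfLE (Nat.le_add_right N d))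
      haveI : IsIso (F.map (homOfLE (Nat.le_succ (N + d)))) := by
        rw [Functor.ofSequence_map_homOfLE_succ]
        exact hN _ (Nat.le_add_right N d)
      rw [e, F.map_comp]
      infer_instance
  haveI : IsIso (colimit.ι F n) := hF.isIso_ι_of_isColimit' (colimit.isColimit F) n (homOfLE hn)
  rw [← he]
  infer_instance

end Generic

variable {X : Scheme.{u}} [IsLocallyNoetherian X] (𝓘 : X.IdealSheafData)
  (hX : (FSch.completionAlong X 𝓘).IsFormal) [PreservesFiniteLimits (κ 𝓘 hX).pull]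
  {A : Type u} [CommRing A] [IsNoetherianRing A] (I : Ideal A) [IsAdicComplete I A]
  (f : X ⟶ Spec (CommRingCat.of A)) [IsProper f] (h𝓘 : 𝓘 = (FSch.idealSpec A I).comap f)

local instance shAddA'' : ∀ n : ℤ, (shiftFunctor (DerivedCategory (ModSite.Mod X.sheaf)) n).Additive :=
  fun _ => inferInstance

local instance shAddB'' : ∀ n : ℤ, (shiftFunctor (DerivedCategory (FSch.ModF (FSch.completionAlong X 𝓘) hX)) n).Additive :=
  fun _ => inferInstance

theorem hasColimits_derived :
    HasColimitsOfShape (Discrete ℕ) (DerivedCategory (ModSite.Mod X.sheaf)) :=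
  DCat.hasCoproductsOfShape_derived (A := ModSite.Mod X.sheaf) DCat.enoughKInj_of_isGrothendieckAbelian ℕ

theorem preservesColimits_homology (i : ℤ) :
    PreservesColimitsOfShape (Discrete ℕ) (DerivedCategory.homologyFunctor (ModSite.Mod X.sheaf) i) :=
  haveI := DQCoh.preservesCoproducts_homologyFunctor (A := ModSite.Mod X.sheaf) (ULift.{u} ℕ) i
  preservesColimitsOfShape_of_equiv (Discrete.equivalence Equiv.ulift) _

theorem isIso_homology_truncLTι' {C : Type u'} [Category.{v'} C] [Abelian C] [HasDerivedCategory.{w'} C]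
    (G : DerivedCategory C) {b p : ℤ} (h : p < b) :
    IsIso ((DerivedCategory.homologyFunctor C p).map ((DerivedCategory.TStructure.t.truncLTι b).app G)) := by
  let t := DerivedCategory.TStructure.t (C := C)
  have hT := t.triangleLTGE_distinguished b G
  haveI : ((t.truncGE b).obj G).IsGE b := t.isGE_truncGE_obj G b b le_rfl
  haveI : Epi ((DerivedCategory.homologyFunctor C p).map ((t.truncLTι b).app G)) :=
    (DerivedCategory.HomologySequence.epi_homologyMap_mor₁_iff _ hT p).2
      ((DerivedCategory.isZero_of_isGE ((t.truncGE b).obj G) b p h).eq_of_tgt _ _)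
  haveI : Mono ((DerivedCategory.homologyFunctor C p).map ((t.truncLTι b).app G)) :=
    (DerivedCategory.HomologySequence.mono_homologyMap_mor₁_iff _ hT (p - 1) p (by omega)).2
      ((DerivedCategory.isZero_of_isGE ((t.truncGE b).obj G) b (p - 1) (by omega)).eq_of_src _ _)
  exact isIso_of_mono_of_epi _

theorem isCohF_truncLT (G : DerivedCategory (FSch.ModF (FSch.completionAlong X 𝓘) hX))
    (hG : ∀ i : ℤ, FSch.IsCohF _ hX (SiteCmp.HMod G i)) (b i : ℤ) :
    FSch.IsCohF _ hX (SiteCmp.HMod ((DerivedCategory.TStructure.t.truncLT b).obj G) i) := by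
  haveI := (weakSerre_cohP hX (FSchLib.isLocNoethFormal_completionAlong 𝓘)).1
  by_cases hi : i < b
  · haveI := isIso_homology_truncLTι' G hi
    exact (cohP hX).prop_of_iso (asIso ((DerivedCategory.homologyFunctor _ i).map
      ((DerivedCategory.TStructure.t.truncLTι b).app G))).symm (hG i)
  · haveI : ((DerivedCategory.TStructure.t.truncLT b).obj G).IsLE (b - 1) :=
      DerivedCategory.TStructure.t.isLE_truncLT_obj G b (b - 1) (by omega)
    obtain ⟨Z, hZ, hPZ⟩ := (cohP hX).exists_prop_of_containsZero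
    exact (cohP hX).prop_of_iso (hZ.iso (DerivedCategory.isZero_of_isLE
      ((DerivedCategory.TStructure.t.truncLT b).obj G) (b - 1) i (by omega))) hPZ

theorem exists_hocolim (K : ℕ → DerivedCategory (ModSite.Mod X.sheaf)) (u : ∀ n, K n ⟶ K (n + 1)) [HasCoproduct K] :
    ∃ (E : DerivedCategory (ModSite.Mod X.sheaf)), ∃ i : ∀ n, K n ⟶ E, DerLim.IsHocolim K u E i := by
  obtain ⟨E, a, c, hT⟩ := distinguished_cocone_triangle (𝟙 (∐ K) - DerLim.shiftMap K u)
  refine ⟨E, fun n => Sigma.ι K n ≫ a, c, ?_⟩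
  have e : Sigma.desc (fun n => Sigma.ι K n ≫ a) = a := Sigma.hom_ext _ _ fun n => Sigma.ι_desc _ n
  rw [e]
  exact hT

theorem exists_comparison (K : ℕ → DerivedCategory (ModSite.Mod X.sheaf)) (u : ∀ n, K n ⟶ K (n + 1)) [HasCoproduct K]
    {E : DerivedCategory (ModSite.Mod X.sheaf)} (i : ∀ n, K n ⟶ E) (hE : DerLim.IsHocolim K u E i)
    {W : DerivedCategory (FSch.ModF (FSch.completionAlong X 𝓘) hX)} (w : ∀ n, (LD 𝓘 hX).obj (K n) ⟶ W)
    (hw : ∀ n, (LD 𝓘 hX).map (u n) ≫ w (n + 1) = w n) :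
    ∃ j : (LD 𝓘 hX).obj E ⟶ W, ∀ n, (LD 𝓘 hX).map (i n) ≫ j = w n := by
  haveI := preservesFiniteColimits_push (FSch.completionToX X 𝓘) (FSch.completionToX_comm X 𝓘) hX (hci_compl 𝓘)
  haveI : PreservesLimitsOfSize.{0, 0} (κ 𝓘 hX).push := (κ 𝓘 hX).adj.rightAdjoint_preservesLimits
  haveI : (κ 𝓘 hX).push.mapDerivedCategory.Additive := inferInstance
  exact exists_hocolim_comparison (R := (κ 𝓘 hX).push.mapDerivedCategory) (LD 𝓘 hX) (adjD (κ 𝓘 hX).adj) u i hE w hw

include h𝓘 in
/-- Objects with coherent cohomology on the completion algebraize. -/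
theorem exists_iso_pullD (G : DerivedCategory (FSch.ModF (FSch.completionAlong X 𝓘) hX))
    (hG : ∀ i : ℤ, FSch.IsCohF _ hX (SiteCmp.HMod G i)) :
    ∃ E : DerivedCategory (ModSite.Mod X.sheaf), DCoh.IsCohD (X := X) E ∧ Nonempty ((LD 𝓘 hX).obj E ≅ G) := by
  haveI := hasColimits_derived (X := X)
  let t := DerivedCategory.TStructure.t (C := FSch.ModF (FSch.completionAlong X 𝓘) hX)
  have hle : ∀ n : ℕ, ((t.truncLT (n : ℤ)).obj G).IsLE ((n : ℤ) - 1) := fun n =>
    t.isLE_truncLT_obj G n ((n : ℤ) - 1) (by omega)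
  have hU : ∀ n : ℕ, AlgUp 𝓘 hX ((t.truncLT (n : ℤ)).obj G) := fun n => by
    haveI := hle n
    exact algUp_of_isLE 𝓘 hX I f h𝓘 _ (isCohF_truncLT 𝓘 hX G hG n) ((n : ℤ) - 1)
  choose K θ hK hsurj using hU
  have hKle : ∀ n : ℕ, (K n).IsLE ((n : ℤ) - 1) := fun n => by
    haveI := hle n
    haveI : ((LD 𝓘 hX).obj (K n)).IsLE ((n : ℤ) - 1) := t.isLE_of_iso (θ n).symm _
    exact isLE_of_mapD 𝓘 hX I f h𝓘 (hK n) _
  choose v hv using fun n : ℕ => hsurj (n + 1) (K n) _ (hK n) (hKle n)
    ((θ n).hom ≫ (t.natTransTruncLTOfLE (n : ℤ) ((n + 1 : ℕ) : ℤ) (by omega)).app G)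
  obtain ⟨E, i, hE⟩ := exists_hocolim K v
  obtain ⟨j, hj⟩ := exists_comparison 𝓘 hX K v i hE (fun n => (θ n).hom ≫ (t.truncLTι (n : ℤ)).app G) fun n => by
    rw [← Category.assoc, show (LD 𝓘 hX).map (v n) ≫ (θ (n + 1)).hom = _ from hv n, Category.assoc,
      t.natTransTruncLTOfLE_ι_app]
  have hv' : ∀ (p : ℤ) (n : ℕ), (p + 1).toNat ≤ n →
      IsIso ((DerivedCategory.homologyFunctor (ModSite.Mod X.sheaf) p).map (v n)) := fun p n hn => by
    haveI := isIso_homology_truncLTι' G (show p < ((n + 1 : ℕ) : ℤ) by omega)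
    haveI := isIso_homology_truncLTι' G (show p < (n : ℤ) by omega)
    have hu : IsIso ((DerivedCategory.homologyFunctor _ p).map
        ((t.natTransTruncLTOfLE (n : ℤ) ((n + 1 : ℕ) : ℤ) (by omega)).app G)) :=
      IsIso.of_isIso_fac_right (((DerivedCategory.homologyFunctor _ p).map_comp _ _).symm.trans
        (congrArg _ (t.natTransTruncLTOfLE_ι_app (n : ℤ) ((n + 1 : ℕ) : ℤ) (by omega) G)))
    refine isIso_homology_t 𝓘 hX I f h𝓘 (hK n) (hK (n + 1)) (θ n) (θ (n + 1)) (v n) _ ?_ p hu
    rw [← Category.assoc, ← show (LD 𝓘 hX).map (v n) ≫ (θ (n + 1)).hom = _ from hv n, Category.assoc,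
      Iso.hom_inv_id, Category.comp_id]
  have hi : ∀ (p : ℤ) (n : ℕ), (p + 1).toNat ≤ n →
      IsIso ((DerivedCategory.homologyFunctor (ModSite.Mod X.sheaf) p).map (i n)) := fun p n hn => by
    haveI := preservesColimits_homology (X := X) p
    exact isIso_homology_hocolim (DerivedCategory.homologyFunctor (ModSite.Mod X.sheaf) p) K v E i hE _ (hv' p) n hn
  refine ⟨E, fun p => ?_, ?_⟩
  · haveI := hi p _ le_rfl
    exact Coherent.isCoh_iso (X := X)
      (asIso ((DerivedCategory.homologyFunctor (ModSite.Mod X.sheaf) p).map (i (p + 1).toNat))) (hK _ p)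
  haveI : IsIso j := by
    rw [DerivedCategory.isIso_iff]
    intro p
    let n := (p + 1).toNat
    haveI := hi p n le_rfl
    haveI := isIso_homology_mapD (κ 𝓘 hX).pull (i n) p
    haveI := isIso_homology_truncLTι' G (show p < (n : ℤ) by omega)
    haveI : IsIso ((DerivedCategory.homologyFunctor _ p).map ((LD 𝓘 hX).map (i n)) ≫
        (DerivedCategory.homologyFunctor _ p).map j) := by
      rw [← Functor.map_comp, hj, Functor.map_comp]
      infer_instance
    exact IsIso.of_isIso_comp_left ((DerivedCategory.homologyFunctor _ p).map ((LD 𝓘 hX).map (i n))) _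
  exact ⟨asIso j⟩

end Groth.Agent.RGamT
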