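import Groth.Agent.RGamT.CompAlgz
import Groth.Agent.SiteDer16.RlimSites
import Groth.Agent.SiteDer16.ModEvConst
import Groth.Agent.SiteDer16.RpushBounded
import Groth.Agent.Coherent.Vanishing
import Groth.Agent.DQCoh.Sections

/-!
# Algebraization of coherent objects on completions: objects bounded above
-/

set_option autoImplicit false
set_option backward.isDefEq.respectTransparency false
set_option backward.defeqAttrib.useBackward true
set_option linter.style.haveILetI false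
set_option linter.unusedSectionVars false
set_option maxHeartbeats 1000000
set_option linter.unusedTactic false
set_option linter.unreachableTactic false
set_option synthInstance.maxHeartbeats 400000

universe u

open CategoryTheory CategoryTheory.Limits CategoryTheory.Pretriangulated AlgebraicGeometry Opposite TopologicalSpace
open Groth.Agent.DerCompLib Groth.Agent.FModLib

attribute [local instance] HasDerivedCategory.standard

noncomputable section

namespace Groth.Agent.RGamT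

local instance shAddFormal (𝔛 : FSch.Sys.{u}) (h : 𝔛.IsFormal) :
    ∀ n : ℤ, (shiftFunctor (DerivedCategory (FSch.ModF 𝔛 h)) n).Additive := fun _ => inferInstance

theorem isRlim_formal {𝔛 : FSch.Sys.{u}} {h : 𝔛.IsFormal} (hL : 𝔛.IsLocNoethFormal)
    (G : DerivedCategory (FSch.ModF 𝔛 h)) (hG : ∀ i : ℤ, FSch.IsCohF 𝔛 h (SiteCmp.HMod G i))
    [HasProduct (CohCx.truncTower G)] :
    CohCx.IsRlimVia (CohCx.truncTower G) (CohCx.truncTowerMap G) G (CohCx.toTruncTower G) := by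
  have hB : ∀ U : Opens (𝔛.X 0).carrier, ∃ (ι : Type u) (Y : ι → Opens (𝔛.X 0).carrier) (g : ∀ i, Y i ⟶ U),
      Sieve.ofArrows Y g ∈ Opens.grothendieckTopology (𝔛.X 0).carrier U ∧ ∀ i, Y i ∈ {V | AFF 𝔛 V} := fun U => by
    refine ⟨{W : Opens (𝔛.X 0).carrier // W ≤ U ∧ AFF 𝔛 W}, fun W => W.1, fun W => homOfLE W.2.1, fun y hy => ?_,
      fun W => W.2.2⟩
    obtain ⟨W, hW, hyW, hWU⟩ := basis_AFF (𝔛 := 𝔛) U y hy
    exact ⟨W, homOfLE hWU, Sieve.ofArrows_mk _ _ (⟨W, hWU, hW⟩ : {W : Opens (𝔛.X 0).carrier // W ≤ U ∧ AFF 𝔛 W}), hyW⟩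
  refine SiteDer16.isRlimVia_mod (𝔛.Osh h) G {V | AFF 𝔛 V} hB fun V _ => ⟨fun _ => 0, fun T hT => ?_⟩
  obtain ⟨ι, Y, g, h1, h2, h3⟩ := SiteDer16.exists_refinement _ hB T hT
  exact ⟨ι, Y, g, h1, h2, fun i m k hk => affine_subsingleton_HU h hL _
    (ObjectProperty.le_ind _ _ ((goodRing h hL).isFinitePresentation (isPC_of_isCohF h hL _ (hG _)))) (h3 i) k
    (by simp only at hk; omega)⟩

variable {X : Scheme.{u}} [IsLocallyNoetherian X] (𝓘 : X.IdealSheafData)
  (hX : (FSch.completionAlong X 𝓘).IsFormal) [PreservesFiniteLimits (κ 𝓘 hX).pull]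
  {A : Type u} [CommRing A] [IsNoetherianRing A] (I : Ideal A) [IsAdicComplete I A]
  (f : X ⟶ Spec (CommRingCat.of A)) [IsProper f] (h𝓘 : 𝓘 = (FSch.idealSpec A I).comap f)

local instance shAddA' : ∀ n : ℤ, (shiftFunctor (DerivedCategory (ModSite.Mod X.sheaf)) n).Additive :=
  fun _ => inferInstance

local instance shAddB' : ∀ n : ℤ, (shiftFunctor (DerivedCategory (FSch.ModF (FSch.completionAlong X 𝓘) hX)) n).Additive :=
  fun _ => inferInstance

local instance hasProdA : ∀ E : ℕ → DerivedCategory (ModSite.Mod X.sheaf), HasProduct E :=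
  fun E => SiteDer16.hasProduct_mod E

local instance hasProdB : ∀ E : ℕ → DerivedCategory (FSch.ModF (FSch.completionAlong X 𝓘) hX), HasProduct E :=
  fun E => SiteDer16.hasProduct_mod E

theorem isIso_homology_of_eventually (K : ℕ → DerivedCategory (ModSite.Mod X.sheaf))
    (t : ∀ n, K (n + 1) ⟶ K n) (hK : ∀ n, DCoh.IsCohD (X := X) (K n) ∧ ∃ c : ℤ, (K n).IsGE c)
    {E : DerivedCategory (ModSite.Mod X.sheaf)} {a : ∀ n, E ⟶ K n} (hE : CohCx.IsRlimVia K t E a)
    (hconst : ∀ j : ℤ, ∃ n₀ : ℕ, ∀ n, n₀ ≤ n → IsIso ((DerivedCategory.homologyFunctor _ j).map (t n))) (j : ℤ) :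
    ∃ n₀ : ℕ, ∀ n, n₀ ≤ n → IsIso ((DerivedCategory.homologyFunctor (ModSite.Mod X.sheaf) j).map (a n)) := by
  haveI : WSerre.IsWeakSerre (show ObjectProperty (ModSite.Mod X.sheaf) from DQCoh.coh X) := DQCoh.isWeakSerre_coh X
  refine SiteDer16.isIso_homology_of_eventually_constant X.sheaf (show ObjectProperty (ModSite.Mod X.sheaf) from DQCoh.coh X)
    {V : X.Opens | IsAffineOpen V} DQCoh.exists_affine_cover (fun V _ => ⟨0, fun T hT => ?_⟩) t hE
    (fun n => ⟨(hK n).1, (hK n).2⟩) hconst j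
  obtain ⟨ι, Y, g, h1, h2, h3⟩ := SiteDer16.exists_refinement {V : X.Opens | IsAffineOpen V} DQCoh.exists_affine_cover T hT
  refine ⟨ι, Y, g, h1, h2, fun i F hF k hk => ?_⟩
  haveI : Coh.IsQCoh (X := X) F := hF.1
  exact Coherent.subsingleton_H'_qcoh_pos (X := X) F (h3 i) hk

/-- Algebraizable objects bounded above, with surjectivity on morphisms out of coherent objects bounded above. -/
def AlgUp (G : DerivedCategory (FSch.ModF (FSch.completionAlong X 𝓘) hX)) : Prop :=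
  ∃ (E : DerivedCategory (ModSite.Mod X.sheaf)) (θ : (LD 𝓘 hX).obj E ≅ G), DCoh.IsCohD (X := X) E ∧
    ∀ (E' : DerivedCategory (ModSite.Mod X.sheaf)) (b : ℤ), DCoh.IsCohD (X := X) E' → E'.IsLE b →
      Function.Surjective (fun φ : E' ⟶ E => (LD 𝓘 hX).map φ ≫ θ.hom)

variable (G : DerivedCategory (FSch.ModF (FSch.completionAlong X 𝓘) hX))
  (hG : ∀ i : ℤ, FSch.IsCohF _ hX (SiteCmp.HMod G i))

include hG in
theorem isCohF_truncTower (n : ℕ) (i : ℤ) :
    FSch.IsCohF _ hX (SiteCmp.HMod (CohCx.truncTower G n) i) := by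
  haveI := (weakSerre_cohP hX (FSchLib.isLocNoethFormal_completionAlong 𝓘)).1
  by_cases hi : -(n : ℤ) ≤ i
  · haveI := SiteDer16.isIso_homology_truncGEπ G (-(n : ℤ)) i hi
    exact (cohP hX).prop_of_iso (asIso ((DerivedCategory.homologyFunctor _ i).map
      ((DerivedCategory.TStructure.t.truncGEπ (-(n : ℤ))).app G))) (hG i)
  · haveI : (CohCx.truncTower G n).IsGE (-(n : ℤ)) :=
      DerivedCategory.TStructure.t.isGE_truncGE_obj G (-(n : ℤ)) (-(n : ℤ)) le_rfl
    obtain ⟨Z, hZ, hPZ⟩ := (cohP hX).exists_prop_of_containsZero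
    exact (cohP hX).prop_of_iso (hZ.iso (DerivedCategory.isZero_of_isGE (CohCx.truncTower G n) (-(n : ℤ)) i (by omega))) hPZ

theorem exists_rlimVia (K : ℕ → DerivedCategory (ModSite.Mod X.sheaf)) (t : ∀ n, K (n + 1) ⟶ K n) :
    ∃ (E : DerivedCategory (ModSite.Mod X.sheaf)), ∃ a : ∀ n, E ⟶ K n, CohCx.IsRlimVia K t E a := by
  obtain ⟨E, a, δ, hT⟩ := distinguished_cocone_triangle₁
    (Pi.lift fun n => Pi.π K n - Pi.π K (n + 1) ≫ t n : ∏ᶜ K ⟶ ∏ᶜ K)
  refine ⟨E, fun n => a ≫ Pi.π K n, δ, ?_⟩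
  have e : Pi.lift (fun n => a ≫ Pi.π K n) = a := Pi.hom_ext _ _ fun n => Pi.lift_π _ n
  rw [e]
  exact hT

include h𝓘 in
theorem isIso_homology_t {K₁ K₀ : DerivedCategory (ModSite.Mod X.sheaf)} (hK₁ : DCoh.IsCohD (X := X) K₁)
    (hK₀ : DCoh.IsCohD (X := X) K₀) {G₁ G₀ : DerivedCategory (FSch.ModF (FSch.completionAlong X 𝓘) hX)}
    (θ₁ : (LD 𝓘 hX).obj K₁ ≅ G₁) (θ₀ : (LD 𝓘 hX).obj K₀ ≅ G₀) (t : K₁ ⟶ K₀) (u : G₁ ⟶ G₀)
    (ht : (LD 𝓘 hX).map t = θ₁.hom ≫ u ≫ θ₀.inv) (i : ℤ)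
    (hu : IsIso ((DerivedCategory.homologyFunctor _ i).map u)) :
    IsIso ((DerivedCategory.homologyFunctor (ModSite.Mod X.sheaf) i).map t) := by
  haveI : IsIso ((DerivedCategory.homologyFunctor _ i).map ((LD 𝓘 hX).map t)) := by
    rw [ht, Functor.map_comp, Functor.map_comp]
    infer_instance
  exact isIso_homology_of_mapD 𝓘 hX I f h𝓘 hK₁ hK₀ t i

theorem isIso_homology_j {E K : DerivedCategory (ModSite.Mod X.sheaf)}
    {W W' : DerivedCategory (FSch.ModF (FSch.completionAlong X 𝓘) hX)} (j : (LD 𝓘 hX).obj E ⟶ W) (q : W ⟶ W')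
    (a : E ⟶ K) (θ : (LD 𝓘 hX).obj K ≅ W') (hj : j ≫ q = (LD 𝓘 hX).map a ≫ θ.hom) (i : ℤ)
    (ha : IsIso ((DerivedCategory.homologyFunctor (ModSite.Mod X.sheaf) i).map a))
    (hq : IsIso ((DerivedCategory.homologyFunctor _ i).map q)) :
    IsIso ((DerivedCategory.homologyFunctor _ i).map j) := by
  haveI : IsIso ((DerivedCategory.homologyFunctor _ i).map ((LD 𝓘 hX).map a)) :=
    isIso_homology_mapD (κ 𝓘 hX).pull a i
  haveI : IsIso ((DerivedCategory.homologyFunctor _ i).map j ≫ (DerivedCategory.homologyFunctor _ i).map q) := by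
    rw [← Functor.map_comp, hj, Functor.map_comp]
    infer_instance
  exact IsIso.of_isIso_comp_right _ ((DerivedCategory.homologyFunctor _ i).map q)

theorem isCohD_of_homology_iso (K : ℕ → DerivedCategory (ModSite.Mod X.sheaf)) {E : DerivedCategory (ModSite.Mod X.sheaf)}
    (a : ∀ n, E ⟶ K n) (hK : ∀ n, DCoh.IsCohD (X := X) (K n))
    (h : ∀ i : ℤ, ∃ n, IsIso ((DerivedCategory.homologyFunctor (ModSite.Mod X.sheaf) i).map (a n))) :
    DCoh.IsCohD (X := X) E := fun i => by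
  obtain ⟨n, hn⟩ := h i
  exact Coherent.isCoh_iso (X := X) (asIso ((DerivedCategory.homologyFunctor (ModSite.Mod X.sheaf) i).map (a n))).symm (hK n i)

include h𝓘 hG in
/-- Objects bounded above with coherent cohomology algebraize. -/
theorem algUp_of_isLE (b : ℤ) [G.IsLE b] : AlgUp 𝓘 hX G := by
  let L := LD 𝓘 hX
  let Gk := CohCx.truncTower G
  have hGk : ∀ n, AlgB 𝓘 hX (Gk n) := fun n => by
    haveI : (Gk n).IsGE (-(n : ℤ)) := DerivedCategory.TStructure.t.isGE_truncGE_obj G (-(n : ℤ)) (-(n : ℤ)) le_rfl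
    haveI : (Gk n).IsLE b := by
      rw [DerivedCategory.isLE_iff]
      intro i hi
      by_cases hi' : -(n : ℤ) ≤ i
      · haveI := SiteDer16.isIso_homology_truncGEπ G (-(n : ℤ)) i hi'
        exact (DerivedCategory.isZero_of_isLE G b i hi).of_iso (asIso ((DerivedCategory.homologyFunctor _ i).map
          ((DerivedCategory.TStructure.t.truncGEπ (-(n : ℤ))).app G))).symm
      · exact DerivedCategory.isZero_of_isGE (Gk n) (-(n : ℤ)) i (by omega)
    exact algB_of_bounded 𝓘 hX I f h𝓘 (Gk n) (isCohF_truncTower 𝓘 hX G hG n) (-(n : ℤ)) b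
  choose K hK hKb hKe using hGk
  let θ : ∀ n, L.obj (K n) ≅ Gk n := fun n => (hKe n).some
  have hff0 : ∀ (n : ℕ) (E' : DerivedCategory (ModSite.Mod X.sheaf)) (b' : ℤ), DCoh.IsCohD (X := X) E' → E'.IsLE b' →
      Function.Bijective (fun φ : E' ⟶ K n => L.map φ) := fun n E' b' hE' hb' => by
    obtain ⟨c, b'', hc, -⟩ := hKb n
    exact bijective_pullD_coh 𝓘 hX I f h𝓘 E' (K n) hE' (hK n) b' c
  have hex : ∀ n, ∃ φ : K (n + 1) ⟶ K n, L.map φ = (θ (n + 1)).hom ≫ CohCx.truncTowerMap G n ≫ (θ n).inv := fun n => by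
    obtain ⟨c, b'', -, hb⟩ := hKb (n + 1)
    exact (hff0 n (K (n + 1)) b'' (hK (n + 1)) hb).2 _
  choose t ht using hex
  obtain ⟨E, hE⟩ : ∃ (E : DerivedCategory (ModSite.Mod X.sheaf)) , ∃ a : ∀ n, E ⟶ K n, CohCx.IsRlimVia K t E a :=
    exists_rlimVia K t
  obtain ⟨a, hE⟩ := hE
  obtain ⟨j, hjn, hsurj⟩ := exists_rlim_comparison L t a hE (CohCx.truncTowerMap G) (CohCx.toTruncTower G)
    (isRlim_formal (FSchLib.isLocNoethFormal_completionAlong 𝓘) G hG) θ ht
  have hconst : ∀ i : ℤ, ∃ n₀ : ℕ, ∀ n, n₀ ≤ n → IsIso ((DerivedCategory.homologyFunctor _ i).map (t n)) := fun i =>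
    ⟨(-i).toNat, fun n hn => isIso_homology_t 𝓘 hX I f h𝓘 (hK (n + 1)) (hK n) (θ (n + 1)) (θ n) (t n) _ (ht n) i
      (SiteDer16.isIso_homology_truncTowerMap G n i (by omega))⟩
  have hge : ∀ n, ∃ c : ℤ, (K n).IsGE c := fun n => (hKb n).imp fun c hc => hc.choose_spec.1
  have hiso := fun i => isIso_homology_of_eventually K t (fun n => ⟨hK n, hge n⟩) hE hconst i
  have hEc : DCoh.IsCohD (X := X) E := isCohD_of_homology_iso K a hK fun i => by
    obtain ⟨n, hn⟩ := hiso i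
    exact ⟨n, hn n le_rfl⟩
  haveI : IsIso j := by
    rw [DerivedCategory.isIso_iff]
    intro i
    obtain ⟨n₀, hn₀⟩ := hiso i
    have hmax := le_max_right n₀ (-i).toNat
    exact isIso_homology_j 𝓘 hX j _ (a _) (θ _) (hjn _) i (hn₀ (max n₀ (-i).toNat) (le_max_left _ _))
      (SiteDer16.isIso_homology_truncGEπ G _ i (by omega))
  refine ⟨E, asIso j, hEc, fun E' b' hE' hb' => ?_⟩
  refine hsurj E' (fun n => hff0 n E' b' hE' hb') fun n => ?_
  exact (hff0 n (E'⟦(1 : ℤ)⟧) (b' - 1) (isCohD_shift E' hE' 1)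
    (DerivedCategory.TStructure.t.isLE_shift E' b' 1 (b' - 1) (by omega))).2

end Groth.Agent.RGamT
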