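import Groth.Agent.RGamT.ProperCompl

/-!
# Bijectivity on morphisms from completeness along scalars
-/

set_option autoImplicit false
set_option backward.isDefEq.respectTransparency false
set_option backward.defeqAttrib.useBackward true
set_option linter.style.haveILetI false
set_option linter.unusedSectionVars false

universe u v w u' v' w'

open CategoryTheory CategoryTheory.Limits CategoryTheory.Pretriangulated
open Groth.Agent.DerCompLib

noncomputable section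

namespace Groth.Agent.RGamT

variable {D : Type v} [Category.{w} D] [Preadditive D] [HasZeroObject D] [HasShift D ℤ]
  [∀ n : ℤ, (shiftFunctor D n).Additive] [Pretriangulated D] {R : Type u} [CommRing R] [Linear R D]
  [∀ n : ℤ, (shiftFunctor D n).Linear R]
  {D' : Type v'} [Category.{w'} D'] [Preadditive D'] [HasZeroObject D'] [HasShift D' ℤ]
  [∀ n : ℤ, (shiftFunctor D' n).Additive] [Pretriangulated D'] {R' : Type u'} [CommRing R'] [Linear R' D']
  (L : D ⥤ D') [L.Additive] [L.CommShift ℤ] [L.IsTriangulated] (σ : R → R')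

/-- Killing scalars square on cones. -/
theorem smul_sq_cone_eq_zero {Y C : D} (r : R) {g : Y ⟶ C} {δ : C ⟶ Y⟦(1 : ℤ)⟧}
    (hT : Triangle.mk (r • 𝟙 Y) g δ ∈ distTriang D) : r ^ 2 • 𝟙 C = 0 := by
  have h1 : r • δ = 0 := by
    have := comp_distTriang_mor_zero₃₁ _ hT
    simpa [Functor.map_smul] using this
  have h2 : r • g = 0 := by
    have := comp_distTriang_mor_zero₁₂ _ hT
    simpa using this
  obtain ⟨a, ha⟩ := Triangle.coyoneda_exact₃ _ hT (r • 𝟙 C) (by simpa using h1)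
  change r • 𝟙 C = a ≫ g at ha
  rw [pow_two, mul_smul, ha, ← Linear.comp_smul, h2, comp_zero]

/-- Killing scalars square on cones of commuting scalars. -/
theorem smul_cone_eq_zero {Y C : D} (r q : R) (hq : q • 𝟙 Y = 0) {g : Y ⟶ C} {δ : C ⟶ Y⟦(1 : ℤ)⟧}
    (hT : Triangle.mk (r • 𝟙 Y) g δ ∈ distTriang D) : q ^ 2 • 𝟙 C = 0 := by
  have h2 : q • g = 0 := by
    rw [← Category.id_comp g, ← Linear.smul_comp, hq, zero_comp]
  have h1 : q • δ = 0 := by
    rw [← Category.comp_id δ, ← Linear.comp_smul, ← CategoryTheory.Functor.map_id, ← Functor.map_smul, hq,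
      Functor.map_zero, comp_zero]
  obtain ⟨a, ha⟩ := Triangle.coyoneda_exact₃ _ hT (q • 𝟙 C) (by simpa using h1)
  change q • 𝟙 C = a ≫ g at ha
  rw [pow_two, mul_smul, ha, ← Linear.comp_smul, h2, comp_zero]

variable {E : D} (hσ : ∀ (r : R) (Y : D), L.map (r • 𝟙 Y) = σ r • 𝟙 (L.obj Y))

include hσ in
theorem map_smul_semi {Y Z : D} (r : R) (φ : Y ⟶ Z) : L.map (r • φ) = σ r • L.map φ := by
  rw [← Category.id_comp φ, ← Linear.smul_comp, Functor.map_comp, hσ, Linear.smul_comp]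
  simp

include hσ in
/-- Injectivity from the cone. -/
theorem injective_of_cone (r : R) {Y C : D} {g : Y ⟶ C} {δ : C ⟶ Y⟦(1 : ℤ)⟧}
    (hT : Triangle.mk (r • 𝟙 Y) g δ ∈ distTriang D) (hc : IsComplElt (E ⟶ Y) r)
    (h0 : Function.Injective (fun φ : E ⟶ C => L.map φ))
    (h1 : Function.Surjective (fun φ : E ⟶ C⟦(-1 : ℤ)⟧ => L.map φ)) :
    Function.Injective (fun φ : E ⟶ Y => L.map φ) := by
  let Ti := (Triangle.mk (r • 𝟙 Y) g δ).invRotate
  have hTi : Ti ∈ distTriang D := inv_rot_of_distTriang _ hT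
  have key : ∀ a : E ⟶ Y, L.map a = 0 → ∃ a' : E ⟶ Y, L.map a' = 0 ∧ a = r • a' := fun a ha => by
    obtain ⟨a1, ha1⟩ : ∃ a1 : E ⟶ Y, a = a1 ≫ (r • 𝟙 Y) := Triangle.coyoneda_exact₂ _ hT a (h0 (by
      show L.map (a ≫ g) = L.map 0
      rw [L.map_comp, ha, zero_comp, L.map_zero]))
    let t : C⟦(-1 : ℤ)⟧ ⟶ Y := Ti.mor₁
    obtain ⟨z, hz⟩ : ∃ z : L.obj E ⟶ L.obj (C⟦(-1 : ℤ)⟧), L.map a1 = z ≫ L.map t :=
      Triangle.coyoneda_exact₂ _ (L.map_distinguished _ hTi) (L.map a1) (by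
        change L.map a1 ≫ L.map (r • 𝟙 Y) = 0
        rw [← L.map_comp, ← ha1, ha])
    obtain ⟨w, hw⟩ := h1 z
    change L.map w = z at hw
    refine ⟨a1 - w ≫ t, ?_, ?_⟩
    · rw [L.map_sub, L.map_comp, hw, ← hz, sub_self]
    · have h2 : t ≫ (r • 𝟙 Y) = 0 := comp_distTriang_mor_zero₁₂ _ hTi
      rw [Linear.comp_smul, Category.comp_id] at h2
      rw [smul_sub, ← Linear.comp_smul, h2, comp_zero, sub_zero, ha1, Linear.comp_smul, Category.comp_id]
  choose f hf hf' using key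
  intro a b hab
  rw [← sub_eq_zero]
  have h0' : L.map (a - b) = 0 := by rw [L.map_sub, sub_eq_zero]; exact hab
  let seq : ℕ → {x : E ⟶ Y // L.map x = 0} :=
    fun k => Nat.rec ⟨a - b, h0'⟩ (fun _ x => ⟨f x.1 x.2, hf x.1 x.2⟩) k
  have h := hc.1 (a₁ := fun k => (seq k).1) (a₂ := 0) (by
    funext k
    rw [map_zero, telMap_apply, Pi.zero_apply, sub_eq_zero]
    exact hf' (seq k).1 (seq k).2)
  exact congrFun h 0

include hσ in
/-- Surjectivity from the cone. -/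
theorem surjective_of_cone (r : R) {Y C : D} {g : Y ⟶ C} {δ : C ⟶ Y⟦(1 : ℤ)⟧}
    (hT : Triangle.mk (r • 𝟙 Y) g δ ∈ distTriang D) (hc : IsComplElt (E ⟶ Y) r)
    (hc' : IsComplElt (L.obj E ⟶ L.obj Y) (σ r)) (hinj : Function.Injective (fun φ : E ⟶ Y⟦(1 : ℤ)⟧ => L.map φ))
    (h0 : Function.Surjective (fun φ : E ⟶ C => L.map φ)) :
    Function.Surjective (fun φ : E ⟶ Y => L.map φ) := by
  have hTL := L.map_distinguished _ hT
  have key : ∀ b : L.obj E ⟶ L.obj Y, ∃ (a : E ⟶ Y) (b' : L.obj E ⟶ L.obj Y), b = L.map a + σ r • b' := fun b => by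
    obtain ⟨c, hc⟩ := h0 (b ≫ L.map g)
    change L.map c = b ≫ L.map g at hc
    have hcd : c ≫ δ = 0 := hinj (by
      show L.map (c ≫ δ) = L.map 0
      rw [L.map_comp, hc, Category.assoc, ← L.map_comp, show g ≫ δ = 0 from comp_distTriang_mor_zero₂₃ _ hT,
        L.map_zero, comp_zero, L.map_zero])
    obtain ⟨a, ha⟩ : ∃ a : E ⟶ Y, c = a ≫ g := Triangle.coyoneda_exact₃ _ hT c hcd
    let d : L.obj E ⟶ L.obj Y := b - L.map a
    obtain ⟨b', hb'⟩ : ∃ b' : L.obj E ⟶ L.obj Y, d = b' ≫ L.map (r • 𝟙 Y) :=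
      Triangle.coyoneda_exact₂ _ hTL d (by
        change (b - L.map a) ≫ L.map g = 0
        rw [Preadditive.sub_comp, ← L.map_comp, ← ha, hc, sub_self])
    refine ⟨a, b', ?_⟩
    rw [hσ, Linear.comp_smul, Category.comp_id] at hb'
    rw [← hb', add_sub_cancel]
  choose f f' hff using key
  intro b
  let bs : ℕ → (L.obj E ⟶ L.obj Y) := fun k => Nat.rec b (fun _ x => f' x) k
  obtain ⟨x, hx⟩ := hc.2 fun k => f (bs k)
  have h := hc'.1 (a₁ := fun k => bs k - L.map (x k)) (a₂ := 0) (by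
    funext k
    rw [map_zero, telMap_apply, Pi.zero_apply]
    have hk := congrFun hx k
    rw [telMap_apply] at hk
    have hb : bs k = L.map (f (bs k)) + σ r • bs (k + 1) := hff (bs k)
    rw [hb, ← hk, L.map_sub, map_smul_semi L σ hσ, smul_sub]
    abel)
  exact ⟨x 0, (sub_eq_zero.1 (congrFun h 0)).symm⟩

variable (S : List R) (Q : D → Prop) (hQs : ∀ Y, Q Y → ∀ n : ℤ, Q (Y⟦n⟧))
  (hQc : ∀ r ∈ S, ∀ (Y C : D) (g : Y ⟶ C) (δ : C ⟶ Y⟦(1 : ℤ)⟧), Triangle.mk (r • 𝟙 Y) g δ ∈ distTriang D → Q Y → Q C)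
  (hc : ∀ r ∈ S, ∀ Y, Q Y → IsComplElt (E ⟶ Y) r ∧ IsComplElt (L.obj E ⟶ L.obj Y) (σ r))
  (hbase : ∀ Y, Q Y → (∀ q ∈ S, ∃ N : ℕ, q ^ N • 𝟙 Y = 0) → Function.Bijective (fun φ : E ⟶ Y => L.map φ))

include hσ hQs hQc hc hbase in
/-- A functor is bijective on maps into complete objects when it is so on objects killed by powers. -/
theorem bijective_of_complete : ∀ (l : List R), (∀ r ∈ l, r ∈ S) → ∀ Y, Q Y →
    (∀ q ∈ S, q ∈ l ∨ ∃ N : ℕ, q ^ N • 𝟙 Y = 0) → Function.Bijective (fun φ : E ⟶ Y => L.map φ)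
  | [], _, Y, hY, hq => hbase Y hY fun q hq' => (hq q hq').resolve_left (List.not_mem_nil)
  | r :: l, hl, Y, hY, hq => by
    have hr := hl r List.mem_cons_self
    have hshift : ∀ n : ℤ, ∀ q ∈ S, q ∈ r :: l ∨ ∃ N : ℕ, q ^ N • 𝟙 (Y⟦n⟧) = 0 := fun n q hq' =>
      (hq q hq').imp_right fun ⟨N, hN⟩ => ⟨N, by
        rw [← CategoryTheory.Functor.map_id, ← Functor.map_smul, hN, Functor.map_zero]⟩
    have hcone : ∀ Z, Q Z → (∀ q ∈ S, q ∈ r :: l ∨ ∃ N : ℕ, q ^ N • 𝟙 Z = 0) →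
        ∃ (C : D) (g : Z ⟶ C) (δ : C ⟶ Z⟦(1 : ℤ)⟧), Triangle.mk (r • 𝟙 Z) g δ ∈ distTriang D ∧
          ∀ n : ℤ, Function.Bijective (fun φ : E ⟶ C⟦n⟧ => L.map φ) ∧
            Function.Bijective (fun φ : E ⟶ C => L.map φ) := fun Z hZ hqZ => by
      obtain ⟨C, g, δ, hT⟩ := distinguished_cocone_triangle (r • 𝟙 Z)
      have hC := hQc r hr Z C g δ hT hZ
      have hqC : ∀ q ∈ S, q ∈ l ∨ ∃ N : ℕ, q ^ N • 𝟙 C = 0 := fun q hq' => by
        rcases hqZ q hq' with h | ⟨N, hN⟩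
        · rcases List.mem_cons.1 h with h | h
          · exact Or.inr ⟨2, h ▸ smul_sq_cone_eq_zero r hT⟩
          · exact Or.inl h
        · exact Or.inr ⟨N * 2, by rw [pow_mul]; exact smul_cone_eq_zero r (q ^ N) hN hT⟩
      have hl' : ∀ q ∈ l, q ∈ S := fun q hq' => hl q (List.mem_cons_of_mem _ hq')
      refine ⟨C, g, δ, hT, fun n => ⟨bijective_of_complete l hl' _ (hQs C hC n) fun q hq' =>
        (hqC q hq').imp_right fun ⟨N, hN⟩ => ⟨N, ?_⟩, bijective_of_complete l hl' C hC hqC⟩⟩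
      rw [← CategoryTheory.Functor.map_id, ← Functor.map_smul, hN, Functor.map_zero]
    have hinj : ∀ Z, Q Z → (∀ q ∈ S, q ∈ r :: l ∨ ∃ N : ℕ, q ^ N • 𝟙 Z = 0) →
        Function.Injective (fun φ : E ⟶ Z => L.map φ) := fun Z hZ hqZ => by
      obtain ⟨C, g, δ, hT, hb⟩ := hcone Z hZ hqZ
      exact injective_of_cone L σ hσ r hT (hc r hr Z hZ).1 (hb (-1)).2.1 (hb (-1)).1.2
    obtain ⟨C, g, δ, hT, hb⟩ := hcone Y hY hq
    exact ⟨hinj Y hY hq, surjective_of_cone L σ hσ r hT (hc r hr Y hY).1 (hc r hr Y hY).2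
      (hinj _ (hQs Y hY 1) (hshift 1)) (hb 0).2.2⟩

end Groth.Agent.RGamT
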