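import Groth.Agent.RGamT.CompAdapted

/-!
# Derived torsion commutes with inverse and direct image of a completion
-/

set_option autoImplicit false
set_option backward.isDefEq.respectTransparency false
set_option linter.style.haveILetI false
set_option linter.unusedSectionVars false
set_option maxHeartbeats 1000000

universe u

open CategoryTheory CategoryTheory.Limits AlgebraicGeometry Opposite TopologicalSpace

attribute [local instance] HasDerivedCategory.standard

noncomputable section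

namespace Groth.Agent.RGamT

section Abstract

theorem isIso_map_of_arrow {C D : Type*} [Category C] [Category D] (R : C ⥤ D) {A B A' B' : C} {f : A ⟶ B}
    {g : A' ⟶ B'} (a : A ≅ A') (b : B ≅ B') (w : f ≫ b.hom = a.hom ≫ g) (hg : IsIso (R.map g)) : IsIso (R.map f) := by
  haveI := hg
  rw [show f = a.hom ≫ g ≫ b.inv by rw [← reassoc_of% w, Iso.hom_inv_id, Category.comp_id], R.map_comp, R.map_comp]
  infer_instance

theorem isIso_unit_adjD {A B : Type*} [Category A] [Abelian A] [Category B] [Abelian B] [HasDerivedCategory A]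
    [HasDerivedCategory B] {G : A ⥤ B} {F : B ⥤ A} [G.Additive] [F.Additive] (adj : G ⊣ F)
    [PreservesFiniteLimits G] [PreservesFiniteColimits G] [PreservesFiniteLimits F] [PreservesFiniteColimits F]
    (K : DerivedCategory A) (hK : ∀ n : ℤ, IsIso (adj.unit.app ((DerivedCategory.homologyFunctor A n).obj K))) :
    IsIso ((adjD adj).unit.app K) := by
  let C := DerivedCategory.Q.objPreimage K
  let e : DerivedCategory.Q.obj C ≅ K := DerivedCategory.Q.objObjPreimageIso K
  refine (NatTrans.isIso_app_iff_of_iso (adjD adj).unit e).1 ?_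
  have hC : ∀ n : ℤ, IsIso (adj.unit.app (C.sc n).homology) := fun n =>
    (NatTrans.isIso_app_iff_of_iso adj.unit ((DerivedCategory.homologyFunctor A n).mapIso e.symm ≪≫
      (DerivedCategory.homologyFunctorFactors A n).app C)).1 (hK n)
  have := comp_preservesFiniteLimits G F
  have := comp_preservesFiniteColimits G F
  haveI hq : QuasiIso ((Et18.DerivedExactAdj.adjCx adj).unit.app C) := ⟨fun n => by
    rw [quasiIsoAt_iff_isIso_homologyMap]
    have := hC n
    change IsIso (ShortComplex.homologyMap (ShortComplex.mapNatTrans (C.sc n) adj.unit))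
    rw [ShortComplex.homologyMap_mapNatTrans]
    infer_instance⟩
  haveI : IsIso (DerivedCategory.Q.map ((Et18.DerivedExactAdj.adjCx adj).unit.app C)) := inferInstance
  rw [adjD, Adjunction.localization_unit_app]
  infer_instance

theorem bijective_map_of_unit {C D : Type*} [Category C] [Category D] {L : C ⥤ D} {R : D ⥤ C} (adj : L ⊣ R)
    (E F : C) [IsIso (adj.unit.app F)] : Function.Bijective (fun φ : E ⟶ F => L.map φ) := by
  have e : (fun φ : E ⟶ F => L.map φ) =
      (adj.homEquiv E (L.obj F)).symm ∘ (fun φ : E ⟶ F => φ ≫ adj.unit.app F) := by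
    funext φ
    rw [Function.comp_apply, Adjunction.homEquiv_counit, Functor.map_comp, Category.assoc,
      adj.left_triangle_components]
    exact (Category.comp_id _).symm
  rw [e]
  exact (adj.homEquiv E (L.obj F)).symm.bijective.comp
    ⟨fun a b hab => (cancel_mono _).1 hab, fun ψ => ⟨ψ ≫ inv (adj.unit.app F), by simp⟩⟩

theorem bijective_comp_map {C D : Type*} [Category C] [Category D] {L : C ⥤ D} {R : D ⥤ C} (adj : L ⊣ R)
    (T : C) {M N : D} (f : M ⟶ N) (hb : Function.Bijective (fun ψ : L.obj T ⟶ M => ψ ≫ f)) :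
    Function.Bijective (fun ψ : T ⟶ R.obj M => ψ ≫ R.map f) := by
  have e : (fun ψ : T ⟶ R.obj M => ψ ≫ R.map f) =
      adj.homEquiv T N ∘ (fun ψ : L.obj T ⟶ M => ψ ≫ f) ∘ (adj.homEquiv T M).symm := by
    funext ψ
    rw [Function.comp_apply, Function.comp_apply, Adjunction.homEquiv_naturality_right, Equiv.apply_symm_apply]
  rw [e]
  exact (adj.homEquiv T N).bijective.comp (hb.comp (adj.homEquiv T M).symm.bijective)

theorem bijective_comp_of_iso {C : Type*} [Category C] {T A A' B : C} (e : A ≅ A') (f : A ⟶ B) (f' : A' ⟶ B)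
    (w : e.hom ≫ f' = f) (hb : Function.Bijective (fun ψ : T ⟶ A' => ψ ≫ f')) :
    Function.Bijective (fun ψ : T ⟶ A => ψ ≫ f) := by
  have e' : (fun ψ : T ⟶ A => ψ ≫ f) = (fun ψ : T ⟶ A' => ψ ≫ f') ∘ (fun ψ : T ⟶ A => ψ ≫ e.hom) := by
    funext ψ
    rw [Function.comp_apply, Category.assoc, w]
  rw [e']
  exact hb.comp ⟨fun a b hab => (cancel_mono e.hom).1 hab, fun ψ => ⟨ψ ≫ e.inv, by simp⟩⟩

theorem bijective_comp_natIso {C D : Type*} [Category C] [Category D] {R R' : C ⥤ D} (η : R ≅ R') {T : D} {M N : C}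
    (f : M ⟶ N) (hb : Function.Bijective (fun ψ : T ⟶ R'.obj M => ψ ≫ R'.map f)) :
    Function.Bijective (fun ψ : T ⟶ R.obj M => ψ ≫ R.map f) := by
  have e : (fun ψ : T ⟶ R.obj M => ψ ≫ R.map f) =
      (fun χ => χ ≫ η.inv.app N) ∘ (fun ψ => ψ ≫ R'.map f) ∘ (fun ψ : T ⟶ R.obj M => ψ ≫ η.hom.app M) := by
    funext ψ
    simp
  rw [e]
  exact (Function.Bijective.comp ⟨fun a b hab => (cancel_mono (η.inv.app N)).1 hab,
      fun χ => ⟨χ ≫ η.hom.app N, by simp⟩⟩ (hb.comp ⟨fun a b hab => (cancel_mono (η.hom.app M)).1 hab,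
      fun χ => ⟨χ ≫ η.inv.app M, by simp⟩⟩))

/-- Two arrows with the same universal property are uniquely isomorphic over the target. -/
theorem existsUnique_iso_of_universal {C : Type*} [Category C] (P : C → Prop) {A B Z : C} (a : A ⟶ Z) (b : B ⟶ Z)
    (hA : P A) (hB : P B) (ha : ∀ T, P T → Function.Bijective (fun ψ : T ⟶ A => ψ ≫ a))
    (hb : ∀ T, P T → Function.Bijective (fun ψ : T ⟶ B => ψ ≫ b)) : ∃! e : A ≅ B, e.hom ≫ b = a := by
  obtain ⟨u, hu⟩ := (hb A hA).2 a
  obtain ⟨v, hv⟩ := (ha B hB).2 b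
  dsimp only at hu hv
  refine ⟨⟨u, v, (ha A hA).1 ?_, (hb B hB).1 ?_⟩, hu, fun e he => Iso.ext ((hb A hA).1 (he.trans hu.symm))⟩
  · dsimp only; rw [Category.assoc, hv, hu, Category.id_comp]
  · dsimp only; rw [Category.assoc, hu, hv, Category.id_comp]

end Abstract

variable {X : Scheme.{u}} [IsLocallyNoetherian X] {𝔛 : FSch.Sys.{u}} (p : ∀ n, 𝔛.X n ⟶ X)
  (hp : ∀ n, 𝔛.ι n ≫ p (n + 1) = p n) (h : 𝔛.IsFormal) (hci : ∀ n, IsClosedImmersion (p n))
  (𝓘 : X.IdealSheafData) (hker : ∀ n, (p n).ker = 𝓘 ^ (n + 1)) (hX : 𝔛.IsLocNoethFormal)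
  [PreservesFiniteLimits (μ p hp h).pull] [FTors.HasRgammaT 𝔛 h] [FTors.HasRgammaZp X 𝓘]

include hci hker hX in
theorem isIso_rgammaT_pull_ε (F : DerivedCategory (ModSite.Mod X.sheaf)) :
    IsIso ((FTors.Rgamma (FTors.openIdealFam 𝔛 h)).map
      ((SiteCmp.pullD (μ p hp h)).map ((FTors.Rgammaε (FTors.powIdealFam X 𝓘)).app F))) := by
  haveI := closed_isTors (FTors.openIdealFam 𝔛 h)
  haveI := closed_isTors (FTors.powIdealFam X 𝓘)
  let I := FTors.openIdealFam 𝔛 h
  let IZ := FTors.powIdealFam X 𝓘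
  let R := FTors.Rgamma I
  let D := SiteCmp.pullD (μ p hp h)
  let Φ := (μ p hp h).pull.mapDerivedCategoryFactors
  obtain ⟨J, e, hJ, hJi⟩ := exists_model F
  haveI := isIso_theta_kInj IZ J hJ
  let G := gC IZ J
  let PJ := ((μ p hp h).pull.mapHomologicalComplex (ComplexShape.up ℤ)).obj J
  let PG := ((μ p hp h).pull.mapHomologicalComplex (ComplexShape.up ℤ)).obj G
  let Pι : PG ⟶ PJ := ((μ p hp h).pull.mapHomologicalComplex (ComplexShape.up ℤ)).map (gCι IZ J)
  haveI : IsIso (theta I PJ) := isIso_theta_adapted I (adapted_adS p hp h hci 𝓘 hker hX) PJ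
    fun n => haveI := hJi n; adS_pull p hp h hci 𝓘 hker hX (J.X n)
  haveI : IsIso (theta I PG) := by
    haveI := isIso_ε I (hyp_openIdealFam hX) (DerivedCategory.Q.obj PG) ((isDTors_Q_iff I PG).2 fun i =>
      ObjectProperty.prop_of_iso _ ((G.sc i).mapHomologyIso (μ p hp h).pull).symm
        (isTors_pull p hp h hci 𝓘 hker hX (homology_tors IZ J i)))
    haveI := isIso_gCι_of_tors I PG fun n => isTors_pull p hp h hci 𝓘 hker hX (isTors_gamma IZ (J.X n))
    haveI : IsIso (theta I PG ≫ (FTors.Rgammaε I).app (DerivedCategory.Q.obj PG)) := by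
      rw [theta_ε I]; infer_instance
    exact IsIso.of_isIso_comp_right (theta I PG) ((FTors.Rgammaε I).app _)
  haveI := isIso_gMap_pull_gCι p hp h hci 𝓘 hker hX J
  haveI : IsIso (R.map (DerivedCategory.Q.map Pι)) := by
    haveI : IsIso (theta I PG ≫ R.map (DerivedCategory.Q.map Pι)) := by
      rw [← theta_naturality I Pι]; infer_instance
    exact IsIso.of_isIso_comp_left (theta I PG) _
  haveI h1 : IsIso (R.map (D.map (DerivedCategory.Q.map (gCι IZ J)))) :=
    isIso_map_of_arrow R (Φ.app G) (Φ.app J) (Φ.hom.naturality (gCι IZ J))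
      (show IsIso (R.map (DerivedCategory.Q.map Pι)) from inferInstance)
  have h2 : IsIso (R.map (D.map ((FTors.Rgammaε IZ).app (DerivedCategory.Q.obj J)))) := by
    refine isIso_map_of_arrow R (asIso (D.map (theta IZ J))).symm (Iso.refl _) ?_ h1
    rw [Iso.refl_hom, Category.comp_id, Iso.symm_hom, asIso_inv, IsIso.eq_inv_comp, ← Functor.map_comp, theta_ε]
  exact isIso_map_of_arrow R (D.mapIso ((FTors.Rgamma IZ).mapIso e.symm)) (D.mapIso e.symm)
    ((D.map_comp _ _).symm.trans ((congrArg D.map ((FTors.Rgammaε IZ).naturality e.inv).symm).trans (D.map_comp _ _))) h2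

include hci hker hX in
theorem isDTors_pullD_rgammaZp (F : DerivedCategory (ModSite.Mod X.sheaf)) :
    FTors.IsDTorsF 𝔛 h ((SiteCmp.pullD (μ p hp h)).obj ((FTors.Rgamma (FTors.powIdealFam X 𝓘)).obj F)) := by
  haveI := closed_isTors (FTors.powIdealFam X 𝓘)
  exact isDTorsF_pullD p hp h hci 𝓘 hker hX (isDTors_rgammaT _ (hyp_powIdealFam p hp h hci 𝓘 hker hX) F)

include hci hker hX in
theorem existsUnique_pull_rgamma (F : DerivedCategory (ModSite.Mod X.sheaf)) :
    ∃! e : (SiteCmp.pullD (μ p hp h)).obj ((FTors.Rgamma (FTors.powIdealFam X 𝓘)).obj F) ≅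
        (FTors.Rgamma (FTors.openIdealFam 𝔛 h)).obj ((SiteCmp.pullD (μ p hp h)).obj F),
      e.hom ≫ (FTors.Rgammaε (FTors.openIdealFam 𝔛 h)).app ((SiteCmp.pullD (μ p hp h)).obj F) =
        (SiteCmp.pullD (μ p hp h)).map ((FTors.Rgammaε (FTors.powIdealFam X 𝓘)).app F) := by
  haveI := closed_isTors (FTors.openIdealFam 𝔛 h)
  let I := FTors.openIdealFam 𝔛 h
  have hT := isDTors_pullD_rgammaZp p hp h hci 𝓘 hker hX F
  haveI := isIso_ε I (hyp_openIdealFam hX) _ hT
  haveI := isIso_rgammaT_pull_ε p hp h hci 𝓘 hker hX F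
  let ν := (SiteCmp.pullD (μ p hp h)).map ((FTors.Rgammaε (FTors.powIdealFam X 𝓘)).app F)
  refine ⟨(asIso ((FTors.Rgammaε I).app _)).symm ≪≫ asIso ((FTors.Rgamma I).map ν), ?_, fun e he => ?_⟩
  · dsimp only [ν]
    rw [Iso.trans_hom, Iso.symm_hom, asIso_inv, asIso_hom, Category.assoc, IsIso.inv_comp_eq]
    exact (FTors.Rgammaε I).naturality ν
  · refine Iso.ext ((bijective_comp_ε I (hyp_openIdealFam hX) hT _).1 (he.trans ?_))
    dsimp only
    rw [Iso.trans_hom, Iso.symm_hom, asIso_inv, asIso_hom, Category.assoc, eq_comm, IsIso.inv_comp_eq]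
    exact (FTors.Rgammaε I).naturality ν

include hci hker hX in
theorem bijective_pullD_map (E F : DerivedCategory (ModSite.Mod X.sheaf))
    (hEF : FTors.IsDTorsZp X 𝓘 E ∨ FTors.IsDTorsZp X 𝓘 F) :
    Function.Bijective (fun φ : E ⟶ F => (SiteCmp.pullD (μ p hp h)).map φ) := by
  haveI := preservesFiniteColimits_push p hp h hci
  haveI : PreservesLimitsOfSize.{0, 0} (pushμ p hp h) := (μ p hp h).adj.rightAdjoint_preservesLimits
  haveI := closed_isTors (FTors.openIdealFam 𝔛 h)
  haveI := closed_isTors (FTors.powIdealFam X 𝓘)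
  let I := FTors.openIdealFam 𝔛 h
  let IZ := FTors.powIdealFam X 𝓘
  let D := SiteCmp.pullD (μ p hp h)
  have hfF : ∀ A B : DerivedCategory (ModSite.Mod X.sheaf), FTors.IsDTorsZp X 𝓘 B →
      Function.Bijective (fun φ : A ⟶ B => D.map φ) := fun A B hB => by
    haveI := isIso_unit_adjD (μ p hp h).adj B fun n => isIso_unit_of_tors p hp h hci 𝓘 hker hX (hB n)
    exact bijective_map_of_unit (adjD (μ p hp h).adj) A B
  rcases hEF with hE | hF
  swap
  · exact hfF E F hF
  have hyp := hyp_powIdealFam p hp h hci 𝓘 hker hX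
  have hZ := bijective_comp_ε IZ hyp hE F
  have hf := hfF E _ (isDTors_rgammaT IZ hyp F)
  obtain ⟨e, he, -⟩ := existsUnique_pull_rgamma p hp h hci 𝓘 hker hX F
  have hT : Function.Bijective (fun ψ : D.obj E ⟶ D.obj ((FTors.Rgamma IZ).obj F) =>
      ψ ≫ D.map ((FTors.Rgammaε IZ).app F)) :=
    bijective_comp_of_iso e _ _ he
      (bijective_comp_ε I (hyp_openIdealFam hX) (isDTorsF_pullD p hp h hci 𝓘 hker hX hE) (D.obj F))
  refine ⟨fun a b hab => ?_, fun ψ => ?_⟩
  · obtain ⟨a', rfl⟩ := hZ.2 a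
    obtain ⟨b', rfl⟩ := hZ.2 b
    dsimp only at hab ⊢
    rw [Functor.map_comp, Functor.map_comp] at hab
    rw [hf.1 (hT.1 hab)]
  · obtain ⟨χ, hχ⟩ := hT.2 ψ
    obtain ⟨φ, rfl⟩ := hf.2 χ
    exact ⟨φ ≫ (FTors.Rgammaε IZ).app F, (D.map_comp _ _).trans hχ⟩

include hci hker hX in
theorem existsUnique_rgamma_push [SiteCmp.HasRpushD (μ p hp h)] (E : DerivedCategory (FSch.ModF 𝔛 h)) :
    ∃! e : (FTors.Rgamma (FTors.powIdealFam X 𝓘)).obj ((SiteCmp.RpushD (μ p hp h)).obj E) ≅
        (SiteCmp.RpushD (μ p hp h)).obj ((FTors.Rgamma (FTors.openIdealFam 𝔛 h)).obj E),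
      e.hom ≫ (SiteCmp.RpushD (μ p hp h)).map ((FTors.Rgammaε (FTors.openIdealFam 𝔛 h)).app E) =
        (FTors.Rgammaε (FTors.powIdealFam X 𝓘)).app ((SiteCmp.RpushD (μ p hp h)).obj E) := by
  haveI := preservesFiniteColimits_push p hp h hci
  haveI : PreservesLimitsOfSize.{0, 0} (pushμ p hp h) := (μ p hp h).adj.rightAdjoint_preservesLimits
  haveI := closed_isTors (FTors.openIdealFam 𝔛 h)
  haveI := closed_isTors (FTors.powIdealFam X 𝓘)
  let I := FTors.openIdealFam 𝔛 h
  let IZ := FTors.powIdealFam X 𝓘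
  have hyp := hyp_powIdealFam p hp h hci 𝓘 hker hX
  obtain ⟨η⟩ := nonempty_RpushD_iso p hp h hci
  refine existsUnique_iso_of_universal (FTors.IsDTors IZ) _ _ (isDTors_rgammaT IZ hyp _)
    (isDTorsZp_RpushD p hp h hci 𝓘 hker hX (isDTors_rgammaT I (hyp_openIdealFam hX) E))
    (fun T hT => bijective_comp_ε IZ hyp hT _) fun T hT => ?_
  have h1 := bijective_comp_ε I (hyp_openIdealFam hX) (isDTorsF_pullD p hp h hci 𝓘 hker hX hT) E
  have h2 := bijective_comp_map (adjD (μ p hp h).adj) T _ h1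
  exact bijective_comp_natIso η _ h2

end Groth.Agent.RGamT
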