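import Groth.Agent.RGamT.CohComplete
import Groth.Agent.DerCompLib.KoszulRpush
import Groth.Agent.DerCompLib.KoszulGen
import Groth.Agent.DerCompLib.Completion

/-!
# Objects orthogonal to torsion objects are killed by derived completion
-/

set_option autoImplicit false
set_option backward.isDefEq.respectTransparency false
set_option backward.defeqAttrib.useBackward true
set_option linter.style.haveILetI false
set_option linter.unusedSectionVars false
set_option maxHeartbeats 1000000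

universe u

open CategoryTheory CategoryTheory.Limits CategoryTheory.Pretriangulated AlgebraicGeometry Opposite TopologicalSpace
open Groth.Agent.DerCompLib Groth.Agent.FModLib

attribute [local instance] HasDerivedCategory.standard

noncomputable section

namespace Groth.Agent.RGamT

section Generic

variable {C : Type u} [SmallCategory C] {J : GrothendieckTopology C} {O : Sheaf J CommRingCat.{u}}

instance extZero_additive (V : C) : (ModSite.extZero O V).Additive :=
  (ModSite.extZeroAdj O V).left_adjoint_additive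

instance extZero_preservesFiniteColimits (V : C) : PreservesFiniteColimits (ModSite.extZero O V) :=
  haveI : (ModSite.extZero O V).IsLeftAdjoint := (ModSite.extZeroAdj O V).isLeftAdjoint
  inferInstance

/-- Maps into the restriction of a K-injective complex. -/
theorem exists_equiv_restr (V : C) (X : CochainComplex (ModSite.Mod (O.over V)) ℤ)
    (L : CochainComplex (ModSite.Mod O) ℤ) [L.IsKInjective] :
    Nonempty ((DerivedCategory.Q.obj X ⟶ DerivedCategory.Q.obj (restrCx L V)) ≃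
      (DerivedCategory.Q.obj (((ModSite.extZero O V).mapHomologicalComplex (ComplexShape.up ℤ)).obj X) ⟶
        DerivedCategory.Q.obj L)) := by
  haveI : (restrCx L V).IsKInjective := isKInjective_map_of_adj (ModSite.extZeroAdj O V) L
  let jX := ((ModSite.extZero O V).mapHomologicalComplex (ComplexShape.up ℤ)).obj X
  let q := HomotopyCategory.quotient (ModSite.Mod O) (ComplexShape.up ℤ)
  let q' := HomotopyCategory.quotient (ModSite.Mod (O.over V)) (ComplexShape.up ℤ)
  let c := (DerivedCategory.quotientCompQhIso (ModSite.Mod O))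
  let c' := (DerivedCategory.quotientCompQhIso (ModSite.Mod (O.over V)))
  exact ⟨(Iso.homCongr (c'.app X) (c'.app (restrCx L V))).symm.trans
    ((Equiv.ofBijective _ (CochainComplex.IsKInjective.Qh_map_bijective (q'.obj X) (restrCx L V))).symm.trans
    (((DCat.adjHot (ComplexShape.up ℤ) (ModSite.extZeroAdj O V)).homEquiv (q'.obj X) (q.obj L)).symm.trans
    ((Equiv.ofBijective _ (CochainComplex.IsKInjective.Qh_map_bijective (q.obj jX) L)).trans
      (Iso.homCongr (c.app jX) (c.app L)))))⟩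

variable {A : Type (u + 1)} [Category.{u} A] [Abelian A] {R : Type u} [CommRing R] [Linear R A]

/-- Orthogonality passes to iterated cones. -/
theorem orth_kos_right {Z : DerivedCategory A} : ∀ (l : List R) (X : CochainComplex A ℤ),
    Orth Z (DerivedCategory.Q.obj X) → Orth Z (DerivedCategory.Q.obj ((kos l).obj X))
  | [], _, h => h
  | r :: l, X, h => orth_kos_right l (CochainComplex.mappingCone (r • 𝟙 X))
      ((orth_cone_right_iff r).2 fun n => by
        haveI := h n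
        exact ⟨fun a b _ => Subsingleton.elim a b, fun b => ⟨b, Subsingleton.elim _ _⟩⟩)

/-- Scalars killing an object of the derived category kill its cohomology. -/
theorem smul_homology_eq_zero (r : R) (X : CochainComplex A ℤ) (h : r • 𝟙 (DerivedCategory.Q.obj X) = 0) (i : ℤ) :
    r • 𝟙 (X.homology i) = 0 := by
  have h1 : DerivedCategory.Q.map (r • 𝟙 X) = 0 := by
    rw [Functor.map_smul, CategoryTheory.Functor.map_id]; exact h
  have h2 := congrArg ((DerivedCategory.homologyFunctor A i).map) h1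
  rw [Functor.map_zero] at h2
  have h3 := (DerivedCategory.homologyFunctorFactors A i).hom.naturality (r • 𝟙 X)
  simp only [Functor.comp_map, h2, zero_comp] at h3
  have h4 : HomologicalComplex.homologyMap (r • 𝟙 X) i = 0 := by
    rw [← cancel_epi ((DerivedCategory.homologyFunctorFactors A i).hom.app X), comp_zero]
    exact h3.symm
  rw [← h4]
  rw [← HomologicalComplex.homologyMap_id]
  exact (ShortComplex.homologyMap_smul (a := r)
    ((HomologicalComplex.shortComplexFunctor A (ComplexShape.up ℤ) i).map (𝟙 X))).symm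

/-- A complete object killed by cones along generators on a cover is zero. -/
theorem isZero_of_complete_of_family (I : DerComp.IdealSh O)
    {W : DerivedCategory (ModSite.Mod O)} (hW : DerComp.IsDerComp O I W)
    (hcov : ∀ U : C, ∃ (ι : Type u) (Y : ι → C) (g : ∀ t, Y t ⟶ U), Sieve.ofArrows Y g ∈ J U ∧
      ∀ t, ∃ (r : ℕ) (a : Fin r → O.obj.obj (op (Y t))), (∀ j, a j ∈ I.ideal (Y t)) ∧ KZ a W) :
    IsZero W := by
  obtain ⟨L, hL, hLI, ⟨e⟩⟩ := exists_kInj_rep W
  have hc : DerComp.IsDerComp O I (DerivedCategory.Q.obj L) := fun U f hf n => by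
    haveI := hW U f hf n
    exact ((shiftFunctor _ n).mapIso e).homToEquiv.symm.subsingleton
  refine IsZero.of_iso ((isZero_Q_iff L).2 fun i => ?_) e
  rw [HomologicalComplex.exactAt_iff' _ (i - 1) i (i + 1) (by simp) (by simp)]
  refine exact_of_locally _ fun U b hb => ?_
  obtain ⟨ι₀, Y₀, g₀, hS, hSV⟩ := hcov U
  suffices hl : ∀ t, ∃ R ∈ J (Y₀ t), ∀ ⦃V' : C⦄ (k : V' ⟶ Y₀ t), R k →
      ∃ c, secMap (L.d (i - 1) i) V' c = secRes (L.X i) (k ≫ g₀ t) b by
    choose R hR hRk using hl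
    have hd : ∀ ⦃V : C⦄ (g : V ⟶ U), (Sieve.ofArrows Y₀ g₀).arrows g → ∃ (t : ι₀) (k : V ⟶ Y₀ t), k ≫ g₀ t = g := by
      rintro V g ⟨_, k, _, ⟨t⟩, rfl⟩
      exact ⟨t, k, rfl⟩
    choose tt kk hkk using hd
    refine ⟨Sieve.bind _ fun V g hg => (R (tt g hg)).pullback (kk g hg),
      J.bind_covering hS fun V g hg => J.pullback_stable _ (hR _), ?_⟩
    rintro V' _ ⟨V, k, g, hg, hk, rfl⟩
    obtain ⟨c, hc⟩ := hRk (tt g hg) (k ≫ kk g hg) hk
    rw [Category.assoc, hkk g hg] at hc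
    exact ⟨c, hc⟩
  intro t
  obtain ⟨r, a, ha, hkz⟩ := hSV t
  have hz := isZero_of_kos_zero (I.over (Y₀ t)) (gList a) (fun s hs U' => by
    obtain ⟨j, rfl⟩ := List.mem_ofFn.1 hs
    exact I.map_mem U'.hom (ha j)) (restrCx L (Y₀ t)) (isDerComp_restr I (Y₀ t) L hLI hc)
    (hkz.isZero a (restrCx L (Y₀ t)) ((restrD (Y₀ t)).mapIso e ≪≫ restrDQ (Y₀ t) L))
  haveI : (restrCx L (Y₀ t)).IsKInjective := isKInjective_map_of_adj (ModSite.extZeroAdj O (Y₀ t)) L
  have hex := ((isZero_Q_iff _).1 hz) i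
  rw [HomologicalComplex.exactAt_iff' _ (i - 1) i (i + 1) (by simp) (by simp)] at hex
  obtain ⟨R, hR, hRk⟩ := exists_local_boundary hex (X := Over.mk (𝟙 (Y₀ t)))
    (secRes (L.X i) (g₀ t) b) ((secMap_secRes _ (g₀ t) b).trans ((congrArg _ hb).trans (map_zero _)))
  refine ⟨Sieve.overEquiv _ R, (GrothendieckTopology.mem_over_iff _ R).1 hR, fun V' k hk => ?_⟩
  obtain ⟨c, hc⟩ := hRk _ ((Sieve.overEquiv_iff R k).1 hk)
  exact ⟨c, hc.trans (secRes_comp (L.X i) k (g₀ t) b)⟩


/-- Orthogonality of the cone is bijectivity of precomposition. -/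
theorem bijective_precomp_of_orth {T : Triangle (DerivedCategory A)} (hT : T ∈ distTriang (DerivedCategory A))
    {Y : DerivedCategory A} (h : Orth T.obj₃ Y) : Function.Bijective fun φ : T.obj₂ ⟶ Y => T.mor₁ ≫ φ := by
  have hb := (subsingleton_obj₃_iff _ hT Y).1 h 0
  let e := (shiftFunctorZero (DerivedCategory A) ℤ).app Y
  have : (fun φ : T.obj₂ ⟶ Y => T.mor₁ ≫ φ) =
      e.homToEquiv ∘ (fun g => T.mor₁ ≫ g) ∘ e.symm.homToEquiv := by
    funext φ
    simp
  rw [this]
  exact e.homToEquiv.bijective.comp (hb.comp e.symm.homToEquiv.bijective)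

end Generic

section Formal

variable {𝔛 : FSch.Sys.{u}} {h : 𝔛.IsFormal} (hX : 𝔛.IsLocNoethFormal) {V : Opens (𝔛.X 0).carrier}
  (hV : AFF 𝔛 V) {r : ℕ} (a : Fin r → FBlowLib.Sec 𝔛 h V) (ha : Ideal.span (Set.range a) = jdl h V)

include hX hV ha in
/-- Extensions by zero of killed modules are torsion. -/
theorem isTors_extZero (H : ModSite.Mod ((𝔛.Osh h).over V)) (N : ℕ)
    (hH : ∀ j, (DerComp.GSec.ofSect (𝔛.Osh h) V (a j)) ^ N • 𝟙 H = 0) :
    FTors.IsTorsF 𝔛 h ((ModSite.extZero (𝔛.Osh h) V).obj H) := by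
  let O := 𝔛.Osh h
  let M : FSch.ModF 𝔛 h := (ModSite.extZero O V).obj H
  let η : H ⟶ (ModSite.restr O V).obj M := (ModSite.extZeroAdj O V).unit.app H
  let ι := (FTors.gammaTι 𝔛 h).app M
  have hk : ∀ (W : Over V) (x : DerCompLib.Sec H W),
      FTors.IsTorsSect (FTors.openIdealFam 𝔛 h) M (U := W.left) (secMap η W x) := by
    intro W x
    have hW : W.left ≤ V := W.hom.le
    have hkill : ∀ j, oRes O hW (a j) ^ N • (secMap η W x : DerCompLib.Sec M W.left) = 0 := fun j => by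
      have h1 : secMap ((DerComp.GSec.ofSect O V (a j)) ^ N • 𝟙 H) W x = 0 := by rw [hH]; rfl
      have h2 : secMap ((DerComp.GSec.ofSect O V (a j)) ^ N • 𝟙 H) W x =
          (((DerComp.GSec.ofSect O V (a j)) ^ N).1 W : (O.over V).obj.obj (op W)) • x := rfl
      have h3 := congrArg (secMap η W) (h2.symm.trans h1)
      rw [map_smul, map_zero] at h3
      refine Eq.trans ?_ h3
      rfl
    refine FTors.IsTorsSect.of_cover (S := Sieve.ofArrows
      (fun U : {U : Opens (𝔛.X 0).carrier // U ≤ W.left ∧ AFF 𝔛 U} => U.1) fun U => homOfLE U.2.1)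
      (fun y hy => ?_) fun U g hg => ?_
    · obtain ⟨U, hU, hyU, hUW⟩ := basis_AFF (𝔛 := 𝔛) W.left y hy
      exact ⟨U, homOfLE hUW, Sieve.ofArrows_mk _ _ (⟨U, hUW, hU⟩ : {U : Opens (𝔛.X 0).carrier // U ≤ W.left ∧ AFF 𝔛 U}), hyU⟩
    obtain ⟨_, k, _, ⟨U⟩, rfl⟩ := hg
    rw [FTors.res_comp]
    refine FTors.IsTorsSect.res k ?_
    let f : ℕ → FBlowLib.Sec 𝔛 h V := fun l => if hl : l < r then a ⟨l, hl⟩ else 0
    have hspan : Ideal.span (f '' Set.Iio r) = jdl h V := by
      rw [← ha]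
      congr 1
      ext z
      constructor
      · rintro ⟨l, hl, rfl⟩
        exact ⟨⟨l, hl⟩, by simp [f, Set.mem_Iio.1 hl]⟩
      · rintro ⟨j, rfl⟩
        exact ⟨j, j.2, by simp [f]⟩
    refine isTors_of_KT hX (f := f) (q := r) (hV := U.2.1.trans hW) hV hspan U.2.2 ⟨N, fun l hl => ?_⟩
    show oRes O (U.2.1.trans hW) (f l) ^ N • mRes M U.2.1 (secMap η W x : DerCompLib.Sec M W.left) = 0
    rw [← oRes_oRes hW U.2.1, ← map_pow, ← mRes_smul, show f l = a ⟨l, hl⟩ by simp [f, hl], hkill, map_zero]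
  let S : ShortComplex (FSch.ModF 𝔛 h) := ShortComplex.mk ι (cokernel.π ι) (cokernel.condition ι)
  have hS : S.Exact := ShortComplex.exact_of_g_is_cokernel S (cokernelIsCokernel _)
  have h0 : η ≫ (ModSite.restr O V).map (cokernel.π ι) = 0 := by
    refine SheafOfModules.Hom.ext (PresheafOfModules.hom_ext fun W' => ModuleCat.hom_ext (LinearMap.ext fun x => ?_))
    obtain ⟨W⟩ := W'

    show secMap (cokernel.π ι) W.left (secMap η W x) = 0
    exact ((secMap_comp ι (cokernel.π ι) W.left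
      (⟨secMap η W x, hk W x⟩ : DerCompLib.Sec ((FTors.gammaT 𝔛 h).obj M) W.left)).symm).trans
      ((congrArg (fun φ => secMap φ W.left _) (cokernel.condition ι)).trans rfl)
  haveI : Mono (S.map (ModSite.restr O V)).f := inferInstanceAs (Mono ((ModSite.restr O V).map ι))
  let u := (hS.map (ModSite.restr O V)).lift η h0
  let ψ : M ⟶ (FTors.gammaT 𝔛 h).obj M := ((ModSite.extZeroAdj O V).homEquiv H _).symm u
  have hψ : ψ ≫ ι = 𝟙 M := by
    rw [← Adjunction.homEquiv_naturality_right_symm,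
      show u ≫ (ModSite.restr O V).map ι = η from (hS.map (ModSite.restr O V)).lift_f η h0,
      Equiv.symm_apply_eq]
    exact (Adjunction.homEquiv_id _ H).symm
  intro W s
  have := FTors.IsTorsSect.hom ι (QCT3.isTors_gammaT M W (secMap ψ W s))
  have e : secMap ι W (secMap ψ W s) = s :=
    (secMap_comp ψ ι W s).symm.trans (congrArg (fun φ => secMap φ W s) hψ)
  exact e ▸ this

variable [FTors.HasRgammaT 𝔛 h]

include hX in
/-- The cone of `ε` is orthogonal to torsion objects. -/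
theorem orth_tors_cone {T : Triangle (DerivedCategory (FSch.ModF 𝔛 h))}
    (hT : T ∈ distTriang (DerivedCategory (FSch.ModF 𝔛 h))) {E : DerivedCategory (FSch.ModF 𝔛 h)}
    (e₁ : T.obj₁ ≅ (FTors.RgammaT 𝔛 h).obj E) (e₂ : T.obj₂ ≅ E)
    (hm : T.mor₁ ≫ e₂.hom = e₁.hom ≫ (FTors.RgammaTε 𝔛 h).app E)
    {M : DerivedCategory (FSch.ModF 𝔛 h)} (hM : FTors.IsDTorsF 𝔛 h M) : Orth M T.obj₃ := by
  haveI := closed_isTorsF (𝔛 := 𝔛) (h := h)
  refine orth_tri_right T hT fun n => ?_
  let D := DerivedCategory (FSch.ModF 𝔛 h)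
  have hM' : FTors.IsDTorsF 𝔛 h (M⟦-n⟧) := fun i =>
    (FTors.IsTorsF 𝔛 h).prop_of_iso
      (((DerivedCategory.homologyFunctor (FSch.ModF 𝔛 h) 0).shiftIso (-n) i (-n + i) rfl).app M).symm (hM (-n + i))
  let adj := (shiftEquiv' D (-n) n (by omega)).toAdjunction
  let φ : ∀ Y : D, (M⟦-n⟧ ⟶ Y) ≃ (M ⟶ Y⟦n⟧) := fun Y => adj.homEquiv M Y
  have key : (fun g : M ⟶ T.obj₁⟦n⟧ => g ≫ T.mor₁⟦n⟧') =
      (fun z => z ≫ e₂.inv⟦n⟧') ∘ φ E ∘ (fun z => z ≫ (FTors.RgammaTε 𝔛 h).app E) ∘ (φ _).symm ∘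
        (fun g => g ≫ e₁.hom⟦n⟧') := by
    funext g
    have hnat : φ E ((φ _).symm (g ≫ e₁.hom⟦n⟧') ≫ (FTors.RgammaTε 𝔛 h).app E) =
        (g ≫ e₁.hom⟦n⟧') ≫ ((FTors.RgammaTε 𝔛 h).app E)⟦n⟧' :=
      (adj.homEquiv_naturality_right _ _).trans (congrArg (· ≫ _) ((φ _).apply_symm_apply _))
    refine Eq.trans ?_ (congrArg (· ≫ e₂.inv⟦n⟧') hnat.symm)
    rw [Category.assoc, Category.assoc, ← Functor.map_comp, ← Functor.map_comp, ← Category.assoc e₁.hom, ← hm,
      Category.assoc, Iso.hom_inv_id, Category.comp_id]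
  rw [key]
  exact ((Iso.homToEquiv ((shiftFunctor D n).mapIso e₂.symm)).bijective.comp ((φ E).bijective.comp
    ((bijective_comp_ε (FTors.openIdealFam 𝔛 h) (hyp_openIdealFam hX) hM' E).comp ((φ _).symm.bijective.comp
      (Iso.homToEquiv ((shiftFunctor D n).mapIso e₁)).bijective))))

include hX hV ha in
/-- Objects orthogonal to torsion objects are killed by Koszul cones. -/
theorem kz_of_orth_tors (C : DerivedCategory (FSch.ModF 𝔛 h))
    (hC : ∀ M, FTors.IsDTorsF 𝔛 h M → Orth M C) : KZ a C := by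
  haveI := closed_isTorsF (𝔛 := 𝔛) (h := h)
  let O := 𝔛.Osh h
  obtain ⟨L, hL, -, ⟨e⟩⟩ := exists_kInj_rep C
  let X := restrCx L V
  let l := gList (O := O) a
  let T₀ := (kos l).obj X
  refine kz_of_isZero a X ((restrD V).mapIso e ≪≫ restrDQ V L) (orth_self_iff.1 (orth_kos_right l X ?_))
  intro n
  let jT := ((ModSite.extZero O V).mapHomologicalComplex (ComplexShape.up ℤ)).obj T₀
  choose Nf hNf using fun j : Fin r => exists_pow_smul_kos
    (A := ModSite.Mod (O.over V)) l (DerComp.GSec.ofSect O V (a j)) (List.mem_ofFn.2 ⟨j, rfl⟩)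
  let N := Finset.univ.sup Nf
  have hjT : FTors.IsDTorsF 𝔛 h (DerivedCategory.Q.obj jT) := by
    refine (isDTors_Q_iff _ jT).2 fun i => (FTors.IsTorsF 𝔛 h).prop_of_iso
      ((T₀.sc i).mapHomologyIso (ModSite.extZero O V)).symm (isTors_extZero hX hV a ha _ N fun j => ?_)
    refine smul_homology_eq_zero (A := ModSite.Mod (O.over V)) _ T₀ ?_ i
    rw [show N = (N - Nf j) + Nf j from (Nat.sub_add_cancel (Finset.le_sup (f := Nf) (Finset.mem_univ j))).symm, pow_add, mul_smul, hNf j X, smul_zero]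
  haveI : Subsingleton (DerivedCategory.Q.obj jT ⟶ C⟦n⟧) := hC _ hjT n
  let eP : (DerivedCategory.Q.obj X)⟦n⟧ ≅ DerivedCategory.Q.obj (restrCx (L⟦n⟧) V) :=
    (DerivedCategory.Q.commShiftIso n).symm.app _ ≪≫ DerivedCategory.Q.mapIso
      (((ModSite.restr O V).mapHomologicalComplex (ComplexShape.up ℤ)).commShiftIso n |>.symm.app L)
  obtain ⟨φ⟩ := exists_equiv_restr V T₀ (L⟦n⟧)
  exact ((eP.homToEquiv).trans (φ.trans ((DerivedCategory.Q.commShiftIso n).app L ≪≫
    (shiftFunctor _ n).mapIso e.symm).homToEquiv)).subsingleton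

variable (h) in
/-- The ideal of definition as a sheaf of ideals. -/
def idSh : DerComp.IdealSh (𝔛.Osh h) where
  ideal U := (FTors.openIdealFam 𝔛 h).ideal 0 U
  map_mem {U W} g f hf := (FTors.openIdealFam 𝔛 h).map_mem' 0 g f hf
  glue {U f} S hS hloc := by
    rw [FTors.mem_openIdealFam_iff]
    refine ((Presheaf.isSheaf_iff_isSheaf_forget _ _ (forget CommRingCat)).1 (Sheaf.cond _) |>
      (isSheaf_iff_isSheaf_of_type _ _).1) S hS |>.isSeparatedFor.ext fun W g hg => ?_
    have h1 := (FTors.mem_openIdealFam_iff 𝔛 h 0 W _).1 (hloc g hg)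
    have h2 := congrArg (fun φ => φ.hom f) ((𝔛.OshProj h 0).hom.naturality g.op)
    simp only [CommRingCat.hom_comp, RingHom.comp_apply] at h2
    exact (h2.symm.trans h1).trans (RingHom.map_zero ((𝔛.levelObj h 0).obj.map g.op).hom).symm

include hX in
theorem mem_idSh_aff {W : Opens (𝔛.X 0).carrier} (hW : AFF 𝔛 W) (f : FBlowLib.Sec 𝔛 h W) :
    f ∈ (idSh h).ideal W ↔ f ∈ jdl h W := by
  have := mem_ideal (n := 0) (b := f) hW hX
  rwa [pow_one] at this

include hX hV ha in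
theorem locallyInSpan_idSh {W : Opens (𝔛.X 0).carrier} (f : FBlowLib.Sec 𝔛 h W) (hf : f ∈ (idSh h).ideal W) :
    LocallyInSpan a f := by
  intro X hXV hXW
  refine ⟨Sieve.ofArrows (fun U : {U : Opens (𝔛.X 0).carrier // U ≤ X ∧ AFF 𝔛 U} => U.1) fun U => homOfLE U.2.1,
    fun y hy => ?_, fun Z k hk => ?_⟩
  · obtain ⟨U, hU, hyU, hUX⟩ := basis_AFF (𝔛 := 𝔛) X y hy
    exact ⟨U, homOfLE hUX, Sieve.ofArrows_mk _ _ (⟨U, hUX, hU⟩ : {U : Opens (𝔛.X 0).carrier // U ≤ X ∧ AFF 𝔛 U}), hyU⟩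
  obtain ⟨_, k', _, ⟨U⟩, rfl⟩ := hk
  have h1 : oRes (𝔛.Osh h) (U.2.1.trans hXW.le) f ∈ jdl h U.1 :=
    (mem_idSh_aff hX U.2.2 _).1 ((idSh h).map_mem (homOfLE (U.2.1.trans hXW.le)) hf)
  rw [← map_jdl_eq h hX (U.2.1.trans hXV.le) hV U.2.2, ← ha, Ideal.map_span] at h1
  have h2 := Ideal.mem_map_of_mem (oRes (𝔛.Osh h) k'.le) h1
  rw [Ideal.map_span, oRes_oRes] at h2
  refine Ideal.span_mono ?_ h2
  rintro _ ⟨_, ⟨_, ⟨j, rfl⟩, rfl⟩, rfl⟩
  exact ⟨j, (oRes_oRes _ _ _).symm⟩

end Formal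

section Final

variable {𝔛 : FSch.Sys.{u}} {h : 𝔛.IsFormal} (hX : 𝔛.IsLocNoethFormal) [FTors.HasRgammaT 𝔛 h]

include hX in
/-- No maps from objects orthogonal to torsion objects to objects with coherent cohomology. -/
theorem orth_coh (C F : DerivedCategory (FSch.ModF 𝔛 h)) (hC : ∀ M, FTors.IsDTorsF 𝔛 h M → Orth M C)
    (hF : ∀ i : ℤ, FSch.IsCohF 𝔛 h (SiteCmp.HMod F i)) : Orth C F := by
  let O := 𝔛.Osh h
  obtain ⟨L, hL, hLI, ⟨e⟩⟩ := exists_kInj_rep F
  have hFL : ∀ i : ℤ, FSch.IsCohF 𝔛 h (SiteCmp.HMod (DerivedCategory.Q.obj L) i) := fun i => by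
    haveI := (weakSerre_cohP h hX).1
    exact (cohP h).prop_of_iso ((DerivedCategory.homologyFunctor (FSch.ModF 𝔛 h) i).mapIso e) (hF i)
  have hdc : DerComp.IsDerComp O (idSh h) F :=
    (isDerComp_iff_secIdeal L hLI e (idSh h)).2 fun U f hf => mem_secIdeal_of_coh hX L hLI hFL f
      fun W l hW => (mem_idSh_aff hX hW _).1 ((idSh h).map_mem (homOfLE l) hf)
  haveI := hasDerCompletion O (idSh h)
  have hz : IsZero ((DerComp.derCompletion O (idSh h)).obj C).obj := by
    refine isZero_of_complete_of_family (idSh h) ((DerComp.derCompletion O (idSh h)).obj C).property fun U => ?_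
    refine ⟨{W : Opens (𝔛.X 0).carrier // W ≤ U ∧ AFF 𝔛 W}, fun W => W.1, fun W => homOfLE W.2.1,
      fun y hy => ?_, fun W => ?_⟩
    · obtain ⟨W, hW, hyW, hWU⟩ := basis_AFF (𝔛 := 𝔛) U y hy
      exact ⟨W, homOfLE hWU, Sieve.ofArrows_mk _ _ (⟨W, hWU, hW⟩ : {W : Opens (𝔛.X 0).carrier // W ≤ U ∧ AFF 𝔛 W}), hyW⟩
    haveI := isNoetherianRing_sec h hX W.2.2
    obtain ⟨r, a, ha⟩ := Submodule.fg_iff_exists_fin_generating_family.1 (IsNoetherian.noetherian (jdl h W.1))
    have hk := kz_of_orth_tors hX W.2.2 a ha C hC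
    have hm := kzMor_toDerCompletion a (idSh h) (fun W' f hf => locallyInSpan_idSh hX W.2.2 a ha f hf) C
    have hW' : KZ a ((DerComp.derCompletion O (idSh h)).obj C).obj := fun Y n => by
      haveI := hk Y n
      exact (Equiv.ofBijective _ (hm Y n)).subsingleton
    refine ⟨r, a, fun j => ?_, hW'⟩
    refine (mem_idSh_aff hX W.2.2 (a j)).2 ?_
    rw [← ha]
    exact Ideal.subset_span ⟨j, rfl⟩
  intro n
  let Y : DerComp.DComp O (idSh h) := ⟨F⟦n⟧, isDerComp_shift (idSh h) hdc n⟩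
  haveI : Subsingleton ((DerComp.derCompletion O (idSh h)).obj C ⟶ Y) :=
    ⟨fun f g => InducedCategory.hom_ext (hz.eq_of_src _ _)⟩
  exact ((DerComp.derCompletionAdj O (idSh h)).homEquiv C Y).symm.subsingleton

include hX in
/-- Coherent objects see only the torsion part. -/
theorem bijective_precomp_ε (E F : DerivedCategory (FSch.ModF 𝔛 h))
    (hF : ∀ i : ℤ, FSch.IsCohF 𝔛 h (SiteCmp.HMod F i)) :
    Function.Bijective (fun φ : E ⟶ F => (FTors.RgammaTε 𝔛 h).app E ≫ φ) := by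
  obtain ⟨Z, p, q, hT⟩ := distinguished_cocone_triangle ((FTors.RgammaTε 𝔛 h).app E)
  have ho : Orth (Triangle.mk ((FTors.RgammaTε 𝔛 h).app E) p q).obj₃ F :=
    orth_coh hX _ F (fun M hM => orth_tors_cone hX hT (Iso.refl _) (Iso.refl _) (by simp) hM) hF
  exact bijective_precomp_of_orth hT ho

end Final

end Groth.Agent.RGamT
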