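import Groth.Agent.RGamT.CompBij
import Groth.Agent.RGamT.CompDer
import Groth.Agent.RGamT.KoszulC
import Groth.Agent.FModLib.PullFF
import Groth.Agent.Formal2Lib.ModSysAlgz
import Groth.Agent.CycLib28.LTensorCoh
import Groth.Agent.SiteDer16.Devissage

/-!
# Completion is fully faithful on coherent objects of proper schemes over complete rings
-/

set_option autoImplicit false
set_option backward.isDefEq.respectTransparency false
set_option backward.defeqAttrib.useBackward true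
set_option linter.style.haveILetI false
set_option linter.unusedSectionVars false
set_option maxHeartbeats 1000000
set_option synthInstance.maxHeartbeats 400000

universe u

open CategoryTheory CategoryTheory.Limits CategoryTheory.Pretriangulated AlgebraicGeometry Opposite TopologicalSpace
open Groth.Agent.DerCompLib Groth.Agent.FModLib

attribute [local instance] HasDerivedCategory.standard
set_option linter.unusedSimpArgs false

noncomputable section

namespace Groth.Agent.RGamT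

section AdjUnit

variable {C : Type*} [Category C] [Abelian C] [HasDerivedCategory C]
  {B : Type*} [Category B] [Abelian B] [HasDerivedCategory B]
  {G : C ⥤ B} {F : B ⥤ C} [G.Additive] [F.Additive] (adj : G ⊣ F)
  [PreservesFiniteLimits G] [PreservesFiniteColimits G] [PreservesFiniteLimits F] [PreservesFiniteColimits F]

/-- The unit is invertible on complexes on whose cohomology it is. -/
theorem isIso_adjD_unit (M : DerivedCategory C)
    (hM : ∀ n : ℤ, IsIso (adj.unit.app ((DerivedCategory.homologyFunctor C n).obj M))) :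
    IsIso ((adjD adj).unit.app M) := by
  let K := DerivedCategory.Q.objPreimage M
  let e : DerivedCategory.Q.obj K ≅ M := DerivedCategory.Q.objObjPreimageIso M
  refine (NatTrans.isIso_app_iff_of_iso (adjD adj).unit e).1 ?_
  have hC : ∀ n : ℤ, IsIso (adj.unit.app (K.sc n).homology) := fun n =>
    (NatTrans.isIso_app_iff_of_iso adj.unit ((DerivedCategory.homologyFunctor C n).mapIso e.symm ≪≫
      (DerivedCategory.homologyFunctorFactors C n).app K)).1 (hM n)
  have := comp_preservesFiniteLimits G F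
  have := comp_preservesFiniteColimits G F
  haveI hq : QuasiIso ((Et18.DerivedExactAdj.adjCx adj).unit.app K) := ⟨fun n => by
    rw [quasiIsoAt_iff_isIso_homologyMap]
    have := hC n
    change IsIso (ShortComplex.homologyMap (ShortComplex.mapNatTrans (K.sc n) adj.unit))
    rw [ShortComplex.homologyMap_mapNatTrans]
    infer_instance⟩
  haveI : IsIso (DerivedCategory.Q.map ((Et18.DerivedExactAdj.adjCx adj).unit.app K)) := inferInstance
  rw [adjD, Adjunction.localization_unit_app]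
  infer_instance

/-- The left adjoint is bijective on morphisms into such complexes. -/
theorem bijective_mapD_left (M N : DerivedCategory C)
    (hN : ∀ n : ℤ, IsIso (adj.unit.app ((DerivedCategory.homologyFunctor C n).obj N))) :
    Function.Bijective (fun φ : M ⟶ N => G.mapDerivedCategory.map φ) := by
  haveI := isIso_adjD_unit adj N hN
  have e : (fun φ : M ⟶ N => G.mapDerivedCategory.map φ) =
      ((adjD adj).homEquiv M _).symm ∘ (fun φ : M ⟶ N => φ ≫ (adjD adj).unit.app N) := by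
    funext φ
    rw [Function.comp_apply, Equiv.eq_symm_apply, Adjunction.homEquiv_unit]
    exact ((adjD adj).unit.naturality φ).symm
  rw [e]
  exact ((adjD adj).homEquiv _ _).symm.bijective.comp
    ⟨fun a b hab => (cancel_mono _).1 hab, fun ψ => ⟨ψ ≫ inv ((adjD adj).unit.app N), by simp⟩⟩

end AdjUnit

section Lin

variable {C B : Type (u + 1)} [Category.{u} C] [Category.{u} B] [Abelian C] [Abelian B]
  {R R' : Type u} [CommRing R] [CommRing R'] [Linear R C] [Linear R' B]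
  (P : C ⥤ B) [P.Additive] [PreservesFiniteLimits P] [PreservesFiniteColimits P] (σ : R → R')
  (hP : ∀ (r : R) (M : C), P.map (r • 𝟙 M) = σ r • 𝟙 (P.obj M))

include hP in
/-- Semilinearity passes to derived categories. -/
theorem mapDerivedCategory_smul (s : R) (Y : DerivedCategory C) :
    P.mapDerivedCategory.map (s • 𝟙 Y) = σ s • 𝟙 (P.mapDerivedCategory.obj Y) := by
  let K := DerivedCategory.Q.objPreimage Y
  let e : DerivedCategory.Q.obj K ≅ Y := DerivedCategory.Q.objObjPreimageIso Y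
  have h1 : (P.mapHomologicalComplex (ComplexShape.up ℤ)).map (s • 𝟙 K) = σ s • 𝟙 _ := by
    ext n : 1
    exact hP s (K.X n)
  have h2 : P.mapDerivedCategory.map (s • 𝟙 (DerivedCategory.Q.obj K)) = σ s • 𝟙 _ := by
    have n1 := P.mapDerivedCategoryFactors.hom.naturality (s • 𝟙 K)
    have e1 : DerivedCategory.Q.map (s • 𝟙 K) = s • 𝟙 (DerivedCategory.Q.obj K) := by
      rw [Functor.map_smul, CategoryTheory.Functor.map_id]
    simp only [Functor.comp_map, h1, e1, Functor.map_smul, CategoryTheory.Functor.map_id, Linear.comp_smul] at n1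
    rw [← cancel_mono (P.mapDerivedCategoryFactors.hom.app K), Linear.smul_comp, Category.id_comp]
    exact n1.trans (by simp)
  have h3 : s • 𝟙 Y = e.inv ≫ (s • 𝟙 (DerivedCategory.Q.obj K)) ≫ e.hom := by
    simp [Linear.smul_comp, Linear.comp_smul]
  rw [h3, Functor.map_comp, Functor.map_comp, h2, Linear.smul_comp, Linear.comp_smul, Category.id_comp,
    ← Functor.map_comp, e.inv_hom_id, CategoryTheory.Functor.map_id]

end Lin

section Site

variable {C D : Type u} [SmallCategory C] [SmallCategory D] {J : GrothendieckTopology C} {K : GrothendieckTopology D}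
  {O : Sheaf J CommRingCat.{u}} {O' : Sheaf K CommRingCat.{u}}
  (P : ModSite.Mod O' ⥤ ModSite.Mod O) [P.Additive] [PreservesFiniteLimits P] [PreservesFiniteColimits P]
  (σ : DerComp.GSec O' → DerComp.GSec O)

/-- The criterion of bijectivity for functors of modules on ringed sites. -/
theorem bijective_of_complete_site
    (hσ : ∀ (r : DerComp.GSec O') (Y : DerivedCategory (ModSite.Mod O')),
      P.mapDerivedCategory.map (r • 𝟙 Y) = σ r • 𝟙 (P.mapDerivedCategory.obj Y))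
    {E : DerivedCategory (ModSite.Mod O')} (S : List (DerComp.GSec O')) (Q : DerivedCategory (ModSite.Mod O') → Prop)
    (hQs : ∀ Y, Q Y → ∀ n : ℤ, Q (Y⟦n⟧))
    (hQc : ∀ r ∈ S, ∀ (Y Z : DerivedCategory (ModSite.Mod O')) (g : Y ⟶ Z) (δ : Z ⟶ Y⟦(1 : ℤ)⟧),
      Triangle.mk (r • 𝟙 Y) g δ ∈ distTriang _ → Q Y → Q Z)
    (hc : ∀ r ∈ S, ∀ Y, Q Y → IsComplElt (E ⟶ Y) r ∧
      IsComplElt (P.mapDerivedCategory.obj E ⟶ P.mapDerivedCategory.obj Y) (σ r))
    (hbase : ∀ Y, Q Y → (∀ q ∈ S, ∃ N : ℕ, q ^ N • 𝟙 Y = 0) →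
      Function.Bijective (fun φ : E ⟶ Y => P.mapDerivedCategory.map φ))
    (Y : DerivedCategory (ModSite.Mod O')) (hY : Q Y) :
    Function.Bijective (fun φ : E ⟶ Y => P.mapDerivedCategory.map φ) :=
  bijective_of_complete P.mapDerivedCategory σ hσ S Q hQs hQc hc hbase S (fun _ h => h) Y hY fun _ hq => Or.inl hq

end Site

variable {X : Scheme.{u}} [IsLocallyNoetherian X] (𝓘 : X.IdealSheafData)
  (hX : (FSch.completionAlong X 𝓘).IsFormal)

/-- The completion morphism. -/
abbrev κ : ModSite.RMor ((FSch.completionAlong X 𝓘).Osh hX) X.sheaf :=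
  μ (FSch.completionToX X 𝓘) (FSch.completionToX_comm X 𝓘) hX

theorem hci_compl (n : ℕ) : IsClosedImmersion (FSch.completionToX X 𝓘 n) :=
  inferInstanceAs (IsClosedImmersion (𝓘 ^ (n + 1)).subschemeι)

theorem hker_compl (n : ℕ) : (FSch.completionToX X 𝓘 n).ker = 𝓘 ^ (n + 1) :=
  Scheme.IdealSheafData.ker_subschemeι _

/-- Global sections pulled to the completion. -/
def tsec : DerComp.GSec X.sheaf →+* DerComp.GSec ((FSch.completionAlong X 𝓘).Osh hX) :=
  (RingHom.pi fun V : Opens ((FSch.completionAlong X 𝓘).X 0).carrier =>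
    (oRes ((FSch.completionAlong X 𝓘).Osh hX) (U := tr₀ (FSch.completionToX X 𝓘) ⊤)
      (show V ≤ tr₀ (FSch.completionToX X 𝓘) ⊤ from fun _ _ => trivial)).comp
      ((sharp (FSch.completionToX X 𝓘) (FSch.completionToX_comm X 𝓘) hX ⊤).comp
        ((Pi.evalRingHom _ ⊤).comp (DerComp.GSec X.sheaf).subtype))).codRestrict _
    fun s V W g => oRes_oRes _ _ _

theorem mem_idSh_iff (V : Opens ((FSch.completionAlong X 𝓘).X 0).carrier)
    (c : FBlowLib.Sec (FSch.completionAlong X 𝓘) hX V) : c ∈ (idSh hX).ideal V ↔ c ∈ jdl hX V :=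
  (FTors.mem_openIdealFam_iff _ hX 0 V c).trans RingHom.mem_ker.symm

theorem tsec_tr (s : DerComp.GSec X.sheaf) (U : X.Opens) :
    (tsec 𝓘 hX s).1 (tr₀ (FSch.completionToX X 𝓘) U) =
      sharp (FSch.completionToX X 𝓘) (FSch.completionToX_comm X 𝓘) hX U (s.1 U) := by
  have h := sharp_res (FSch.completionToX X 𝓘) (FSch.completionToX_comm X 𝓘) hX (le_top : U ≤ ⊤) (s.1 ⊤)
  rw [show oRes X.sheaf (le_top : U ≤ ⊤) (s.1 ⊤) = s.1 U from s.2 (homOfLE le_top)] at h
  exact h

theorem push_smulEnd (s : DerComp.GSec X.sheaf) (N : FSch.ModF (FSch.completionAlong X 𝓘) hX) :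
    (κ 𝓘 hX).push.map (DerComp.smulEnd (tsec 𝓘 hX s) N) = DerComp.smulEnd s ((κ 𝓘 hX).push.obj N) := by
  apply SheafOfModules.hom_ext
  ext U x
  obtain ⟨U⟩ := U
  refine Eq.trans ?_ (DerComp.smulEnd_apply s ((κ 𝓘 hX).push.obj N) (op U) x).symm
  refine (congrArg (fun c => (c : ((FSch.completionAlong X 𝓘).Osh hX).obj.obj (op (tr₀ (FSch.completionToX X 𝓘) U))) •
    (show DerCompLib.Sec N (tr₀ (FSch.completionToX X 𝓘) U) from x)) (tsec_tr 𝓘 hX s U)).trans ?_
  exact (psmul (FSch.completionToX X 𝓘) (FSch.completionToX_comm X 𝓘) hX (s.1 U)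
    (show DerCompLib.Sec N (tr₀ (FSch.completionToX X 𝓘) U) from x)).symm

theorem pull_smulEnd (s : DerComp.GSec X.sheaf) (M : ModSite.Mod X.sheaf) :
    (κ 𝓘 hX).pull.map (DerComp.smulEnd s M) = DerComp.smulEnd (tsec 𝓘 hX s) ((κ 𝓘 hX).pull.obj M) := by
  apply ((κ 𝓘 hX).adj.homEquiv _ _).injective
  rw [Adjunction.homEquiv_unit, Adjunction.homEquiv_unit, push_smulEnd]
  exact ((κ 𝓘 hX).adj.unit.naturality _).symm.trans
    (DerComp.smulEnd_comm s (F := M) ((κ 𝓘 hX).adj.unit.app M))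

variable [PreservesFiniteLimits (κ 𝓘 hX).pull]

local instance shAddF : ∀ n : ℤ, (shiftFunctor (DerivedCategory (ModSite.Mod X.sheaf)) n).Additive :=
  fun _ => inferInstance

local instance shLinF : ∀ n : ℤ, (shiftFunctor (DerivedCategory (ModSite.Mod X.sheaf)) n).Linear (DerComp.GSec X.sheaf) :=
  fun _ => inferInstance

theorem pullD_smul (s : DerComp.GSec X.sheaf) (Y : DerivedCategory (ModSite.Mod X.sheaf)) :
    (SiteCmp.pullD (κ 𝓘 hX)).map (s • 𝟙 Y) = tsec 𝓘 hX s • 𝟙 ((SiteCmp.pullD (κ 𝓘 hX)).obj Y) :=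
  mapDerivedCategory_smul (κ 𝓘 hX).pull (tsec 𝓘 hX) (fun r M => by
    change (κ 𝓘 hX).pull.map (DerComp.smulEnd r M ≫ 𝟙 M) = DerComp.smulEnd (tsec 𝓘 hX r) _ ≫ 𝟙 _
    rw [Category.comp_id, Category.comp_id]
    exact pull_smulEnd 𝓘 hX r M) s Y

variable {A : Type u} [CommRing A] (I : Ideal A) (f : X ⟶ Spec (CommRingCat.of A))
  (h𝓘 : 𝓘 = (FSch.idealSpec A I).comap f)

include h𝓘 in
theorem ideal_eq_map {W : X.Opens} (hW : IsAffineOpen W) :
    𝓘.ideal ⟨W, hW⟩ = I.map ((Pi.evalRingHom _ W).comp ((DerComp.GSec X.sheaf).subtype.comp (baseGSec f))) := by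
  subst h𝓘
  rw [Formal2Lib.ModSysAlgz.ideal_comap_idealSpec f I ⟨W, hW⟩]
  rfl

include h𝓘 in
theorem tsec_mem {a : A} (ha : a ∈ I) (V : Opens ((FSch.completionAlong X 𝓘).X 0).carrier) :
    (tsec 𝓘 hX (baseGSec f a)).1 V ∈ (idSh hX).ideal V := by
  let t := tsec 𝓘 hX (baseGSec f a)
  have hL := FSchLib.isLocNoethFormal_completionAlong 𝓘
  refine (idSh hX).glue (Sieve.ofArrows (fun W : {W : X.Opens // IsAffineOpen W} => tr₀ (FSch.completionToX X 𝓘) W.1 ⊓ V)
    fun W => homOfLE inf_le_right) (fun y hy => ?_) fun Z k hk => ?_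
  · obtain ⟨W, hW, hyW, -⟩ := exists_isAffineOpen_mem_and_subset
      (show FSch.completionToX X 𝓘 0 y ∈ (⊤ : X.Opens) from trivial)
    exact ⟨_, homOfLE inf_le_right, Sieve.ofArrows_mk _ _ (⟨W, hW⟩ : {W : X.Opens // IsAffineOpen W}), hyW, hy⟩
  obtain ⟨_, k', _, ⟨⟨W, hW⟩⟩, rfl⟩ := hk
  have hm : (baseGSec f a).1 W ∈ 𝓘.ideal ⟨W, hW⟩ ^ (0 + 1) := by
    rw [pow_one, ideal_eq_map 𝓘 I f h𝓘 hW]
    exact Ideal.mem_map_of_mem _ ha
  have h1 := sharp_mem_jdl (FSch.completionToX X 𝓘) (FSch.completionToX_comm X 𝓘) hX (hci_compl 𝓘) 𝓘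
    (hker_compl 𝓘) hW hm hL
  rw [pow_one, ← tsec_tr] at h1
  have h2 := (idSh hX).map_mem (homOfLE (k'.le.trans inf_le_left))
    ((mem_idSh_iff 𝓘 hX _ _).2 h1)
  refine cast (congrArg (fun x => x ∈ (idSh hX).ideal _) ?_) h2
  exact (t.2 _).trans (t.2 _).symm

theorem isDerComp_of_coh (F : DerivedCategory (FSch.ModF (FSch.completionAlong X 𝓘) hX))
    (hF : ∀ i : ℤ, FSch.IsCohF _ hX (SiteCmp.HMod F i)) :
    DerComp.IsDerComp _ (idSh hX) F := by
  have hL := FSchLib.isLocNoethFormal_completionAlong 𝓘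
  obtain ⟨L, hK, hLI, ⟨e⟩⟩ := exists_kInj_rep F
  have hFL : ∀ i : ℤ, FSch.IsCohF _ hX (SiteCmp.HMod (DerivedCategory.Q.obj L) i) := fun i => by
    haveI := (weakSerre_cohP hX hL).1
    exact (cohP hX).prop_of_iso ((DerivedCategory.homologyFunctor _ i).mapIso e) (hF i)
  exact (isDerComp_iff_secIdeal L hLI e (idSh hX)).2 fun U s hs => mem_secIdeal_of_coh hL L hLI hFL s
    fun W l hW => (mem_idSh_iff 𝓘 hX W _).1 ((idSh hX).map_mem (homOfLE l) hs)

theorem isCohF_pullD {E : DerivedCategory (ModSite.Mod X.sheaf)} (hE : DCoh.IsCohD (X := X) E) (i : ℤ) :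
    FSch.IsCohF _ hX (SiteCmp.HMod ((SiteCmp.pullD (κ 𝓘 hX)).obj E) i) := by
  obtain ⟨e⟩ := nonempty_HMod_pull (FSch.completionToX X 𝓘) (FSch.completionToX_comm X 𝓘) hX E i
  haveI := (weakSerre_cohP hX (FSchLib.isLocNoethFormal_completionAlong 𝓘)).1
  exact (cohP hX).prop_of_iso e.symm (isCohF_pullC 𝓘 hX (hE i))

include h𝓘 in
/-- Modules killed by powers of generators are torsion. -/
theorem isTorsZp_of_killed {r : ℕ} (a : Fin r → A) (ha : Submodule.span A (Set.range a) = I)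
    (M : ModSite.Mod X.sheaf) (hM : ∀ j, ∃ N : ℕ, baseGSec f (a j) ^ N • 𝟙 M = 0) :
    FTors.IsTorsZp X 𝓘 M := by
  choose N hN using hM
  obtain ⟨k, hk⟩ := Ideal.exists_pow_le_of_le_radical_of_fg (I := I)
    (J := Ideal.span (Set.range fun j => a j ^ N j))
    (by
      rw [← ha]
      refine Submodule.span_le.2 ?_
      rintro _ ⟨j, rfl⟩
      exact ⟨N j, Ideal.subset_span ⟨j, rfl⟩⟩)
    (by rw [← ha]; exact ⟨(Set.finite_range a).toFinset, by simp⟩)
  intro U x
  refine FTors.IsTorsSect.of_killedBy (n := k) fun V g b hb => ?_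
  let x' : DerCompLib.Sec M V := secRes M g x
  let R : Sieve V :=
    { arrows := fun W l => secRes M l ((show X.sheaf.obj.obj (op V) from b) • x') = 0
      downward_closed := fun {W W'} l hl o => by rw [← FModLib.secRes_comp, hl, map_zero] }
  refine DerCompLib.sec_ext M R (fun z hz => ?_) _ _ fun W l hl => (show secRes M l _ = 0 from hl).trans (map_zero _).symm
  obtain ⟨W, hW, hzW, hWV⟩ := exists_isAffineOpen_mem_and_subset hz
  refine ⟨W, homOfLE hWV, ?_, hzW⟩
  show secRes M _ (_ • _) = 0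
  rw [secRes_smul']
  have h1 : oRes X.sheaf hWV b ∈ (I ^ k).map ((Pi.evalRingHom _ W).comp
      ((DerComp.GSec X.sheaf).subtype.comp (baseGSec f))) := by
    rw [Ideal.map_pow, ← ideal_eq_map 𝓘 I f h𝓘 hW]
    exact mem_powIdeal 𝓘 hb hW hWV
  replace h1 := Ideal.map_mono hk h1
  rw [Ideal.map_span] at h1
  let m := secRes M (homOfLE hWV) x'
  change oRes X.sheaf hWV b • m = 0
  refine Submodule.span_induction (p := fun c _ => c • m = 0) ?_ (zero_smul _ _)
    (fun c d _ _ hc hd => by rw [add_smul, hc, hd, add_zero]) (fun c d _ hd => by rw [smul_eq_mul, mul_smul, hd, smul_zero]) h1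
  rintro _ ⟨_, ⟨j, rfl⟩, rfl⟩
  have h2 := congrArg (fun φ => secMap φ W m) (hN j)
  refine Eq.trans ?_ h2
  change _ = secMap (DerComp.smulEnd (baseGSec f (a j) ^ N j) M ≫ 𝟙 M) W m
  rw [map_pow]
  rfl

/-- Coherent objects bounded below are closed under cones of endomorphisms. -/
theorem isCohD_cone {Z C : DerivedCategory (ModSite.Mod X.sheaf)} {m : Z ⟶ Z} {g : Z ⟶ C} {δ : C ⟶ Z⟦(1 : ℤ)⟧}
    (hT : Triangle.mk m g δ ∈ distTriang (DerivedCategory (ModSite.Mod X.sheaf))) (hZ : DCoh.IsCohD (X := X) Z) :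
    DCoh.IsCohD (X := X) C :=
  SiteDer16.cohIn_obj₂ (A := X.Modules) (DQCoh.coh X) (rot_of_distTriang _ hT) hZ
    (SiteDer16.cohIn_shift (A := X.Modules) (DQCoh.coh X) 1 hZ)

theorem isGE_cone {Z C : DerivedCategory (ModSite.Mod X.sheaf)} {m : Z ⟶ Z} {g : Z ⟶ C} {δ : C ⟶ Z⟦(1 : ℤ)⟧}
    (hT : Triangle.mk m g δ ∈ distTriang (DerivedCategory (ModSite.Mod X.sheaf))) (c : ℤ) [Z.IsGE c] :
    C.IsGE (c - 1) :=
  DerivedCategory.TStructure.t.isGE₂ _ (rot_of_distTriang _ hT) (c - 1)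
    (DerivedCategory.TStructure.t.isGE_of_ge Z (c - 1) c (by omega))
    (DerivedCategory.TStructure.t.isGE_shift Z c 1 (c - 1) (by omega))

omit [PreservesFiniteLimits (κ 𝓘 hX).pull] in
theorem smul_hMod_eq_zero (s : DerComp.GSec X.sheaf) (Z : DerivedCategory (ModSite.Mod X.sheaf)) (h : s • 𝟙 Z = 0)
    (n : ℤ) : s • 𝟙 ((DerivedCategory.homologyFunctor (ModSite.Mod X.sheaf) n).obj Z) = 0 := by
  let K := DerivedCategory.Q.objPreimage Z
  let e : DerivedCategory.Q.obj K ≅ Z := DerivedCategory.Q.objObjPreimageIso Z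
  have hK : s • 𝟙 (DerivedCategory.Q.obj K) = 0 := by
    rw [← e.hom_inv_id, ← Category.id_comp e.inv, ← Linear.comp_smul, ← Linear.smul_comp, h, zero_comp, comp_zero]
  have h1 := smul_homology_eq_zero _ K hK n
  let eH : (DerivedCategory.homologyFunctor (ModSite.Mod X.sheaf) n).obj Z ≅ K.homology n :=
    (DerivedCategory.homologyFunctor _ n).mapIso e.symm ≪≫ (DerivedCategory.homologyFunctorFactors _ n).app K
  rw [← eH.hom_inv_id, ← Category.id_comp eH.inv, ← Linear.comp_smul, ← Linear.smul_comp, h1, zero_comp, comp_zero]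

include h𝓘 in
theorem bijective_pullD_killed {r : ℕ} (a : Fin r → A) (ha : Submodule.span A (Set.range a) = I)
    (E Z : DerivedCategory (ModSite.Mod X.sheaf))
    (hq : ∀ j, ∃ N : ℕ, baseGSec f (a j) ^ N • 𝟙 Z = 0) :
    Function.Bijective (fun φ : E ⟶ Z => (SiteCmp.pullD (κ 𝓘 hX)).map φ) := by
  haveI := preservesFiniteColimits_push (FSch.completionToX X 𝓘) (FSch.completionToX_comm X 𝓘) hX (hci_compl 𝓘)
  haveI : PreservesLimitsOfSize.{0, 0} (κ 𝓘 hX).push := (κ 𝓘 hX).adj.rightAdjoint_preservesLimits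
  refine bijective_mapD_left (κ 𝓘 hX).adj E Z fun n => ?_
  exact isIso_unit_of_tors (FSch.completionToX X 𝓘) (FSch.completionToX_comm X 𝓘) hX (hci_compl 𝓘) 𝓘
    (hker_compl 𝓘) (FSchLib.isLocNoethFormal_completionAlong 𝓘)
    (isTorsZp_of_killed 𝓘 I f h𝓘 a ha _ fun j => (hq j).imp fun N hN => smul_hMod_eq_zero _ Z hN n)

include h𝓘 in
/-- Completion is bijective on maps from bounded above to bounded below coherent objects. -/
theorem bijective_pullD_coh [IsNoetherianRing A] [IsAdicComplete I A] [IsProper f]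
    (E Y : DerivedCategory (ModSite.Mod X.sheaf)) (hE : DCoh.IsCohD (X := X) E) (hY : DCoh.IsCohD (X := X) Y)
    (b c : ℤ) [E.IsLE b] [Y.IsGE c] :
    Function.Bijective (fun φ : E ⟶ Y => (SiteCmp.pullD (κ 𝓘 hX)).map φ) := by
  obtain ⟨r, a, ha⟩ := Submodule.fg_iff_exists_fin_generating_family.1 (IsNoetherian.noetherian I)
  have haI : ∀ j, a j ∈ I := fun j => ha ▸ Submodule.subset_span ⟨j, rfl⟩
  let S := List.ofFn fun j => baseGSec f (a j)
  let Q : DerivedCategory (ModSite.Mod X.sheaf) → Prop := fun Z => DCoh.IsCohD (X := X) Z ∧ ∃ c : ℤ, Z.IsGE c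
  refine bijective_of_complete_site (κ 𝓘 hX).pull (tsec 𝓘 hX) (pullD_smul 𝓘 hX) S Q
    (fun Z hZ n => ?_) (fun q _ Z C g δ hT hZ => ?_) (fun q hq Z hZ => ?_) (fun Z hZ hq => ?_) Y
    ⟨hY, c, ‹_›⟩
  · obtain ⟨c', hc'⟩ := hZ.2
    exact ⟨isCohD_shift Z hZ.1 n, c' - n, DerivedCategory.TStructure.t.isGE_shift Z c' n (c' - n) (by omega)⟩
  · obtain ⟨hZc, c', hc'⟩ := hZ
    exact ⟨isCohD_cone hT hZc, c' - 1, isGE_cone hT c'⟩
  · obtain ⟨hZc, c', hc'⟩ := hZ
    obtain ⟨j, rfl⟩ := List.mem_ofFn.1 hq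
    refine ⟨isComplElt_of_finite f I E Z hE hZc b c' (haI j), ?_⟩
    exact isComplElt_hom (idSh hX) _ (tsec_mem 𝓘 hX I f h𝓘 (haI j)) _ _
      (isDerComp_of_coh 𝓘 hX _ (isCohF_pullD 𝓘 hX hZc))
  · exact bijective_pullD_killed 𝓘 hX I f h𝓘 a ha E Z fun j => hq _ (List.mem_ofFn.2 ⟨j, rfl⟩)

end Groth.Agent.RGamT
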