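import Groth.Agent.RGamT.CompFF

/-!
# Cohomology of derived inverse images along a completion
-/

set_option autoImplicit false
set_option backward.isDefEq.respectTransparency false
set_option backward.defeqAttrib.useBackward true
set_option linter.style.haveILetI false
set_option linter.unusedSectionVars false
set_option maxHeartbeats 1000000
set_option synthInstance.maxHeartbeats 400000

universe w w' v v' u u'

open CategoryTheory CategoryTheory.Limits CategoryTheory.Pretriangulated DerivedCategory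

noncomputable section

namespace Groth.Agent.RGamT

variable {C : Type u} [Category.{v} C] [Abelian C] [HasDerivedCategory.{w} C]
  {B : Type u'} [Category.{v'} B] [Abelian B] [HasDerivedCategory.{w'} B]
  (P : C ⥤ B) [P.Additive] [PreservesFiniteLimits P] [PreservesFiniteColimits P]

/-- Exact functors commute with cohomology, on complexes. -/
def homologyMapCxIso (n : ℤ) :
    P.mapHomologicalComplex (ComplexShape.up ℤ) ⋙ HomologicalComplex.homologyFunctor B (ComplexShape.up ℤ) n ≅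
      HomologicalComplex.homologyFunctor C (ComplexShape.up ℤ) n ⋙ P :=
  NatIso.ofComponents (fun K => (K.sc n).mapHomologyIso P) fun {K L} f =>
    ShortComplex.mapHomologyIso_hom_naturality ((HomologicalComplex.shortComplexFunctor C (ComplexShape.up ℤ) n).map f) P

/-- Exact functors commute with cohomology, on derived categories. -/
def homologyMapDIso (n : ℤ) :
    P.mapDerivedCategory ⋙ homologyFunctor B n ≅ homologyFunctor C n ⋙ P :=
  letI : Localization.Lifting Q (HomologicalComplex.quasiIso C (ComplexShape.up ℤ))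
      (P.mapHomologicalComplex (ComplexShape.up ℤ) ⋙ HomologicalComplex.homologyFunctor B (ComplexShape.up ℤ) n)
      (P.mapDerivedCategory ⋙ homologyFunctor B n) :=
    ⟨(Functor.associator _ _ _).symm ≪≫ Functor.isoWhiskerRight P.mapDerivedCategoryFactors _ ≪≫
      Functor.associator _ _ _ ≪≫ Functor.isoWhiskerLeft _ (homologyFunctorFactors B n)⟩
  letI : Localization.Lifting Q (HomologicalComplex.quasiIso C (ComplexShape.up ℤ))
      (HomologicalComplex.homologyFunctor C (ComplexShape.up ℤ) n ⋙ P) (homologyFunctor C n ⋙ P) :=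
    ⟨(Functor.associator _ _ _).symm ≪≫ Functor.isoWhiskerRight (homologyFunctorFactors C n) P⟩
  Localization.liftNatIso Q (HomologicalComplex.quasiIso C (ComplexShape.up ℤ)) _ _
    (P.mapDerivedCategory ⋙ homologyFunctor B n) (homologyFunctor C n ⋙ P) (homologyMapCxIso P n)

/-- Cohomology isomorphisms pass to images. -/
theorem isIso_homology_mapD {K L : DerivedCategory C} (f : K ⟶ L) (n : ℤ)
    [IsIso ((homologyFunctor C n).map f)] : IsIso ((homologyFunctor B n).map (P.mapDerivedCategory.map f)) :=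
  ((MorphismProperty.isomorphisms B).arrow_mk_iso_iff
    (Arrow.isoMk ((homologyMapDIso P n).app K) ((homologyMapDIso P n).app L)
      ((homologyMapDIso P n).hom.naturality f).symm)).2 (inferInstanceAs (IsIso (P.map ((homologyFunctor C n).map f))))

/-- Isomorphisms of images come from isomorphisms of cohomology. -/
theorem isIso_of_isIso_homology_mapD {K L : DerivedCategory C} (f : K ⟶ L) (n : ℤ)
    [IsIso ((homologyFunctor B n).map (P.mapDerivedCategory.map f))] :
    IsIso (P.map ((homologyFunctor C n).map f)) :=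
  ((MorphismProperty.isomorphisms B).arrow_mk_iso_iff
    (Arrow.isoMk ((homologyMapDIso P n).app K) ((homologyMapDIso P n).app L)
      ((homologyMapDIso P n).hom.naturality f).symm)).1 ‹_›

/-- Cohomology of images. -/
def homologyObjIso (K : DerivedCategory C) (n : ℤ) :
    (homologyFunctor B n).obj (P.mapDerivedCategory.obj K) ≅ P.obj ((homologyFunctor C n).obj K) :=
  (homologyMapDIso P n).app K

/-- Comparison of derived limits along a triangulated functor. -/
theorem exists_rlim_comparison {D : Type u} [Category.{v} D] [Preadditive D] [HasZeroObject D] [HasShift D ℤ]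
    [∀ n : ℤ, (shiftFunctor D n).Additive] [Pretriangulated D]
    {D' : Type u'} [Category.{v'} D'] [Preadditive D'] [HasZeroObject D'] [HasShift D' ℤ]
    [∀ n : ℤ, (shiftFunctor D' n).Additive] [Pretriangulated D']
    (L : D ⥤ D') [L.Additive] [L.CommShift ℤ] [L.IsTriangulated]
    {K : ℕ → D} (t : ∀ n, K (n + 1) ⟶ K n) [HasProduct K] {E : D} (a : ∀ n, E ⟶ K n)
    (hE : CohCx.IsRlimVia K t E a)
    {K' : ℕ → D'} (t' : ∀ n, K' (n + 1) ⟶ K' n) [HasProduct K'] {W : D'} (a' : ∀ n, W ⟶ K' n)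
    (hW : CohCx.IsRlimVia K' t' W a')
    (θ : ∀ n, L.obj (K n) ≅ K' n) (ht : ∀ n, L.map (t n) = (θ (n + 1)).hom ≫ t' n ≫ (θ n).inv) :
    ∃ j : L.obj E ⟶ W, (∀ n, j ≫ a' n = L.map (a n) ≫ (θ n).hom) ∧
      ∀ E' : D, (∀ n, Function.Bijective (fun φ : E' ⟶ K n => L.map φ)) →
        (∀ n, Function.Surjective (fun φ : E'⟦(1 : ℤ)⟧ ⟶ K n => L.map φ)) →
        Function.Surjective (fun φ : E' ⟶ E => L.map φ ≫ j) := by
  obtain ⟨δ, hT⟩ := hE
  obtain ⟨δ', hT'⟩ := hW
  let d : ∏ᶜ K ⟶ ∏ᶜ K := Pi.lift fun n => Pi.π K n - Pi.π K (n + 1) ≫ t n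
  let d' : ∏ᶜ K' ⟶ ∏ᶜ K' := Pi.lift fun n => Pi.π K' n - Pi.π K' (n + 1) ≫ t' n
  let c : L.obj (∏ᶜ K) ⟶ ∏ᶜ K' := Pi.lift fun n => L.map (Pi.π K n) ≫ (θ n).hom
  have hsq : L.map d ≫ c = c ≫ d' := Pi.hom_ext _ _ fun n => by
    simp only [Category.assoc, c, d', Pi.lift_π, Preadditive.comp_sub, Pi.lift_π_assoc]
    rw [← L.map_comp_assoc, Pi.lift_π, L.map_sub, Preadditive.sub_comp, L.map_comp, ht]
    simp
  obtain ⟨j, hj1, hj3⟩ : ∃ j : L.obj E ⟶ W, L.map (Pi.lift a) ≫ c = j ≫ Pi.lift a' ∧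
      (L.map δ ≫ (L.commShiftIso (1 : ℤ)).hom.app E) ≫ (shiftFunctor D' (1 : ℤ)).map j = c ≫ δ' :=
    complete_distinguished_triangle_morphism₁ _ _ (L.map_distinguished _ hT) hT' c c hsq
  refine ⟨j, fun n => ?_, fun E' hb hs ψ => ?_⟩
  · have h := congrArg (fun z => z ≫ Pi.π K' n) hj1
    simp only [Category.assoc, Pi.lift_π, c] at h
    rw [← h, ← L.map_comp_assoc, Pi.lift_π]
  have hP : ∀ (Z : D), (∀ n, Function.Surjective (fun φ : Z ⟶ K n => L.map φ)) →
      ∀ ψ : L.obj Z ⟶ ∏ᶜ K', ∃ φ : Z ⟶ ∏ᶜ K, L.map φ ≫ c = ψ := fun Z hZ ψ => by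
    choose g hg using fun n => hZ n (ψ ≫ Pi.π K' n ≫ (θ n).inv)
    refine ⟨Pi.lift g, Pi.hom_ext _ _ fun n => ?_⟩
    rw [Category.assoc, Pi.lift_π, ← L.map_comp_assoc, Pi.lift_π, show L.map (g n) = _ from hg n]
    simp
  obtain ⟨g, hg⟩ := hP E' (fun n => (hb n).2) (ψ ≫ Pi.lift a')
  have hgd : g ≫ d = 0 := Pi.hom_ext _ _ fun n => (hb n).1 (by
    show L.map ((g ≫ d) ≫ Pi.π K n) = L.map ((0 : E' ⟶ ∏ᶜ K) ≫ Pi.π K n)
    rw [zero_comp, L.map_zero, ← cancel_mono (θ n).hom, zero_comp]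
    have h : (L.map g ≫ L.map d ≫ c) ≫ Pi.π K' n = 0 := by
      have h0 : Pi.lift a' ≫ d' = 0 := comp_distTriang_mor_zero₁₂ _ hT'
      rw [hsq, ← Category.assoc (L.map g) c d', hg, Category.assoc ψ, h0, comp_zero, zero_comp]
    simpa [c] using h)
  obtain ⟨φ₀, hφ₀⟩ : ∃ φ₀ : E' ⟶ E, g = φ₀ ≫ Pi.lift a := Triangle.coyoneda_exact₂ _ hT g hgd
  let ε : L.obj E' ⟶ W := ψ - L.map φ₀ ≫ j
  have hε : ε ≫ Pi.lift a' = 0 := by
    show (ψ - L.map φ₀ ≫ j) ≫ Pi.lift a' = 0
    rw [Preadditive.sub_comp, Category.assoc, ← hj1, ← L.map_comp_assoc, ← hφ₀, hg, sub_self]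
  obtain ⟨y, hy⟩ : ∃ y : (L.obj E')⟦(1 : ℤ)⟧ ⟶ ∏ᶜ K', (shiftFunctor D' (1 : ℤ)).map ε = y ≫ δ' :=
    Triangle.coyoneda_exact₁ _ hT' ((shiftFunctor D' (1 : ℤ)).map ε) (by
      change (shiftFunctor D' (1 : ℤ)).map ε ≫ (shiftFunctor D' (1 : ℤ)).map (Pi.lift a') = 0
      rw [← Functor.map_comp, hε, Functor.map_zero])
  obtain ⟨g₁, hg₁⟩ := hP (E'⟦(1 : ℤ)⟧) hs ((L.commShiftIso (1 : ℤ)).hom.app E' ≫ y)
  obtain ⟨φ₁, hφ₁⟩ := (shiftFunctor D (1 : ℤ)).map_surjective (g₁ ≫ δ)
  refine ⟨φ₀ + φ₁, ?_⟩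
  have h1 : L.map φ₁ ≫ j = ε := by
    apply (shiftFunctor D' (1 : ℤ)).map_injective
    rw [← cancel_epi ((L.commShiftIso (1 : ℤ)).hom.app E'), hy, ← Category.assoc _ y, ← hg₁, Category.assoc, ← hj3,
      Functor.map_comp, ← Category.assoc, ← Category.assoc, ← Category.assoc, ← L.map_comp, ← hφ₁]
    have hn := (L.commShiftIso (1 : ℤ)).hom.naturality φ₁
    dsimp at hn
    rw [← hn]
  show L.map (φ₀ + φ₁) ≫ j = ψ
  rw [L.map_add, Preadditive.add_comp, h1, add_sub_cancel]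

end Groth.Agent.RGamT
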