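import Groth.Agent.RGamT.CompUnit

/-!
# The direct image from a completion is exact
-/

set_option autoImplicit false
set_option backward.isDefEq.respectTransparency false
set_option linter.style.haveILetI false
set_option linter.unusedSectionVars false
set_option maxHeartbeats 1000000

universe u

open CategoryTheory CategoryTheory.Limits AlgebraicGeometry Opposite TopologicalSpace
open Groth.Agent.DerCompLib Groth.Agent.FModLib

noncomputable section

namespace Groth.Agent.RGamT

variable {X : Scheme.{u}} [IsLocallyNoetherian X] {𝔛 : FSch.Sys.{u}} (p : ∀ n, 𝔛.X n ⟶ X)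
  (hp : ∀ n, 𝔛.ι n ≫ p (n + 1) = p n) (h : 𝔛.IsFormal) (hci : ∀ n, IsClosedImmersion (p n))

include hci in
/-- Sections over an open of empty trace vanish. -/
theorem sec_eq_of_empty {M : FSch.ModF 𝔛 h} {A : (𝔛.X 0).Opens} (hA : ∀ z, z ∉ A)
    (x y : DerCompLib.Sec M A) : x = y :=
  DerCompLib.sec_ext M ⊥ (fun z hz => absurd hz (hA z)) x y fun _ _ hl => False.elim hl

include hci in
theorem preservesEpimorphisms_push : (pushμ p hp h).PreservesEpimorphisms where
  preserves {M N} g hg := by
    refine FModLib.epi_of_locally _ fun U b => ?_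
    let R : Sieve U :=
      { arrows := fun V k => ∃ a, secMap (O := X.sheaf) ((pushμ p hp h).map g) V a =
          secRes (O := X.sheaf) ((pushμ p hp h).obj N) k b
        downward_closed := fun {V V'} k hk o => by
          obtain ⟨a, ha⟩ := hk
          refine ⟨secRes (O := X.sheaf) ((pushμ p hp h).obj M) o a, ?_⟩
          rw [FModLib.secMap_secRes', ha, FModLib.secRes_comp] }
    refine ⟨R, fun y hy => ?_, fun W k hk => hk⟩
    haveI := hci 0
    by_cases hyZ : y ∈ Set.range (p 0)
    swap
    · let V : X.Opens := U ⊓ ⟨(Set.range (p 0))ᶜ, (p 0).isClosedEmbedding.isClosed_range.isOpen_compl⟩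
      refine ⟨V, homOfLE inf_le_left, ⟨0, ?_⟩, ⟨hy, hyZ⟩⟩
      exact sec_eq_of_empty p h hci (A := tr₀ p V)
        (fun z hz => (show p 0 z ∈ V from hz).2 ⟨z, rfl⟩) _ _
    obtain ⟨z, rfl⟩ := hyZ
    obtain ⟨A, i, hzA, a, ha⟩ := locally_surjective_of_epi g (U := tr₀ p U) b (x := z) hy
    obtain ⟨O, hO, -⟩ := exists_ext_open p hci
    have hle : tr₀ p (O A ⊓ U) ≤ A := fun w hw => (hO A).le (show w ∈ tr₀ p (O A) from hw.1)
    refine ⟨O A ⊓ U, homOfLE inf_le_right, ⟨mRes M hle a, ?_⟩, ?_, hy⟩
    · show secMap g (tr₀ p (O A ⊓ U)) (mRes M hle a) = mRes N ((p 0).preimage_mono inf_le_right) b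
      rw [secMap_mRes, ha, mRes_mRes]
    · exact show z ∈ tr₀ p (O A) from (hO A).ge hzA

include hci in
theorem preservesFiniteColimits_push : PreservesFiniteColimits (pushμ p hp h) := by
  haveI : PreservesLimitsOfSize.{0, 0} (pushμ p hp h) := (μ p hp h).adj.rightAdjoint_preservesLimits
  haveI := preservesEpimorphisms_push p hp h hci
  haveI : (pushμ p hp h).PreservesHomology :=
    Functor.preservesHomology_of_preservesEpis_and_kernels _
  exact (pushμ p hp h).preservesFiniteColimits_of_preservesHomology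

end Groth.Agent.RGamT
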