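import Groth.Agent.RGamT.CompUnit
import Groth.Agent.Stk19b.QPull

/-!
# Inverse images to a completion of quasi-coherent modules
-/

set_option autoImplicit false
set_option backward.isDefEq.respectTransparency false
set_option linter.style.haveILetI false
set_option linter.unusedSectionVars false
set_option maxHeartbeats 1000000

universe u

open CategoryTheory CategoryTheory.Limits AlgebraicGeometry Opposite TopologicalSpace

noncomputable section

namespace Groth.Agent.RGamT

variable {X : Scheme.{u}} {𝔛 : FSch.Sys.{u}} (p : ∀ n, 𝔛.X n ⟶ X)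
  (hp : ∀ n, 𝔛.ι n ≫ p (n + 1) = p n) (h : 𝔛.IsFormal)

/-- Inverse images of quasi-coherent modules are quasi-coherent. -/
theorem isQuasicoherent_pull (N : ModSite.Mod X.sheaf) [SheafOfModules.IsQuasicoherent.{u} N] :
    SheafOfModules.IsQuasicoherent.{u} ((FSch.toSchemeMor 𝔛 h p hp).pull.obj N) := by
  haveI : PreservesLimitsOfShape (Discrete WalkingPair) (Opens.map (p 0).base) := ⟨fun {K} => by
    haveI : PreservesLimit (pair (K.obj ⟨.left⟩) (K.obj ⟨.right⟩)) (Opens.map (p 0).base) :=
      preservesLimit_of_preserves_limit_cone (t := BinaryFan.mk (homOfLE inf_le_left : K.obj ⟨.left⟩ ⊓ K.obj ⟨.right⟩ ⟶ _)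
          (homOfLE inf_le_right))
        (BinaryFan.IsLimit.mk _ (fun a b => homOfLE (le_inf a.le b.le)) (fun _ _ => Subsingleton.elim _ _)
          (fun _ _ => Subsingleton.elim _ _) (fun _ _ _ _ _ => Subsingleton.elim _ _))
        ((isLimitMapConeBinaryFanEquiv _ _ _).symm
          (BinaryFan.IsLimit.mk _ (fun a b => homOfLE (le_inf a.le b.le)) (fun _ _ => Subsingleton.elim _ _)
            (fun _ _ => Subsingleton.elim _ _) (fun _ _ _ _ _ => Subsingleton.elim _ _)))
    exact preservesLimit_of_iso_diagram _ (diagramIsoPair K).symm⟩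
  have hcp : CoverPreserving (Opens.grothendieckTopology ↥X) (Opens.grothendieckTopology ↥(𝔛.X 0)) (Opens.map (p 0).base) :=
    coverPreserving_opens_map _
  haveI : ∀ U : Opens ↥X, (Over.post (X := U) (Opens.map (p 0).base)).IsContinuous
      ((Opens.grothendieckTopology ↥X).over U) ((Opens.grothendieckTopology ↥(𝔛.X 0)).over _) := fun U => by
    haveI : Functor.PreservesOneHypercovers.{u} (Opens.map (p 0).base) (Opens.grothendieckTopology ↥X)
        (Opens.grothendieckTopology ↥(𝔛.X 0)) := Functor.PreservesOneHypercovers.of_coverPreserving hcp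
    exact Functor.isContinuous_of_preservesOneHypercovers.{u} _ _ _
  refine Stk19b.QPull.isQuasicoherent_pullback (Opens.map (p 0).base) (FSch.toSchemeMor 𝔛 h p hp).sharpR
    (fun {I} U hU => ?_) N
  intro W z hz
  obtain ⟨V, g, ⟨i, ⟨k⟩⟩, hxV⟩ := hU ⊤ (p 0 z) trivial
  refine ⟨W ⊓ (Opens.map (p 0).base).obj V, homOfLE inf_le_left, ⟨i, ⟨homOfLE (inf_le_right.trans ?_)⟩⟩, hz, hxV⟩
  exact (p 0).preimage_mono k.le

end Groth.Agent.RGamT
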