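import Groth.Agent.RGamT.CompPush
import Groth.Agent.QCT3.Colim
import Groth.Agent.Coherent.QcohOps
import Groth.Agent.Coherent.FiniteType

/-!
# Direct images from a completion of quasi-coherent torsion modules
-/

set_option autoImplicit false
set_option backward.isDefEq.respectTransparency false
set_option linter.style.haveILetI false
set_option linter.unusedSectionVars false
set_option maxHeartbeats 1000000

universe u

open CategoryTheory CategoryTheory.Limits AlgebraicGeometry Opposite TopologicalSpace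
open Groth.Agent.DerCompLib Groth.Agent.FModLib Groth.Agent.Coherent

noncomputable section

namespace Groth.Agent.RGamT

variable {X : Scheme.{u}} [IsLocallyNoetherian X] {𝔛 : FSch.Sys.{u}} (p : ∀ n, 𝔛.X n ⟶ X)
  (hp : ∀ n, 𝔛.ι n ≫ p (n + 1) = p n) (h : 𝔛.IsFormal) (hci : ∀ n, IsClosedImmersion (p n))
  (𝓘 : X.IdealSheafData) (hker : ∀ n, (p n).ker = 𝓘 ^ (n + 1)) (hX : 𝔛.IsLocNoethFormal)

/-- A torsion section on a quasi-compact open is killed by one open ideal. -/
theorem exists_killedBy_compact {M : FSch.ModF 𝔛 h} (ht : FTors.IsTorsF 𝔛 h M) {A : (𝔛.X 0).Opens}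
    (hA : IsCompact (A : Set (𝔛.X 0))) (s : DerCompLib.Sec M A) :
    ∃ k, FTors.KilledBy (FTors.openIdealFam 𝔛 h) M k s := by
  classical
  choose V j hn hyV using fun y : (A : Set (𝔛.X 0)) => ht A s y.1 y.2
  choose n hn using hn
  obtain ⟨t, ht'⟩ := hA.elim_finite_subcover (fun y => (V y : Set (𝔛.X 0))) (fun y => (V y).2)
    fun y hy => Set.mem_iUnion.2 ⟨⟨y, hy⟩, hyV ⟨y, hy⟩⟩
  refine ⟨t.sup n, fun V' g b hb => ?_⟩
  let R : Sieve V' :=
    { arrows := fun U l => secRes M l (b • FTors.res M g s) = 0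
      downward_closed := fun {U U'} l hl i => by rw [← FModLib.secRes_comp, hl, map_zero] }
  refine DerCompLib.sec_ext M R (fun y hy => ?_) _ 0 fun U l hl =>
    (show secRes M l (b • FTors.res M g s) = 0 from hl).trans (map_zero _).symm
  obtain ⟨i, hi, hyi⟩ := Set.mem_iUnion₂.1 (ht' (leOfHom g hy))
  refine ⟨V' ⊓ V i, homOfLE inf_le_left, ?_, ⟨hy, hyi⟩⟩
  show secRes M _ (b • FTors.res M g s) = 0
  rw [secRes_smul']
  have h1 := (hn i).mono (Finset.le_sup hi) (homOfLE (inf_le_right : V' ⊓ V i ≤ V i)) _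
    ((FTors.openIdealFam 𝔛 h).map_mem' _ (homOfLE (inf_le_left : V' ⊓ V i ≤ V')) b hb)
  refine Eq.trans (congrArg _ ?_) h1
  refine ((FModLib.secRes_comp M g (homOfLE inf_le_left) s).trans ?_).trans
    (FModLib.secRes_comp M (j i) (homOfLE (inf_le_right : V' ⊓ V i ≤ V i)) s).symm
  exact congrArg (fun l => secRes M l s) (Subsingleton.elim _ _)

/-- A module exhausted over affine opens by quasi-coherent submodules is quasi-coherent. -/
theorem isQCoh_of_exhausted {N : X.Modules} (P : ℕ → X.Modules) (q : ∀ k, P k ⟶ N)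
    (hP : ∀ k, Coh.IsQCoh (P k)) (hinj : ∀ k (U : X.Opens), Function.Injective ((q k).app U))
    (hex : ∀ (U : X.Opens), IsAffineOpen U → ∀ s : Γ(N, U), ∃ k a, (q k).app U a = s) :
    Coh.IsQCoh N := by
  refine (isQCoh_iff_localizesOn N).2 fun U hU => ⟨fun f s => ?_, fun f t ht => ?_⟩
  · obtain ⟨k, a, rfl⟩ := hex _ (hU.basicOpen f) s
    haveI := hP k
    obtain ⟨n, t, ht⟩ := (localizesOn_of_isQCoh (P k) hU).exists_pow_smul f a
    refine ⟨n, (q k).app U t, ?_⟩
    rw [← Scheme.Modules.Hom.app_smul]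
    refine Eq.trans ?_ (congrArg ((q k).app _) ht)
    exact (ConcreteCategory.congr_hom ((q k).mapPresheaf.naturality (homOfLE (X.basicOpen_le f)).op) t).symm
  · obtain ⟨k, a, rfl⟩ := hex _ hU t
    haveI := hP k
    obtain ⟨n, hn⟩ := (localizesOn_of_isQCoh (P k) hU).exists_pow_smul_eq_zero f a (hinj k _ (by
      rw [map_zero]
      refine Eq.trans ?_ ht
      exact ConcreteCategory.congr_hom ((q k).mapPresheaf.naturality (homOfLE (X.basicOpen_le f)).op) a))
    exact ⟨n, by rw [← Scheme.Modules.Hom.app_smul, hn, map_zero]⟩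

include hci hker hX in
/-- Direct images of quasi-coherent torsion modules are quasi-coherent. -/
theorem isQCoh_push {M : FSch.ModF 𝔛 h} (hM : FTors.IsQCT 𝔛 h M) :
    Coh.IsQCoh (show X.Modules from (pushμ p hp h).obj M) := by
  refine isQCoh_of_exhausted (N := (pushμ p hp h).obj M) (fun k => (pushμ p hp h).obj (QCT3.kfun k M))
    (fun k => (pushμ p hp h).map (QCT3.kι k M)) (fun k => ?_) (fun k U => fun _ _ e => Subtype.ext e)
    fun U hU s => ?_
  · obtain ⟨F, ⟨e⟩⟩ := QCT3.exists_iso_up h k hX (QCT3.killed_kfun (h := h) k M)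
    haveI : Coh.IsQCoh F := QCT3.isQCoh_of_up hX
      (ObjectProperty.prop_of_iso (SheafOfModules.isQuasicoherent (ModSite.ringSh (𝔛.Osh h))) e
        (QCT3.isQuasicoherent_kfun hX hM.2 k))
    haveI := hci k
    haveI := isIso_schPushCompare_app p hp h k F
    haveI : Coh.IsQCoh ((Coh.push (p k)).obj F) := Coherent.isQCoh_push (p k) F
    exact ObjectProperty.prop_of_iso (SheafOfModules.isQuasicoherent X.ringCatSheaf)
      (asIso ((FSch.schPushCompare 𝔛 h p hp k).app F) ≪≫ (pushμ p hp h).mapIso e.symm) ‹_›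
  · obtain ⟨k, hk⟩ := exists_killedBy_compact h hM.1 (isAffineOpen_tr₀ p hci hU).isCompact
      (show DerCompLib.Sec M (tr₀ p U) from s)
    exact ⟨k, ⟨s, FTors.IsTorsSect.of_killedBy (n := 0) (I := QCT3.cstI h k) (M := M) fun V g b hb => hk g b hb⟩,
      rfl⟩

include hci hker hX in
/-- Direct images of coherent torsion modules are coherent. -/
theorem isCoh_push {M : FSch.ModF 𝔛 h} (hM : FTors.IsQCT 𝔛 h M) (hc : FSch.IsCohF 𝔛 h M) :
    Coh.IsCoh (show X.Modules from (pushμ p hp h).obj M) := by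
  refine (isCoh_iff_finite_sections _).2 ⟨isQCoh_push p hp h hci 𝓘 hker hX hM, fun U hU => ?_⟩
  have hA := isAffineOpen_tr₀ p hci hU
  haveI := (isPC_of_isCohF h hX M hc).finite (tr₀ p U) hA
  obtain ⟨q, g, hg⟩ := Module.Finite.exists_fin (R := FBlowLib.Sec 𝔛 h (tr₀ p U)) (M := DerCompLib.Sec M (tr₀ p U))
  let N : X.Modules := (pushμ p hp h).obj M
  let g' : Fin q → Γ(N, U) := fun l => g l
  suffices hsp : ∀ x : DerCompLib.Sec M (tr₀ p U), (show Γ(N, U) from x) ∈ Submodule.span Γ(X, U) (Set.range g') from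
    Module.finite_def.2 (Submodule.fg_def.2
      ⟨Set.range g', Set.finite_range g', top_unique fun x _ => hsp x⟩)
  intro x
  have hx : x ∈ Submodule.span (FBlowLib.Sec 𝔛 h (tr₀ p U)) (Set.range g) := hg.ge Submodule.mem_top
  refine Submodule.span_induction (p := fun (y : DerCompLib.Sec M (tr₀ p U)) _ =>
      (show Γ(N, U) from y) ∈ Submodule.span Γ(X, U) (Set.range g'))
    ?_ (zero_mem _) (fun _ _ _ _ ha hb => add_mem ha hb) (fun c y _ hy => ?_) hx
  · rintro _ ⟨l, rfl⟩
    exact Submodule.subset_span ⟨l, rfl⟩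
  obtain ⟨k, hk⟩ := exists_killedBy_compact h hM.1 hA.isCompact y
  obtain ⟨r, hr⟩ := exists_approx p hp h hci hX hU k c
  have h1 := hk (𝟙 _) _ ((FTors.openIdealFam 𝔛 h).map_mem' k (𝟙 _) _ ((mem_ideal hA hX).2 hr))
  have h2 : (c - sharp p hp h U r) • y = 0 := by
    rw [FTors.res_id] at h1
    refine Eq.trans (congrArg (· • y) ?_) h1
    exact (ConcreteCategory.congr_hom ((𝔛.Osh h).obj.map_id (op (tr₀ p U))) (c - sharp p hp h U r)).symm
  rw [show c • y = sharp p hp h U r • y from sub_eq_zero.1 ((sub_smul c (sharp p hp h U r) y).symm.trans h2)]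
  exact Submodule.smul_mem _ r hy

end Groth.Agent.RGamT
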