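import Groth.Agent.RGamT.Sums
import Groth.Agent.FModLib.ComplFlat
import Groth.Agent.FModLib.ComplCoh
import Groth.Agent.Coherent.ClosedEquiv
import Groth.Prelude.Def_FTors3

/-!
# Torsion modules on a completion are torsion modules on the scheme
-/

set_option autoImplicit false
set_option backward.isDefEq.respectTransparency false
set_option linter.style.haveILetI false
set_option linter.unusedSectionVars false
set_option maxHeartbeats 1000000

universe u

open CategoryTheory CategoryTheory.Limits AlgebraicGeometry Opposite TopologicalSpace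
open Groth.Agent.DerCompLib Groth.Agent.FModLib
open Groth.Agent.FBlowLib (proj)

noncomputable section

namespace Groth.Agent.RGamT

variable {X : Scheme.{u}} [IsLocallyNoetherian X] {𝔛 : FSch.Sys.{u}} (p : ∀ n, 𝔛.X n ⟶ X)
  (hp : ∀ n, 𝔛.ι n ≫ p (n + 1) = p n) (h : 𝔛.IsFormal) (hci : ∀ n, IsClosedImmersion (p n))
  (𝓘 : X.IdealSheafData) (hker : ∀ n, (p n).ker = 𝓘 ^ (n + 1)) (hX : 𝔛.IsLocNoethFormal)

/-- The morphism of ringed spaces to the scheme. -/
abbrev μ : ModSite.RMor (𝔛.Osh h) X.sheaf := FSch.toSchemeMor 𝔛 h p hp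

/-- The direct image. -/
abbrev pushμ : FSch.ModF 𝔛 h ⥤ ModSite.Mod X.sheaf := (μ p hp h).push

/-- Sections of the direct image. -/
abbrev psec {M : FSch.ModF 𝔛 h} {U : X.Opens} (x : DerCompLib.Sec M (tr₀ p U)) :
    DerCompLib.Sec (O := X.sheaf) ((pushμ p hp h).obj M) U := x

theorem psmul {M : FSch.ModF 𝔛 h} {U : X.Opens} (a : Γ(X, U)) (x : DerCompLib.Sec M (tr₀ p U)) :
    (show X.sheaf.obj.obj (op U) from a) • psec p hp h x = sharp p hp h U a • x := rfl

theorem psec_res {M : FSch.ModF 𝔛 h} {U V : X.Opens} (i : V ≤ U) (x : DerCompLib.Sec M (tr₀ p U)) :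
    mRes (O := X.sheaf) ((pushμ p hp h).obj M) i (psec p hp h x) =
      mRes M ((p 0).preimage_mono i) x := rfl

theorem sharp_res {U V : X.Opens} (i : V ≤ U) (a : Γ(X, U)) :
    oRes (𝔛.Osh h) ((p 0).preimage_mono i) (sharp p hp h U a) = sharp p hp h V (oRes X.sheaf i a) :=
  (ConcreteCategory.congr_hom ((FSch.schSharp 𝔛 h p hp).hom.naturality (homOfLE i).op) a).symm

include hci in
/-- Sections are determined on traces of affine opens. -/
theorem sec_ext_tr {M : FSch.ModF 𝔛 h} {U : X.Opens} (x y : DerCompLib.Sec M (tr₀ p U))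
    (hxy : ∀ (W : X.Opens) (i : W ≤ U), IsAffineOpen W →
      mRes M ((p 0).preimage_mono i) x = mRes M ((p 0).preimage_mono i) y) : x = y := by
  let R : Sieve (tr₀ p U) :=
    { arrows := fun V l => secRes M l x = secRes M l y
      downward_closed := fun {V V'} l hl o => by rw [← FModLib.secRes_comp, hl, FModLib.secRes_comp] }
  refine DerCompLib.sec_ext M R (fun z hz => ?_) x y fun V l hl => hl
  obtain ⟨W, hW, hzW, hWU⟩ := exists_isAffineOpen_mem_and_subset (show p 0 z ∈ U from hz)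
  exact ⟨tr₀ p W, homOfLE ((p 0).preimage_mono hWU), hxy W hWU hW, hzW⟩

include hci hker in
theorem sharp_mem_jdl {W : X.Opens} (hW : IsAffineOpen W) {n : ℕ} {a : Γ(X, W)}
    (ha : a ∈ 𝓘.ideal ⟨W, hW⟩ ^ (n + 1)) (hX : 𝔛.IsLocNoethFormal) :
    sharp p hp h W a ∈ jdl h (tr₀ p W) ^ (n + 1) := by
  rw [← ((sec_props h hX (isAffineOpen_tr₀ p hci hW)).2 n).2, RingHom.mem_ker, proj_sharp]
  rw [← ker_appLE_tr₀ p hp h hci 𝓘 hker n hW] at ha
  exact ha

include hci hX in
theorem exists_approx {W : X.Opens} (hW : IsAffineOpen W) (n : ℕ) (c : FBlowLib.Sec 𝔛 h (tr₀ p W)) :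
    ∃ a : Γ(X, W), c - sharp p hp h W a ∈ jdl h (tr₀ p W) ^ (n + 1) := by
  obtain ⟨a, ha⟩ := appLE_surjective_tr₀ p hp h hci n hW (proj 𝔛 h n (tr₀ p W) c)
  refine ⟨a, ?_⟩
  rw [← ((sec_props h hX (isAffineOpen_tr₀ p hci hW)).2 n).2, RingHom.mem_ker, map_sub, proj_sharp]
  exact sub_eq_zero.2 ha.symm

include hci hker hX in
/-- The ideal of definition over a trace is generated by the ideal. -/
theorem jdl_tr {W : X.Opens} (hW : IsAffineOpen W) :
    (𝓘.ideal ⟨W, hW⟩).map (sharp p hp h W) = jdl h (tr₀ p W) := by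
  have hA := isAffineOpen_tr₀ p hci hW
  refine le_antisymm (Ideal.map_le_iff_le_comap.2 fun a ha => ?_) ?_
  · simpa using sharp_mem_jdl p hp h hci 𝓘 hker hW (n := 0) (by simpa using ha) hX
  haveI := isNoetherianRing_sec h hX hA
  refine Submodule.le_of_le_smul_of_le_jacobson_bot (IsNoetherian.noetherian _) (jdl_le_jacobson h hX hA) fun s hs => ?_
  obtain ⟨a, ha⟩ := exists_approx p hp h hci hX hW 1 s
  have ha' : a ∈ 𝓘.ideal ⟨W, hW⟩ := by
    have h1 : sharp p hp h W a ∈ jdl h (tr₀ p W) ^ (0 + 1) := by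
      rw [zero_add, pow_one]
      have := sub_mem hs (Ideal.pow_le_self (by norm_num) ha)
      simpa using this
    rw [← ((sec_props h hX hA).2 0).2, RingHom.mem_ker, proj_sharp] at h1
    have h2 : a ∈ 𝓘.ideal ⟨W, hW⟩ ^ (0 + 1) := ker_appLE_tr₀ p hp h hci 𝓘 hker 0 hW ▸ (RingHom.mem_ker.2 h1)
    simpa using h2
  refine Submodule.mem_sup.2 ⟨_, Ideal.mem_map_of_mem _ ha', s - sharp p hp h W a, ?_, add_sub_cancel _ _⟩
  rw [smul_eq_mul, ← pow_two]
  exact ha

theorem mem_powIdeal {n : ℕ} {U : X.Opens} {a : Γ(X, U)} (ha : a ∈ (FTors.powIdealFam X 𝓘).ideal n U) {W : X.Opens}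
    (hW : IsAffineOpen W) (hWU : W ≤ U) : oRes X.sheaf hWU a ∈ 𝓘.ideal ⟨W, hW⟩ ^ n :=
  (FTors.mem_powIdealFam_iff X 𝓘 n U a).1 ha ⟨W, hW⟩ hWU

theorem mem_powIdeal' {n : ℕ} {W : X.Opens} (hW : IsAffineOpen W) {a : Γ(X, W)} (ha : a ∈ 𝓘.ideal ⟨W, hW⟩ ^ n) :
    a ∈ (FTors.powIdealFam X 𝓘).ideal n W := by
  refine (FTors.mem_powIdealFam_iff X 𝓘 n W a).2 fun W' hW' => ?_
  have h2 := Ideal.mem_map_of_mem (X.presheaf.map (homOfLE hW').op).hom ha
  rw [Ideal.map_pow] at h2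
  exact Ideal.pow_right_mono (Scheme.IdealSheafData.map_ideal 𝓘 (U := W') (V := ⟨W, hW⟩) hW').le _ h2

include hci hker hX in
/-- Direct images of torsion modules are torsion. -/
theorem isTors_push {M : FSch.ModF 𝔛 h} (hM : FTors.IsTorsF 𝔛 h M) :
    FTors.IsTorsZp X 𝓘 ((pushμ p hp h).obj M) := by
  intro U s y hy
  by_cases hyZ : y ∈ Set.range (p 0)
  swap
  · haveI := hci 0
    let V : X.Opens := U ⊓ ⟨(Set.range (p 0))ᶜ, (p 0).isClosedEmbedding.isClosed_range.isOpen_compl⟩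
    refine ⟨V, homOfLE inf_le_left, ⟨0, fun W g b _ => ?_⟩, ⟨hy, hyZ⟩⟩
    refine sec_ext_tr p h hci (M := M) (U := W) _ _ fun W' i _ => ?_
    refine DerCompLib.sec_ext M ⊥ (fun z hz => absurd (show z ∈ tr₀ p V from ((p 0).preimage_mono (i.trans g.le)) hz).2
      (fun hn => hn ⟨z, rfl⟩)) _ _ fun W'' l hl => False.elim hl
  obtain ⟨z, rfl⟩ := hyZ
  obtain ⟨V, k, ⟨n, hn⟩, hzV⟩ := hM (tr₀ p U) s z hy
  obtain ⟨_, ⟨W₀, hW₀, rfl⟩, hzW₀, hle⟩ := basis_tr₀ p hci V z hzV
  obtain ⟨W, hW, hzW, hWle⟩ := exists_isAffineOpen_mem_and_subset (show p 0 z ∈ W₀ ⊓ U from ⟨hzW₀, hy⟩)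
  refine ⟨W, homOfLE (hWle.trans inf_le_right), ⟨n + 1, fun W' g b hb => ?_⟩, hzW⟩
  refine sec_ext_tr p h hci (M := M) (U := W') _ _ fun W'' i hW'' => ?_
  have hsh : sharp p hp h W'' (oRes X.sheaf i b) ∈ (FTors.openIdealFam 𝔛 h).ideal n (tr₀ p W'') :=
    (mem_ideal (isAffineOpen_tr₀ p hci hW'') hX).2
      (sharp_mem_jdl p hp h hci 𝓘 hker hW'' (mem_powIdeal 𝓘 hb hW'' i) hX)
  rw [map_zero]
  have h1 := hn (homOfLE (((p 0).preimage_mono ((i.trans g.le).trans (hWle.trans inf_le_left))).trans hle)) _ hsh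
  show mRes M _ (sharp p hp h W' b • mRes M ((p 0).preimage_mono g.le)
    (mRes M ((p 0).preimage_mono (hWle.trans inf_le_right)) s)) = 0
  rw [mRes_smul, sharp_res, mRes_mRes, mRes_mRes]
  refine Eq.trans ?_ h1
  refine congrArg (_ • ·) ?_
  exact ((FModLib.secRes_comp M k (homOfLE (((p 0).preimage_mono ((i.trans g.le).trans (hWle.trans inf_le_left))).trans hle)) s).trans
    (congrArg (fun l => secRes M l s) (Subsingleton.elim _ _))).symm

include hci in
/-- The largest open with given trace. -/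
theorem exists_ext_open : ∃ O : (𝔛.X 0).Opens → X.Opens, (∀ A, tr₀ p (O A) = A) ∧ Monotone O := by
  haveI := hci 0
  refine ⟨fun A => ⟨(p 0 '' (A : Set (𝔛.X 0))ᶜ)ᶜ,
    ((p 0).isClosedEmbedding.isClosedMap _ A.2.isClosed_compl).isOpen_compl⟩, fun A => ?_, fun A B hAB x hx => ?_⟩
  · ext z
    show z ∈ (p 0) ⁻¹' ((p 0 '' (A : Set (𝔛.X 0))ᶜ)ᶜ) ↔ z ∈ A
    simp only [Set.mem_preimage, Set.mem_compl_iff, Set.mem_image]
    constructor
    · intro hz
      by_contra hzA
      exact hz ⟨z, hzA, rfl⟩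
    · rintro hzA ⟨z', hz', e⟩
      exact hz' ((p 0).isClosedEmbedding.injective e ▸ hzA)
  · rintro ⟨z, hz, rfl⟩
    exact hx ⟨z, fun hzA => hz (hAB hzA), rfl⟩

include hci hker hX in
/-- The direct image is fully faithful on torsion sources. -/
theorem bijective_push_map {M : FSch.ModF 𝔛 h} (hM : FTors.IsTorsF 𝔛 h M) (N : FSch.ModF 𝔛 h) :
    Function.Bijective ((pushμ p hp h).map : (M ⟶ N) → _) := by
  obtain ⟨O, hO, hmono⟩ := exists_ext_open p hci
  refine ⟨fun f g hfg => ?_, fun α => ?_⟩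
  · refine sub_eq_zero.1 (QCT3.hom_eq_zero_of_sec _ fun U x z hz => ⟨U, le_rfl, hz, ?_⟩)
    have key : ∀ x' : DerCompLib.Sec M (tr₀ p (O U)), secMap f (tr₀ p (O U)) x' = secMap g (tr₀ p (O U)) x' :=
      fun x' => (congrArg (fun η => secMap (O := X.sheaf) η (O U) (psec p hp h x')) hfg :)
    have key' : ∀ V, tr₀ p (O U) = V → ∀ x' : DerCompLib.Sec M V, secMap f V x' = secMap g V x' := by
      rintro _ rfl x'
      exact key x'
    exact sub_eq_zero.2 (key' U (hO U) _)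
  -- surjectivity
  let a : ∀ U : X.Opens, DerCompLib.Sec M (tr₀ p U) → DerCompLib.Sec N (tr₀ p U) := fun U x =>
    secMap (O := X.sheaf) α U (psec p hp h x)
  have hadd : ∀ U x y, a U (x + y) = a U x + a U y := fun U x y => (secMap (O := X.sheaf) α U).map_add x y
  have hnat : ∀ {U V : X.Opens} (i : V ≤ U) (x : DerCompLib.Sec M (tr₀ p U)),
      mRes N ((p 0).preimage_mono i) (a U x) = a V (mRes M ((p 0).preimage_mono i) x) := fun i x =>
    (secMap_mRes (O := X.sheaf) α i (psec p hp h x)).symm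
  have hlin : ∀ (U : X.Opens) (r : Γ(X, U)) (x : DerCompLib.Sec M (tr₀ p U)),
      a U (sharp p hp h U r • x) = sharp p hp h U r • a U x := fun U r x =>
    (secMap (O := X.sheaf) α U).map_smul (show X.sheaf.obj.obj (op U) from r) (psec p hp h x)
  have hsmul : ∀ (U : X.Opens) (c : FBlowLib.Sec 𝔛 h (tr₀ p U)) (x : DerCompLib.Sec M (tr₀ p U)),
      a U (c • x) = c • a U x := by
    intro U c x
    let R : Sieve (tr₀ p U) :=
      { arrows := fun V l => secRes N l (a U (c • x)) = secRes N l (c • a U x)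
        downward_closed := fun {V V'} l hl o => by rw [← FModLib.secRes_comp, hl, FModLib.secRes_comp] }
    refine DerCompLib.sec_ext N R (fun z hz => ?_) _ _ fun V l hl => hl
    obtain ⟨V, k, ⟨n, hn⟩, hzV⟩ := hM (tr₀ p U) x z hz
    obtain ⟨_, ⟨W₀, hW₀, rfl⟩, hzW₀, hle⟩ := basis_tr₀ p hci V z hzV
    obtain ⟨W, hW, hzW, hWle⟩ := exists_isAffineOpen_mem_and_subset (show p 0 z ∈ W₀ ⊓ U from ⟨hzW₀, hz⟩)
    let i : W ≤ U := hWle.trans inf_le_right
    let j : tr₀ p W ≤ V := ((p 0).preimage_mono (hWle.trans inf_le_left)).trans hle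
    refine ⟨tr₀ p W, homOfLE ((p 0).preimage_mono i), ?_, hzW⟩
    show mRes N _ (a U (c • x)) = mRes N _ (c • a U x)
    rw [hnat i, mRes_smul, mRes_smul, hnat i]
    set c' := oRes (𝔛.Osh h) ((p 0).preimage_mono i) c
    set x' := mRes M ((p 0).preimage_mono i) x
    have hkill : ∀ d ∈ jdl h (tr₀ p W) ^ (n + 1), d • x' = 0 := fun d hd => by
      refine Eq.trans (congrArg (d • ·) ?_) (hn (homOfLE j) d ((mem_ideal (isAffineOpen_tr₀ p hci hW) hX).2 hd))
      exact ((FModLib.secRes_comp M k (homOfLE j) x).trans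
        (congrArg (fun l => secRes M l x) (Subsingleton.elim _ _))).symm
    obtain ⟨r, hr⟩ := exists_approx p hp h hci hX hW n c'
    have hkill' : (c' - sharp p hp h W r) • a W x' = 0 := by
      have hmem : c' - sharp p hp h W r ∈ ((𝓘.ideal ⟨W, hW⟩) ^ (n + 1)).map (sharp p hp h W) := by
        rw [Ideal.map_pow, jdl_tr p hp h hci 𝓘 hker hX hW]
        exact hr
      refine Submodule.span_induction (p := fun d _ => d • a W x' = 0) ?_ (zero_smul _ _)
        (fun d d' _ _ hd hd' => by rw [add_smul, hd, hd', add_zero])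
        (fun e d _ hd => by rw [smul_eq_mul, mul_smul, hd, smul_zero]) hmem
      rintro _ ⟨b, hb, rfl⟩
      rw [← hlin, hkill _ (sharp_mem_jdl p hp h hci 𝓘 hker hW hb hX)]
      exact (secMap (O := X.sheaf) α W).map_zero
    rw [sub_smul, sub_eq_zero] at hkill'
    have h2 : c' • x' = sharp p hp h W r • x' := sub_eq_zero.1 ((sub_smul _ _ _).symm.trans (hkill _ hr))
    rw [h2, hlin, hkill']
  obtain ⟨β, hβ⟩ := exists_hom_of_basis (P := fun _ => True) (fun U z hz => ⟨U, trivial, hz, le_rfl⟩) (M := M) (N := N)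
    (fun A _ =>
      { toFun := fun x => mRes N (hO A).ge (a (O A) (mRes M (hO A).le x))
        map_add' := fun x y => by rw [map_add, hadd, map_add]
        map_smul' := fun c x => by
          rw [mRes_smul, hsmul, mRes_smul, oRes_oRes]
          exact congrArg (· • _) (oRes_self c) })
    fun A B j _ _ x => by
      show mRes N j (mRes N _ _) = mRes N _ (a (O B) (mRes M _ (mRes M j x)))
      rw [mRes_mRes, mRes_mRes, show mRes M ((hO B).le.trans j) x =
        mRes M ((p 0).preimage_mono (hmono j)) (mRes M (hO A).le x) from (mRes_mRes _ _ _).symm, ← hnat (hmono j),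
        mRes_mRes]
  refine ⟨β, sub_eq_zero.1 (QCT3.hom_eq_zero_of_sec _ fun U x y hy => ⟨U, le_rfl, hy, sub_eq_zero.2 ?_⟩)⟩
  have hid : ∀ (Y : ModSite.Mod X.sheaf) (x : DerCompLib.Sec Y U), mRes Y le_rfl x = x := fun Y x =>
    ConcreteCategory.congr_hom (Y.val.presheaf.map_id (op U)) x
  rw [hid]
  show secMap β (tr₀ p U) x = a U x
  rw [hβ _ trivial]
  show mRes N _ (a (O (tr₀ p U)) (mRes M _ x)) = a U x
  have hU : U ≤ O (tr₀ p U) ∨ True := Or.inr trivial
  have e1 := hnat (inf_le_left : O (tr₀ p U) ⊓ U ≤ O (tr₀ p U)) (mRes M (hO (tr₀ p U)).le x)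
  have e2 := hnat (inf_le_right : O (tr₀ p U) ⊓ U ≤ U) x
  have htr : tr₀ p U ≤ tr₀ p (O (tr₀ p U) ⊓ U) := le_inf (hO (tr₀ p U)).ge le_rfl
  rw [mRes_mRes] at e1
  have e3 := congrArg (mRes N htr) (e1.trans e2.symm)
  rw [mRes_mRes, mRes_mRes] at e3
  refine e3.trans ?_
  exact ConcreteCategory.congr_hom (N.val.presheaf.map_id (op (tr₀ p U))) (a U x)

include hci hker hX in
theorem isIso_counit_of_tors {M : FSch.ModF 𝔛 h} (hM : FTors.IsTorsF 𝔛 h M) :
    IsIso ((μ p hp h).adj.counit.app M) := by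
  have hb : ∀ N, Function.Bijective (fun f : M ⟶ N => (μ p hp h).adj.counit.app M ≫ f) := fun N => by
    have e : (fun f : M ⟶ N => (μ p hp h).adj.counit.app M ≫ f) =
        ((μ p hp h).adj.homEquiv _ N).symm ∘ (pushμ p hp h).map := funext fun f => by
      rw [Function.comp_apply, Adjunction.homEquiv_counit]
      exact ((μ p hp h).adj.counit.naturality f).symm
    rw [e]
    exact ((μ p hp h).adj.homEquiv _ N).symm.bijective.comp (bijective_push_map p hp h hci 𝓘 hker hX hM N)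
  obtain ⟨g, hg⟩ := (hb _).2 (𝟙 _)
  exact ⟨g, hg, (hb _).1 (by
    dsimp only at hg ⊢
    rw [← Category.assoc, hg, Category.id_comp, Category.comp_id])⟩

end Groth.Agent.RGamT
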