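import Groth.Agent.RGamT.CompTors

/-!
# Torsion modules on the scheme come from the completion
-/

set_option autoImplicit false
set_option backward.isDefEq.respectTransparency false
set_option linter.style.haveILetI false
set_option linter.unusedSectionVars false
set_option maxHeartbeats 1000000

universe u

open CategoryTheory CategoryTheory.Limits AlgebraicGeometry Opposite TopologicalSpace
open Groth.Agent.DerCompLib Groth.Agent.FModLib

noncomputable section

namespace Groth.Agent.RGamT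

section Generic

variable {C D : Type*} [Category C] [Category D] {L : C ⥤ D} {R : D ⥤ C} (adj : L ⊣ R)

theorem isIso_unit_of_iso {N : C} {M : D} (e : N ≅ R.obj M) [IsIso (adj.counit.app M)] : IsIso (adj.unit.app N) := by
  haveI : IsIso (adj.unit.app (R.obj M)) :=
    ⟨R.map (adj.counit.app M), adj.right_triangle_components M, by
      rw [← cancel_mono (R.map (adj.counit.app M)), Category.assoc, adj.right_triangle_components, Category.id_comp]
      exact Category.comp_id _⟩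
  exact (NatTrans.isIso_app_iff_of_iso adj.unit e).2 inferInstance

theorem iso_of_unit {N : C} {M : D} (e : N ≅ R.obj M) [IsIso (adj.counit.app M)] : Nonempty (L.obj N ≅ M) :=
  ⟨L.mapIso e ≪≫ asIso (adj.counit.app M)⟩

end Generic

variable {X : Scheme.{u}} [IsLocallyNoetherian X] {𝔛 : FSch.Sys.{u}} (p : ∀ n, 𝔛.X n ⟶ X)
  (hp : ∀ n, 𝔛.ι n ≫ p (n + 1) = p n) (h : 𝔛.IsFormal) (hci : ∀ n, IsClosedImmersion (p n))
  (𝓘 : X.IdealSheafData) (hker : ∀ n, (p n).ker = 𝓘 ^ (n + 1)) (hX : 𝔛.IsLocNoethFormal)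

/-- The constant family at one power. -/
def cFam (n : ℕ) : FTors.IdealFam X.sheaf where
  ideal _ U := (FTors.powIdealFam X 𝓘).ideal (n + 1) U
  antitone' _ _ := le_rfl
  map_mem' _ _ _ g a ha := (FTors.powIdealFam X 𝓘).map_mem' (n + 1) g a ha

/-- The part killed by one power. -/
abbrev piece (n : ℕ) (N : ModSite.Mod X.sheaf) : ModSite.Mod X.sheaf := (FTors.gamma X.sheaf (cFam 𝓘 n)).obj N

/-- Its inclusion. -/
abbrev pieceι (n : ℕ) (N : ModSite.Mod X.sheaf) : piece 𝓘 n N ⟶ N := (FTors.gammaι (cFam 𝓘 n)).app N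

include hker in
theorem killed_piece (n : ℕ) (N : ModSite.Mod X.sheaf) : ClSub.KilledByIdeal (p n).ker (show X.Modules from piece 𝓘 n N) := by
  intro W a ha m
  rw [hker n, Scheme.IdealSheafData.ideal_pow] at ha
  refine Subtype.ext ?_
  show (show X.sheaf.obj.obj (op W.1) from a) • (m.1 : DerCompLib.Sec N W.1) = 0
  let R : Sieve W.1 :=
    { arrows := fun V l => secRes N l ((show X.sheaf.obj.obj (op W.1) from a) • (m.1 : DerCompLib.Sec N W.1)) = 0
      downward_closed := fun {V V'} l hl o => by rw [← FModLib.secRes_comp, hl, map_zero] }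
  refine DerCompLib.sec_ext N R (fun y hy => ?_) _ _ fun V l hl => (show secRes N l _ = 0 from hl).trans (map_zero _).symm
  obtain ⟨V, l, ⟨k, hk⟩, hyV⟩ := m.2 y hy
  refine ⟨V, l, ?_, hyV⟩
  show secRes N l (_ • _) = 0
  rw [secRes_smul']
  have h1 := hk (𝟙 V) _ ((cFam 𝓘 n).map_mem' k l _ (mem_powIdeal' 𝓘 W.2 ha))
  rw [FTors.res_id] at h1
  exact h1

include hci hker hX in
theorem exists_piece_iso (n : ℕ) (N : ModSite.Mod X.sheaf) :
    ∃ M : FSch.ModF 𝔛 h, FTors.IsTorsF 𝔛 h M ∧ Nonempty (piece 𝓘 n N ≅ (pushμ p hp h).obj M) := by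
  haveI := hci n
  haveI := Coherent.isIso_clUnit (p n) (killed_piece p 𝓘 hker n N)
  let G := (Scheme.Modules.pullback (p n)).obj (show X.Modules from piece 𝓘 n N)
  haveI := isIso_schPushCompare_app p hp h n G
  refine ⟨up h n G, QCT3.isTors_of_killed (QCT3.killed_up hX n G), ⟨?_⟩⟩
  exact (asIso (Coherent.clUnit (p n) (show X.Modules from piece 𝓘 n N))) ≪≫ asIso ((FSch.schPushCompare 𝔛 h p hp n).app G)

include hci hker hX in
theorem isIso_unit_piece (n : ℕ) (N : ModSite.Mod X.sheaf) :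
    IsIso ((μ p hp h).adj.unit.app (piece 𝓘 n N)) ∧ FTors.IsTorsF 𝔛 h ((μ p hp h).pull.obj (piece 𝓘 n N)) := by
  obtain ⟨M, hM, ⟨e⟩⟩ := exists_piece_iso p hp h hci 𝓘 hker hX n N
  haveI := isIso_counit_of_tors p hp h hci 𝓘 hker hX hM
  obtain ⟨e'⟩ := iso_of_unit (μ p hp h).adj e
  exact ⟨isIso_unit_of_iso (μ p hp h).adj e, QCT3.isTors_of_mono e'.hom hM⟩

variable {N : ModSite.Mod X.sheaf} (hN : FTors.IsTorsZp X 𝓘 N)

include hN in
theorem exists_piece_sec {U : X.Opens} (x : DerCompLib.Sec N U) {y : X} (hy : y ∈ U) :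
    ∃ (n : ℕ) (W : X.Opens) (i : W ≤ U), y ∈ W ∧ IsAffineOpen W ∧
      ∃ m : DerCompLib.Sec (piece 𝓘 n N) W, secMap (pieceι 𝓘 n N) W m = mRes N i x := by
  obtain ⟨V, k, ⟨n, hn⟩, hyV⟩ := hN U x y hy
  obtain ⟨W, hW, hyW, hWV⟩ := exists_isAffineOpen_mem_and_subset hyV
  refine ⟨n, W, hWV.trans k.le, hyW, hW, ⟨mRes N (hWV.trans k.le) x,
    fun z hz => ⟨W, 𝟙 W, ⟨0, fun W' g b hb => ?_⟩, hz⟩⟩, rfl⟩
  rw [FTors.res_id]
  have h1 := hn (homOfLE (g.le.trans hWV)) b ((FTors.powIdealFam X 𝓘).antitone' n W' hb)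
  refine Eq.trans (congrArg (b • ·) ?_) h1
  exact (FModLib.secRes_comp N (homOfLE (hWV.trans k.le)) g x).trans
    (Eq.trans (congrArg (fun l => secRes N l x) (Subsingleton.elim _ _)) (FModLib.secRes_comp N k (homOfLE (g.le.trans hWV)) x).symm)

include hN in
/-- The pieces are jointly epimorphic. -/
theorem epi_sigma_piece : Epi (Sigma.desc fun n : ULift.{u} ℕ => pieceι 𝓘 n.down N) := by
  refine FModLib.epi_of_locally _ fun V b => ?_
  refine ⟨⟨fun W => {k | ∃ a, secMap (Sigma.desc fun n : ULift.{u} ℕ => pieceι 𝓘 n.down N) W a = secRes N k b},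
    fun {W W'} k ⟨a, ha⟩ j => ⟨secRes _ j a, by rw [secMap_secRes', ha, FModLib.secRes_comp]⟩⟩, fun y hy => ?_,
    fun W k hk => hk⟩
  obtain ⟨n, W, i, hyW, -, m, hm⟩ := exists_piece_sec 𝓘 hN b hy
  refine ⟨W, homOfLE i, ⟨secMap (Sigma.ι (fun n : ULift.{u} ℕ => piece 𝓘 n.down N) ⟨n⟩) W m, ?_⟩, hyW⟩
  rw [← secMap_comp, Sigma.ι_desc]
  exact hm

include hci hker hX hN in
/-- Local form of sections of the inverse image of a torsion module. -/
theorem exists_local_form {A : (𝔛.X 0).Opens} (s : DerCompLib.Sec ((μ p hp h).pull.obj N) A) {z : 𝔛.X 0} (hz : z ∈ A) :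
    ∃ (V : (𝔛.X 0).Opens) (i : V ≤ A), z ∈ V ∧ AFF 𝔛 V ∧ ∃ (S : Finset (ULift.{u} ℕ))
      (t : ∀ n : ULift.{u} ℕ, DerCompLib.Sec ((μ p hp h).pull.obj (piece 𝓘 n.down N)) V),
      mRes _ i s = ∑ n ∈ S, secMap ((μ p hp h).pull.map (pieceι 𝓘 n.down N)) V (t n) := by
  let F := fun n : ULift.{u} ℕ => piece 𝓘 n.down N
  haveI := epi_sigma_piece 𝓘 hN
  haveI : (μ p hp h).pull.IsLeftAdjoint := (μ p hp h).adj.isLeftAdjoint
  let q : (∐ fun n => (μ p hp h).pull.obj (F n)) ⟶ (μ p hp h).pull.obj N :=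
    Sigma.desc fun n => (μ p hp h).pull.map (pieceι 𝓘 n.down N)
  haveI : Epi q := by
    have e : sigmaComparison (μ p hp h).pull F ≫ (μ p hp h).pull.map (Sigma.desc fun n => pieceι 𝓘 n.down N) = q :=
      Sigma.hom_ext _ _ fun n => by
        rw [ι_comp_sigmaComparison_assoc, ← Functor.map_comp, Sigma.ι_desc, Sigma.ι_desc]
    rw [← e]
    infer_instance
  obtain ⟨V₁, i₁, hzV₁, a, ha⟩ := locally_surjective_of_epi q s hz
  obtain ⟨V, hV, hzV, hVV₁⟩ := basis_AFF (𝔛 := 𝔛) V₁ z hzV₁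
  obtain ⟨S, hS⟩ := exists_support hX (fun n => (μ p hp h).pull.obj (F n)) hV (mRes _ hVV₁ a)
  refine ⟨V, hVV₁.trans i₁, hzV, hV, S, fun n => secMap (prj _ n) V (mRes _ hVV₁ a), ?_⟩
  rw [← mRes_mRes i₁ hVV₁, ← ha, ← secMap_mRes, hS, map_sum]
  refine Finset.sum_congr rfl fun n _ => ?_
  rw [← hS, ← secMap_comp (Sigma.ι _ n), Sigma.ι_desc]

include hci hker hX hN in
/-- Inverse images of torsion modules are torsion. -/
theorem isTors_pull : FTors.IsTorsF 𝔛 h ((μ p hp h).pull.obj N) := by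
  intro A s z hz
  obtain ⟨V, i, hzV, hV, S, t, ht⟩ := exists_local_form p hp h hci 𝓘 hker hX hN s hz
  have h1 : FTors.IsTorsSect (FTors.openIdealFam 𝔛 h) ((μ p hp h).pull.obj N) (mRes _ i s) := by
    rw [ht]
    refine Finset.sum_induction _ (fun w => FTors.IsTorsSect (FTors.openIdealFam 𝔛 h) _ w) (fun _ _ ha hb => ha.add hb)
      (FTors.IsTorsSect.zero _ _ _) fun n _ => ?_
    exact FTors.IsTorsSect.hom _ ((isIso_unit_piece p hp h hci 𝓘 hker hX n.down N).2 V (t n))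
  obtain ⟨W, k, ⟨m, hm⟩, hzW⟩ := h1 z hzV
  refine ⟨W, k ≫ homOfLE i, ⟨m, fun W' g b hb => ?_⟩, hzW⟩
  rw [FTors.res_comp]
  exact hm g b hb

include hci hker hX hN in
/-- The unit on torsion modules is an isomorphism. -/
theorem isIso_unit_of_tors : IsIso ((μ p hp h).adj.unit.app N) := by
  haveI : PreservesFiniteLimits (μ p hp h).pull := isFlat_toSchemeMor p hp h hci 𝓘 hker
  haveI : (μ p hp h).push.IsRightAdjoint := (μ p hp h).adj.isRightAdjoint
  let η := (μ p hp h).adj.unit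
  have hnat : ∀ n : ℕ, pieceι 𝓘 n N ≫ η.app N =
      η.app (piece 𝓘 n N) ≫ (μ p hp h).push.map ((μ p hp h).pull.map (pieceι 𝓘 n N)) :=
    fun n => η.naturality (pieceι 𝓘 n N)
  haveI : Mono (η.app N) := by
    refine Preadditive.mono_of_cancel_zero _ fun {Q} q hq => QCT3.hom_eq_zero_of_sec q fun U x y hy => ?_
    obtain ⟨n, W, i, hyW, -, m, hm⟩ := exists_piece_sec 𝓘 hN (secMap q U x) hy
    refine ⟨W, i, hyW, ?_⟩
    refine (secMap_mRes q i x).trans (hm.symm.trans ?_)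
    haveI := (isIso_unit_piece p hp h hci 𝓘 hker hX n N).1
    haveI : Mono (pieceι 𝓘 n N) := mono_of_injective_sec _ fun _ _ _ e => Subtype.ext e
    haveI : Mono (η.app (piece 𝓘 n N) ≫ (μ p hp h).push.map ((μ p hp h).pull.map (pieceι 𝓘 n N))) := mono_comp _ _
    have h0 : secMap (η.app (piece 𝓘 n N) ≫ (μ p hp h).push.map ((μ p hp h).pull.map (pieceι 𝓘 n N))) W m = 0 := by
      refine ((congrArg (fun φ => secMap φ W m) (hnat n)).symm.trans ((congrArg (secMap (η.app N) W) hm).trans ?_) :)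
      refine (secMap_mRes (η.app N) i (secMap q U x)).trans ?_
      exact (congrArg (mRes _ i) (congrArg (fun φ => secMap φ U x) hq :)).trans (map_zero _)
    have hm0 : m = 0 := injective_of_mono _ W (h0.trans (map_zero _).symm)
    rw [hm0, map_zero]
  haveI : Epi (η.app N) := by
    haveI := hci 0
    refine FModLib.epi_of_locally _ fun V b => ?_
    refine ⟨⟨fun W => {k | ∃ a, secMap (η.app N) W a = secRes _ k b},
      fun {W W'} k ⟨a, ha⟩ j => ⟨secRes _ j a, by rw [secMap_secRes', ha, FModLib.secRes_comp]⟩⟩, fun y hy => ?_,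
      fun W k hk => hk⟩
    by_cases hyZ : y ∈ Set.range (p 0)
    swap
    · refine ⟨V ⊓ ⟨(Set.range (p 0))ᶜ, (p 0).isClosedEmbedding.isClosed_range.isOpen_compl⟩, homOfLE inf_le_left,
        ⟨0, ?_⟩, ⟨hy, hyZ⟩⟩
      rw [map_zero]
      refine DerCompLib.sec_ext ((μ p hp h).pull.obj N) ⊥ (fun z hz => absurd ⟨z, rfl⟩
        (show z ∈ tr₀ p (V ⊓ ⟨(Set.range (p 0))ᶜ, (p 0).isClosedEmbedding.isClosed_range.isOpen_compl⟩) from hz).2)
        _ _ fun W'' l hl => False.elim hl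
    obtain ⟨z, rfl⟩ := hyZ
    obtain ⟨A, iA, hzA, hA, S, t, ht⟩ := exists_local_form p hp h hci 𝓘 hker hX hN
      (show DerCompLib.Sec ((μ p hp h).pull.obj N) (tr₀ p V) from b) hy
    obtain ⟨_, ⟨W₀, hW₀, rfl⟩, hzW₀, hle⟩ := basis_tr₀ p hci A z hzA
    obtain ⟨W, hW, hzW, hWle⟩ := exists_isAffineOpen_mem_and_subset (show p 0 z ∈ W₀ ⊓ V from ⟨hzW₀, hy⟩)
    let j : tr₀ p W ≤ A := ((p 0).preimage_mono (hWle.trans inf_le_left)).trans hle
    haveI := fun n : ℕ => (isIso_unit_piece p hp h hci 𝓘 hker hX n N).1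
    have hsurj : ∀ (n : ℕ) (w : DerCompLib.Sec ((μ p hp h).push.obj ((μ p hp h).pull.obj (piece 𝓘 n N))) W),
        ∃ v, secMap (η.app (piece 𝓘 n N)) W v = w := fun n w =>
      ⟨secMap (inv (η.app (piece 𝓘 n N))) W w, by rw [← secMap_comp, IsIso.inv_hom_id]; rfl⟩
    choose v hv using fun n : ULift.{u} ℕ => hsurj n.down (mRes _ j (t n))
    refine ⟨W, homOfLE (hWle.trans inf_le_right), ⟨∑ n ∈ S, secMap (pieceι 𝓘 n.down N) W (v n), ?_⟩, hzW⟩
    rw [map_sum]
    refine (Finset.sum_congr rfl fun n _ => ?_).trans (b := ∑ n ∈ S,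
      mRes ((μ p hp h).pull.obj N) j (secMap ((μ p hp h).pull.map (pieceι 𝓘 n.down N)) A (t n))) ?_
    · refine ((congrArg (fun φ => secMap φ W (v n)) (hnat n.down)).trans
        ((congrArg (secMap ((μ p hp h).push.map ((μ p hp h).pull.map (pieceι 𝓘 n.down N))) W) (hv n)).trans ?_) :)
      exact secMap_mRes ((μ p hp h).pull.map (pieceι 𝓘 n.down N)) j (t n)
    refine (map_sum (mRes ((μ p hp h).pull.obj N) j) _ _).symm.trans ((congrArg _ ht.symm).trans ?_)
    exact mRes_mRes iA j (show DerCompLib.Sec ((μ p hp h).pull.obj N) (tr₀ p V) from b)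
  exact isIso_of_mono_of_epi _

end Groth.Agent.RGamT
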