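import Groth.Agent.RGamT.Exact
import Groth.Agent.QCT3.Push
import Groth.Agent.DCat.KInjRes
import Groth.Agent.DCat.ModulesGrothendieck

/-!
# `RΓ'` is the coreflection onto complexes with torsion cohomology
-/

set_option autoImplicit false
set_option backward.isDefEq.respectTransparency false
set_option backward.defeqAttrib.useBackward true
set_option linter.style.haveILetI false
set_option linter.unusedSectionVars false
set_option maxHeartbeats 2000000

universe u

open CategoryTheory CategoryTheory.Limits AlgebraicGeometry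
open Groth.Agent.DCat

attribute [local instance] HasDerivedCategory.standard

noncomputable section

namespace Groth.Agent.RGamT

section Generic

variable {C : Type u} [SmallCategory C] {J₀ : GrothendieckTopology C} {O : Sheaf J₀ CommRingCat.{u}}
  (I : FTors.IdealFam O)

/-- The torsion subcomplex. -/
abbrev gC (K : CochainComplex (ModSite.Mod O) ℤ) : CochainComplex (ModSite.Mod O) ℤ :=
  ((FTors.gamma O I).mapHomologicalComplex (ComplexShape.up ℤ)).obj K

/-- Its inclusion. -/
abbrev gCι (K : CochainComplex (ModSite.Mod O) ℤ) : gC I K ⟶ K :=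
  (NatTrans.mapHomologicalComplex (FTors.gammaι I) (ComplexShape.up ℤ)).app K ≫
    (Functor.mapHomologicalComplexIdIso (ModSite.Mod O) (ComplexShape.up ℤ)).hom.app K

theorem gCι_f (K : CochainComplex (ModSite.Mod O) ℤ) (i : ℤ) : (gCι I K).f i = (FTors.gammaι I).app (K.X i) :=
  Category.comp_id _

variable [FTors.HasRgamma I]

/-- The torsion subcomplex as a functor on morphisms. -/
abbrev gMap {P Q : CochainComplex (ModSite.Mod O) ℤ} (σ : P ⟶ Q) : gC I P ⟶ gC I Q :=
  ((FTors.gamma O I).mapHomologicalComplex (ComplexShape.up ℤ)).map σ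



/-- The comparison `Γ' P → RΓ' P`. -/
def theta (P : CochainComplex (ModSite.Mod O) ℤ) :
    DerivedCategory.Q.obj (gC I P) ⟶ (FTors.Rgamma I).obj (DerivedCategory.Q.obj P) :=
  (DerivedCategory.quotientCompQhIso (ModSite.Mod O)).inv.app (gC I P) ≫
    ((FTors.gammaKh I).totalRightDerivedUnit DerivedCategory.Qh
      (HomotopyCategory.quasiIso (ModSite.Mod O) (ComplexShape.up ℤ))).app
        ((HomotopyCategory.quotient (ModSite.Mod O) (ComplexShape.up ℤ)).obj P) ≫
    (FTors.Rgamma I).map ((DerivedCategory.quotientCompQhIso (ModSite.Mod O)).hom.app P)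

theorem theta_naturality {P Q : CochainComplex (ModSite.Mod O) ℤ} (σ : P ⟶ Q) :
    DerivedCategory.Q.map (gMap I σ) ≫ theta I Q = theta I P ≫ (FTors.Rgamma I).map (DerivedCategory.Q.map σ) := by
  have h := ((FTors.gammaKh I).totalRightDerivedUnit DerivedCategory.Qh
      (HomotopyCategory.quasiIso (ModSite.Mod O) (ComplexShape.up ℤ))).naturality
        ((HomotopyCategory.quotient (ModSite.Mod O) (ComplexShape.up ℤ)).map σ)
  simp only [theta, Category.assoc]
  rw [reassoc_of% (DerivedCategory.quotientCompQhIso_inv_naturality (gMap I σ)), ← Functor.map_comp,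
    ← DerivedCategory.quotientCompQhIso_hom_naturality σ, Functor.map_comp]
  erw [reassoc_of% h]

theorem gammaτ_app (P : CochainComplex (ModSite.Mod O) ℤ) :
    (FTors.gammaτ I).app ((HomotopyCategory.quotient (ModSite.Mod O) (ComplexShape.up ℤ)).obj P) =
      DerivedCategory.Qh.map ((HomotopyCategory.quotient (ModSite.Mod O) (ComplexShape.up ℤ)).map (gCι I P)) := by
  show (FTors.gammaτ0 I).app P = _
  simp only [FTors.gammaτ0, Functor.mapHomotopyCategoryFactors, NatTrans.comp_app, Functor.associator_inv_app,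
    Functor.associator_hom_app, Functor.whiskerRight_app, Functor.leftUnitor_hom_app, Category.id_comp,
    Category.comp_id, Functor.comp_map]
  erw [CategoryTheory.Functor.map_id, Category.id_comp, Category.comp_id]
  erw [← Functor.map_comp, ← Functor.map_comp]

theorem theta_ε (P : CochainComplex (ModSite.Mod O) ℤ) :
    theta I P ≫ (FTors.Rgammaε I).app (DerivedCategory.Q.obj P) = DerivedCategory.Q.map (gCι I P) := by
  have h' := (FTors.Rgamma I).rightDerived_fac_app
    ((FTors.gammaKh I).totalRightDerivedUnit DerivedCategory.Qh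
      (HomotopyCategory.quasiIso (ModSite.Mod O) (ComplexShape.up ℤ)))
    (HomotopyCategory.quasiIso (ModSite.Mod O) (ComplexShape.up ℤ)) (𝟭 (DerivedCategory (ModSite.Mod O)))
    (FTors.gammaτ I ≫ (Functor.rightUnitor _).inv)
    ((HomotopyCategory.quotient (ModSite.Mod O) (ComplexShape.up ℤ)).obj P)
  simp only [theta, Category.assoc]
  erw [(FTors.Rgammaε I).naturality, reassoc_of% h']
  simp only [NatTrans.comp_app, Functor.rightUnitor_inv_app, gammaτ_app I]
  erw [Category.comp_id]
  show (DerivedCategory.quotientCompQhIso (ModSite.Mod O)).inv.app (gC I P) ≫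
      DerivedCategory.Qh.map ((HomotopyCategory.quotient (ModSite.Mod O) (ComplexShape.up ℤ)).map (gCι I P)) ≫
        (DerivedCategory.quotientCompQhIso (ModSite.Mod O)).hom.app P = _
  rw [DerivedCategory.quotientCompQhIso_hom_naturality (gCι I P)]
  exact Iso.inv_hom_id_app_assoc _ _ _

theorem isIso_theta_kInj (J : CochainComplex (ModSite.Mod O) ℤ) (hJ : J.IsKInjective) : IsIso (theta I J) := by
  haveI := isIso_unit_of_kInj (enoughKInj_of_isGrothendieckAbelian (A := ModSite.Mod O))
    (FTors.gammaKh I) J hJ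
  dsimp only [theta]
  infer_instance

omit [FTors.HasRgamma I] in
theorem exists_model (E : DerivedCategory (ModSite.Mod O)) :
    ∃ (J : CochainComplex (ModSite.Mod O) ℤ) (_ : DerivedCategory.Q.obj J ≅ E),
      J.IsKInjective ∧ ∀ n, Injective (J.X n) := by
  obtain ⟨J, σ, h1, h2, -, h4⟩ := exists_kInj_res (DerivedCategory.Q.objPreimage E)
  exact ⟨J, (asIso (DerivedCategory.Q.map σ)).symm ≪≫ DerivedCategory.Q.objObjPreimageIso E, h1, h4⟩

variable [(FTors.IsTors I).IsClosedUnderIsomorphisms]

/-- The input about `Γ_I`. -/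
structure Hyp : Prop where
  homology : ∀ (P : CochainComplex (ModSite.Mod O) ℤ) (i : ℤ), FTors.IsTors I ((gC I P).homology i)
  qis : ∀ J : CochainComplex (ModSite.Mod O) ℤ, (∀ n, Injective (J.X n)) → (∀ i, FTors.IsTors I (J.homology i)) →
    QuasiIso (gCι I J)
  idem : ∀ M : ModSite.Mod O, IsIso ((FTors.gammaι I).app ((FTors.gamma O I).obj M))
  mono : ∀ M : ModSite.Mod O, Mono ((FTors.gammaι I).app M)

variable (hyp : Hyp I)

omit [FTors.HasRgamma I] in
theorem isDTors_Q_iff (P : CochainComplex (ModSite.Mod O) ℤ) :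
    FTors.IsDTors I (DerivedCategory.Q.obj P) ↔ ∀ i, FTors.IsTors I (P.homology i) := by
  exact forall_congr' fun i =>
    (FTors.IsTors I).prop_iff_of_iso ((DerivedCategory.homologyFunctorFactors (ModSite.Mod O) i).app P)

omit [FTors.HasRgamma I] in
theorem isDTors_of_iso {E F : DerivedCategory (ModSite.Mod O)} (e : E ≅ F) (hE : FTors.IsDTors I E) :
    FTors.IsDTors I F := fun i => by
  exact (FTors.IsTors I).prop_of_iso ((DerivedCategory.homologyFunctor (ModSite.Mod O) i).mapIso e) (hE i)

include hyp in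
theorem isDTors_rgammaT (E : DerivedCategory (ModSite.Mod O)) : FTors.IsDTors I ((FTors.Rgamma I).obj E) := by
  obtain ⟨J, e, hJ, -⟩ := exists_model E
  haveI := isIso_theta_kInj I J hJ
  exact isDTors_of_iso I (asIso (theta I J) ≪≫ (FTors.Rgamma I).mapIso e)
    ((isDTors_Q_iff I _).2 (hyp.homology J))

include hyp in
theorem isIso_ε (E : DerivedCategory (ModSite.Mod O)) (hE : FTors.IsDTors I E) :
    IsIso ((FTors.Rgammaε I).app E) := by
  obtain ⟨J, e, hJ, hJi⟩ := exists_model E
  haveI := isIso_theta_kInj I J hJ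
  haveI : QuasiIso (gCι I J) := hyp.qis J hJi ((isDTors_Q_iff I J).1 (isDTors_of_iso I e.symm hE))
  haveI : IsIso (theta I J ≫ (FTors.Rgammaε I).app (DerivedCategory.Q.obj J)) := by
    rw [theta_ε I]; infer_instance
  haveI : IsIso ((FTors.Rgammaε I).app (DerivedCategory.Q.obj J)) := IsIso.of_isIso_comp_left (theta I J) _
  exact (NatTrans.isIso_app_iff_of_iso _ e).1 inferInstance

include hyp in
theorem isIso_map_ε (E : DerivedCategory (ModSite.Mod O)) :
    IsIso ((FTors.Rgamma I).map ((FTors.Rgammaε I).app E)) := by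
  obtain ⟨J, e, hJ, -⟩ := exists_model E
  haveI := isIso_theta_kInj I J hJ
  have htors : ∀ (M : ModSite.Mod O), IsIso ((FTors.gammaι I).app ((FTors.gamma O I).obj M)) := fun M =>
    hyp.idem M
  haveI : ∀ i, IsIso ((gCι I (gC I J)).f i) := fun i => by rw [gCι_f]; exact htors (J.X i)
  haveI := HomologicalComplex.Hom.isIso_of_components (gCι I (gC I J))
  haveI : ∀ i, IsIso ((gMap I (gCι I J)).f i) := fun i => by
    show IsIso ((FTors.gamma O I).map ((gCι I J).f i))
    rw [gCι_f]
    haveI := htors (J.X i)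
    haveI := hyp.mono (J.X i)
    rw [show (FTors.gamma O I).map ((FTors.gammaι I).app (J.X i)) =
        (FTors.gammaι I).app ((FTors.gamma O I).obj (J.X i)) from
      (cancel_mono ((FTors.gammaι I).app (J.X i))).1 ((FTors.gammaι I).naturality _)]
    exact htors (J.X i)
  haveI := HomologicalComplex.Hom.isIso_of_components (gMap I (gCι I J))
  haveI : IsIso (theta I (gC I J)) := by
    haveI := isIso_ε I hyp _ ((isDTors_Q_iff I _).2 (hyp.homology J))
    haveI : IsIso (theta I (gC I J) ≫ (FTors.Rgammaε I).app (DerivedCategory.Q.obj (gC I J))) := by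
      rw [theta_ε I]; infer_instance
    exact IsIso.of_isIso_comp_right (theta I (gC I J)) ((FTors.Rgammaε I).app _)
  haveI : IsIso (theta I (gC I J) ≫ (FTors.Rgamma I).map (DerivedCategory.Q.map (gCι I J))) := by
    rw [← theta_naturality I]; infer_instance
  haveI : IsIso ((FTors.Rgamma I).map (DerivedCategory.Q.map (gCι I J))) :=
    IsIso.of_isIso_comp_left (theta I (gC I J)) _
  haveI : IsIso ((FTors.Rgamma I).map ((FTors.Rgammaε I).app (DerivedCategory.Q.obj J))) := by
    have h' := congrArg (FTors.Rgamma I).map (theta_ε I J)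
    rw [Functor.map_comp] at h'
    haveI : IsIso ((FTors.Rgamma I).map (theta I J) ≫
        (FTors.Rgamma I).map ((FTors.Rgammaε I).app (DerivedCategory.Q.obj J))) := by
      rw [h']; infer_instance
    exact IsIso.of_isIso_comp_left ((FTors.Rgamma I).map (theta I J)) _
  have hn := congrArg (FTors.Rgamma I).map ((FTors.Rgammaε I).naturality e.hom)
  rw [Functor.map_comp, Functor.map_comp] at hn
  haveI : IsIso ((FTors.Rgamma I).map ((FTors.Rgamma I).map e.hom) ≫
      (FTors.Rgamma I).map ((FTors.Rgammaε I).app E)) := by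
    rw [hn]; infer_instance
  exact IsIso.of_isIso_comp_left ((FTors.Rgamma I).map ((FTors.Rgamma I).map e.hom)) _

include hyp in
/-- Universal property of `ε`. -/
theorem bijective_comp_ε {L : DerivedCategory (ModSite.Mod O)} (hL : FTors.IsDTors I L)
    (E : DerivedCategory (ModSite.Mod O)) :
    Function.Bijective (fun ψ : L ⟶ (FTors.Rgamma I).obj E => ψ ≫ (FTors.Rgammaε I).app E) := by
  haveI := isIso_ε I hyp L hL
  haveI := isIso_map_ε I hyp E
  refine ⟨fun ψ ψ' hψ => ?_, fun φ => ⟨inv ((FTors.Rgammaε I).app L) ≫ (FTors.Rgamma I).map φ, ?_⟩⟩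
  · have h1 : (FTors.Rgamma I).map ψ = (FTors.Rgamma I).map ψ' :=
      (cancel_mono ((FTors.Rgamma I).map ((FTors.Rgammaε I).app E))).1
        (((FTors.Rgamma I).map_comp _ _).symm.trans ((congrArg _ hψ).trans ((FTors.Rgamma I).map_comp _ _)))
    exact (cancel_epi ((FTors.Rgammaε I).app L)).1 (((FTors.Rgammaε I).naturality ψ).symm.trans
      ((congrArg (· ≫ _) h1).trans ((FTors.Rgammaε I).naturality _)))
  · show (_ ≫ _) ≫ _ = φ
    rw [Category.assoc, NatTrans.naturality, IsIso.inv_hom_id_assoc]
    rfl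

end Generic

variable {𝔛 : FSch.Sys.{u}} {h : 𝔛.IsFormal} (hX : 𝔛.IsLocNoethFormal)

theorem closed_isTorsF : (FTors.IsTorsF 𝔛 h).IsClosedUnderIsomorphisms :=
  ⟨fun e hM => QCT3.isTors_of_mono e.inv hM⟩

include hX in
theorem isTors_of_epi {M N : FSch.ModF 𝔛 h} (p : M ⟶ N) [Epi p] (hM : FTors.IsTorsF 𝔛 h M) :
    FTors.IsTorsF 𝔛 h N := by
  obtain ⟨Z, hZ⟩ := HasZeroObject.zero (C := FSch.ModF 𝔛 h)
  let S : ShortComplex (FSch.ModF 𝔛 h) := ShortComplex.mk p (0 : N ⟶ Z) comp_zero
  refine S17051.isTors_middle h hX (S := S) ((S.exact_iff_epi rfl).2 inferInstance) hM fun U s => ?_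
  rw [show s = DerCompLib.secMap (0 : Z ⟶ Z) U s from
    (congrArg (fun φ => DerCompLib.secMap φ U s) (hZ.eq_of_src (𝟙 Z) 0) :)]
  exact FTors.IsTorsSect.zero _ _ U

include hX in
theorem hyp_openIdealFam : Hyp (FTors.openIdealFam 𝔛 h) where
  homology P i := isTors_of_epi hX ((gamC P).homologyπ i)
    (QCT3.isTors_of_mono ((gamC P).iCycles i) (QCT3.isTors_gammaT (P.X i)))
  qis J hJ hT := quasiIso_gamCι hX J hJ hT
  idem M := QCT3.isIso_gammaι (QCT3.isTors_gammaT M)
  mono M := mono_gammaTι M

end Groth.Agent.RGamT
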