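import Groth.Agent.RGamT.Steps
import Groth.Agent.QCT3.Colim
import Mathlib.Algebra.Homology.HomologySequence
import Mathlib.Algebra.Homology.QuasiIso

/-!
# Torsion sections of complexes of injective modules with torsion cohomology
-/

set_option autoImplicit false
set_option backward.isDefEq.respectTransparency false
set_option linter.style.haveILetI false
set_option linter.unusedSectionVars false
set_option maxHeartbeats 1000000

universe u

open CategoryTheory CategoryTheory.Limits AlgebraicGeometry Opposite TopologicalSpace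
open Groth.Agent.DerCompLib Groth.Agent.FModLib

noncomputable section

namespace Groth.Agent.RGamT

variable {𝔛 : FSch.Sys.{u}} {h : 𝔛.IsFormal} (hX : 𝔛.IsLocNoethFormal)

section Generic

variable {A : Type*} [Category A] [Abelian A] {K L : CochainComplex A ℤ} (φ : K ⟶ L)

theorem comp_cokernel_f (n : ℤ) : φ.f n ≫ (cokernel.π φ).f n = 0 := by
  rw [← HomologicalComplex.comp_f, cokernel.condition]
  rfl

theorem exact_cokernel_degree (n : ℤ) : (ShortComplex.mk (φ.f n) ((cokernel.π φ).f n) (comp_cokernel_f φ n)).Exact :=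
  (ShortComplex.exact_of_g_is_cokernel (ShortComplex.mk φ (cokernel.π φ) (cokernel.condition _))
    (cokernelIsCokernel _)).map (HomologicalComplex.eval _ _ n)

theorem quasiIso_of_exactAt_cokernel [Mono φ] (h : ∀ i, (cokernel φ).ExactAt i) : QuasiIso φ := by
  let S : ShortComplex (CochainComplex A ℤ) := ShortComplex.mk φ (cokernel.π φ) (cokernel.condition _)
  have hS : S.ShortExact :=
    { exact := ShortComplex.exact_of_g_is_cokernel _ (cokernelIsCokernel _)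
      mono_f := inferInstanceAs (Mono φ), epi_g := inferInstanceAs (Epi (cokernel.π φ)) }
  have hz : ∀ i, IsZero (S.X₃.homology i) := fun i => (h i).isZero_homology
  refine ⟨fun i => ?_⟩
  rw [quasiIsoAt_iff_isIso_homologyMap]
  haveI : Epi (HomologicalComplex.homologyMap S.f i) :=
    (hS.homology_exact₂ i).epi_f ((hz i).eq_of_tgt _ _)
  haveI : Mono (HomologicalComplex.homologyMap S.f i) :=
    (hS.homology_exact₁ (i - 1) i (by simp)).mono_g ((hz (i - 1)).eq_of_src _ _)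
  exact isIso_of_mono_of_epi (HomologicalComplex.homologyMap S.f i)

/-- The cokernel of a map of complexes. -/
def coK : CochainComplex A ℤ := cokernel φ

/-- Its projection. -/
def coπ : L ⟶ coK φ := cokernel.π φ

theorem exact_coπ (n : ℤ) : ∃ w, (ShortComplex.mk (φ.f n) ((coπ φ).f n) w).Exact :=
  ⟨comp_cokernel_f φ n, exact_cokernel_degree φ n⟩

theorem comp_coπ (n : ℤ) : φ.f n ≫ (coπ φ).f n = 0 := comp_cokernel_f φ n

theorem epi_coπ_f (n : ℤ) : Epi ((coπ φ).f n) :=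
  inferInstanceAs (Epi ((HomologicalComplex.eval A (ComplexShape.up ℤ) n).map (cokernel.π φ)))

theorem quasiIso_of_exactAt_coK [Mono φ] (h : ∀ i, (coK φ).ExactAt i) : QuasiIso φ :=
  quasiIso_of_exactAt_cokernel φ h

end Generic

/-- The torsion subcomplex. -/
abbrev gamC (K : CochainComplex (FSch.ModF 𝔛 h) ℤ) : CochainComplex (FSch.ModF 𝔛 h) ℤ :=
  ((FTors.gammaT 𝔛 h).mapHomologicalComplex (ComplexShape.up ℤ)).obj K

/-- Its inclusion. -/
abbrev gamCι (K : CochainComplex (FSch.ModF 𝔛 h) ℤ) : gamC K ⟶ K :=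
  (NatTrans.mapHomologicalComplex (FTors.gammaTι 𝔛 h) (ComplexShape.up ℤ)).app K ≫
    (Functor.mapHomologicalComplexIdIso (FSch.ModF 𝔛 h) (ComplexShape.up ℤ)).hom.app K

theorem gamCι_f (K : CochainComplex (FSch.ModF 𝔛 h) ℤ) (i : ℤ) :
    (gamCι K).f i = (FTors.gammaTι 𝔛 h).app (K.X i) := by
  exact Category.comp_id _

/-- Torsion sections form the image of the torsion subcomplex. -/
theorem exists_gamCι_eq (K : CochainComplex (FSch.ModF 𝔛 h) ℤ) (i : ℤ) {V : Opens (𝔛.X 0).carrier}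
    (x : KS K i V) (hx : FTors.IsTorsSect (FTors.openIdealFam 𝔛 h) (K.X i) x) :
    ∃ a, secMap ((gamCι K).f i) V a = x := by
  rw [gamCι_f]
  exact ⟨⟨x, hx⟩, rfl⟩

theorem isTors_gamCι (K : CochainComplex (FSch.ModF 𝔛 h) ℤ) (i : ℤ) {V : Opens (𝔛.X 0).carrier}
    (a : DerCompLib.Sec ((gamC K).X i) V) :
    FTors.IsTorsSect (FTors.openIdealFam 𝔛 h) (K.X i) (secMap ((gamCι K).f i) V a) := by
  rw [gamCι_f]
  exact a.2

variable {W₀ : Opens (𝔛.X 0).carrier} {f : ℕ → FBlowLib.Sec 𝔛 h W₀} {q : ℕ}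

include hX in
theorem jdl_span (hW₀ : AFF 𝔛 W₀) (hspan : Ideal.span (f '' Set.Iio q) = jdl h W₀) {V : Opens (𝔛.X 0).carrier}
    (hV : V ≤ W₀) (hA : AFF 𝔛 V) : Ideal.span ((fun l => oRes (𝔛.Osh h) hV (f l)) '' Set.Iio q) = jdl h V := by
  rw [← map_jdl_eq h hX hV hW₀ hA, ← hspan, Ideal.map_span, Set.image_image]

include hX in
/-- Killed sections are torsion. -/
theorem isTors_of_KT (hW₀ : AFF 𝔛 W₀) (hspan : Ideal.span (f '' Set.Iio q) = jdl h W₀) {M : FSch.ModF 𝔛 h}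
    {V : Opens (𝔛.X 0).carrier} {hV : V ≤ W₀} (hA : AFF 𝔛 V) {x : DerCompLib.Sec M V} (hx : KT f q hV x) :
    FTors.IsTorsSect (FTors.openIdealFam 𝔛 h) M x := by
  obtain ⟨N, hN⟩ := hx
  intro y hy
  haveI := isNoetherianRing_sec h hX hA
  let 𝔟 : Ideal (FBlowLib.Sec 𝔛 h V) := LinearMap.ker (LinearMap.toSpanSingleton _ _ x)
  obtain ⟨m, hm⟩ := Ideal.exists_pow_le_of_le_radical_of_fg
    (show jdl h V ≤ 𝔟.radical by
      rw [← jdl_span hX hW₀ hspan hV hA, Ideal.span_le]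
      rintro _ ⟨l, hl, rfl⟩
      exact ⟨N, LinearMap.mem_ker.2 (hN l hl)⟩)
    (IsNoetherian.noetherian _)
  refine ⟨V, 𝟙 V, ⟨m, fun W j b hb => ?_⟩, hy⟩
  rw [FTors.res_id]
  refine sec_ext_basis (goodRing h hX).basis _ _ fun W' i hW' => ?_
  rw [map_zero, mRes_smul]
  show oRes (𝔛.Osh h) i b • mRes M i (mRes M j.le x) = 0
  rw [mRes_mRes]
  have hb' : oRes (𝔛.Osh h) i b ∈ jdl h W' ^ (m + 1) :=
    (mem_ideal hW' hX).1 ((FTors.openIdealFam 𝔛 h).map_mem' m (homOfLE i) b hb)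
  have hb'' : oRes (𝔛.Osh h) i b ∈ (jdl h V ^ m).map (oRes (𝔛.Osh h) (i.trans j.le)) := by
    rw [Ideal.map_pow]
    have := map_jdl_eq h hX (i.trans j.le) hA hW'
    exact this.symm ▸ Ideal.pow_le_pow_right m.le_succ hb'
  refine Submodule.span_induction (p := fun c _ => c • mRes M (i.trans j.le) x = 0) ?_ (zero_smul _ _)
    (fun a c _ _ ha hc => by rw [add_smul, ha, hc, add_zero])
    (fun r c _ hc => by rw [smul_eq_mul, mul_smul, hc, smul_zero]) hb''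
  rintro _ ⟨c, hc, rfl⟩
  rw [← mRes_smul, show c • x = 0 from LinearMap.mem_ker.1 (hm hc), map_zero]

include hX in
/-- Torsion sections are locally killed. -/
theorem exists_KT_of_isTors (hf : ∀ l (V : Opens (𝔛.X 0).carrier) (hV : V ≤ W₀), AFF 𝔛 V →
      oRes (𝔛.Osh h) hV (f l) ∈ jdl h V) {M : FSch.ModF 𝔛 h} {V : Opens (𝔛.X 0).carrier} (hV : V ≤ W₀)
    {x : DerCompLib.Sec M V} (hx : FTors.IsTorsSect (FTors.openIdealFam 𝔛 h) M x) {y : (𝔛.X 0).carrier} (hy : y ∈ V) :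
    ∃ (V' : Opens (𝔛.X 0).carrier) (l : V' ≤ V), AFF 𝔛 V' ∧ y ∈ V' ∧ KT f q (l.trans hV) (mRes M l x) := by
  obtain ⟨W, l, hW, hyW, n, hn⟩ := S17051.exists_killed h hx hy
  refine ⟨W, l, hW, hyW, n + 1, fun k _ => ?_⟩
  have h0 := hn (𝟙 W) (oRes (𝔛.Osh h) (l.trans hV) (f k) ^ (n + 1))
    ((mem_ideal hW hX).2 (Ideal.pow_mem_pow (hf k W _ hW) (n + 1)))
  rw [FTors.res_id] at h0
  exact h0

variable (K : CochainComplex (FSch.ModF 𝔛 h) ℤ) (hI : ∀ n, Ad (𝔛.Osh h) (AFF 𝔛) (K.X n))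
  (hT : ∀ i, FTors.IsTorsF 𝔛 h (K.homology i))

instance mono_gammaTι (M : FSch.ModF 𝔛 h) : Mono ((FTors.gammaTι 𝔛 h).app M) :=
  mono_of_injective_sec _ fun _ _ _ e => Subtype.ext e

instance mono_gamCι : Mono (gamCι K) := by
  haveI : ∀ i, Mono ((gamCι K).f i) := fun i => by rw [gamCι_f]; infer_instance
  exact HomologicalComplex.mono_of_mono_f _ inferInstance

/-- Neighbourhoods on which killed sections divide locally. -/
def GoodNhds : Prop :=
  ∀ (V : Opens (𝔛.X 0).carrier) (y : (𝔛.X 0).carrier), y ∈ V → ∃ (W : Opens (𝔛.X 0).carrier), AFF 𝔛 W ∧ y ∈ W ∧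
    W ≤ V ∧ ∃ (q : ℕ) (f : ℕ → FBlowLib.Sec 𝔛 h W), Ideal.span (f '' Set.Iio q) = jdl h W ∧
      (∀ l (V' : Opens (𝔛.X 0).carrier) (hV : V' ≤ W), AFF 𝔛 V' → oRes (𝔛.Osh h) hV (f l) ∈ jdl h V') ∧
      DivLoc K f

include hX hI in
theorem goodNhds_of_ad : GoodNhds K := by
  classical
  intro V₁ y hy₁
  obtain ⟨W₀, hW₀, hy₀, hle⟩ := basis_AFF (𝔛 := 𝔛) V₁ y hy₁
  haveI := isNoetherianRing_sec h hX hW₀
  obtain ⟨q, a, ha⟩ := Submodule.fg_iff_exists_fin_generating_family.1 (IsNoetherian.noetherian (jdl h W₀))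
  let f : ℕ → FBlowLib.Sec 𝔛 h W₀ := fun l => if hl : l < q then a ⟨l, hl⟩ else 0
  have hspan : Ideal.span (f '' Set.Iio q) = jdl h W₀ := by
    rw [← ha]
    congr 1
    ext z
    constructor
    · rintro ⟨l, hl, rfl⟩
      exact ⟨⟨l, hl⟩, by simp [f, dif_pos (show l < q from hl)]⟩
    · rintro ⟨l, rfl⟩
      exact ⟨l, l.2, by simp [f]⟩
  have hf : ∀ l (V : Opens (𝔛.X 0).carrier) (hV : V ≤ W₀), AFF 𝔛 V → oRes (𝔛.Osh h) hV (f l) ∈ jdl h V := by
    intro l V hV hA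
    by_cases hl : l < q
    · rw [← jdl_span hX hW₀ hspan hV hA]
      exact Ideal.subset_span ⟨l, hl, rfl⟩
    · simp [f, dif_neg hl]
  exact ⟨W₀, hW₀, hy₀, hle, q, f, hspan, hf, divLoc_of_ad hX K hI⟩

variable (hS₀ : GoodNhds K)

include hX hS₀ hT in
theorem exactAt_of_steps' {G C : CochainComplex (FSch.ModF 𝔛 h) ℤ} (α : G ⟶ K) (π : K ⟶ C)
    (w : ∀ n, α.f n ≫ π.f n = 0) (hS : ∀ n, (ShortComplex.mk (α.f n) (π.f n) (w n)).Exact)
    (hepi : ∀ n, Epi (π.f n))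
    (htors : ∀ n (V : Opens (𝔛.X 0).carrier) (a : DerCompLib.Sec (G.X n) V),
      FTors.IsTorsSect (FTors.openIdealFam 𝔛 h) (K.X n) (secMap (α.f n) V a))
    (hsurj : ∀ n (V : Opens (𝔛.X 0).carrier) (x : KS K n V), FTors.IsTorsSect (FTors.openIdealFam 𝔛 h) (K.X n) x →
      ∃ a, secMap (α.f n) V a = x) (i : ℤ) : C.ExactAt i := by
  classical
  rw [HomologicalComplex.exactAt_iff' _ (i - 1) i (i + 1) (by simp) (by simp)]
  refine DerCompLib.exact_of_locally _ fun V c hc => ?_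
  refine ⟨⟨fun W => {k | ∃ a, secMap (C.d (i - 1) i) W a =
      secRes (C.X i) k c}, fun {W W'} k ⟨a, ha⟩ j => ⟨secRes _ j a, by
        rw [secMap_secRes', ha, FModLib.secRes_comp]⟩⟩, fun y hy => ?_, fun W k hk => hk⟩
  haveI := hepi i
  obtain ⟨V₁, l₁, hy₁, s, hs⟩ := locally_surjective_of_epi (π.f i) c hy
  obtain ⟨W₀, hW₀, hy₀, hle, q, f, hspan, hf, hDiv⟩ := hS₀ V₁ y hy₁
  obtain ⟨hP, hQ⟩ := steps' hX K hT hf hDiv q
  let s₀ := mRes (K.X i) hle s
  have hds : secMap (π.f (i + 1)) W₀ (dS K i (i + 1) W₀ s₀) = 0 := by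
    have h1 : secMap (C.d i (i + 1)) W₀ (secMap (π.f i) W₀ s₀) = 0 := by
      rw [secMap_mRes, hs, mRes_mRes, secMap_mRes]
      exact (congrArg (mRes _ _) hc).trans (map_zero _)
    exact (congrArg (fun φ => secMap φ W₀ s₀) (π.comm i (i + 1))).symm.trans h1
  obtain ⟨V₂, l₂, hy₂, x, hx⟩ := S17051.exists_lift_near h (hS (i + 1)) _ hds hy₀
  obtain ⟨V₃, l₃, hA₃, hy₃, hk₃⟩ := exists_KT_of_isTors (q := q) hX hf l₂
    (htors (i + 1) V₂ x) hy₂
  have hKT : KT f q (l₃.trans l₂) (dS K i (i + 1) V₃ (mRes (K.X i) (l₃.trans l₂) s₀)) := by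
    have hx' : secMap (α.f (i + 1)) V₂ x = mRes (K.X (i + 1)) l₂ (dS K i (i + 1) W₀ s₀) := hx
    rw [secMap_mRes, ← mRes_mRes l₂ l₃, ← hx']
    exact hk₃
  obtain ⟨V₄, l₄, hA₄, hy₄, t, htk, hdt⟩ := hQ rfl (l₃.trans l₂) hA₃ _ hKT y hy₃
  have hcoc : dS K i (i + 1) V₄ (mRes (K.X i) l₄ (mRes (K.X i) (l₃.trans l₂) s₀) - t) = 0 := by
    rw [map_sub, hdt, secMap_mRes, sub_self]
  obtain ⟨V₅, l₅, hA₅, hy₅, u, hu⟩ := hP (show (i - 1) + 1 = i by omega) rfl (l₄.trans (l₃.trans l₂)) hA₄ _ hcoc y hy₄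
  refine ⟨V₅, homOfLE (l₅.trans (l₄.trans ((l₃.trans l₂).trans (hle.trans l₁)))), ⟨secMap (π.f (i - 1)) V₅ u, ?_⟩, hy₅⟩
  have hz : ∀ {W : Opens (𝔛.X 0).carrier} (z : KS K i W), FTors.IsTorsSect (FTors.openIdealFam 𝔛 h) (K.X i) z →
      secMap (π.f i) W z = 0 := fun z hz => by
    obtain ⟨b, rfl⟩ := hsurj i _ z hz
    exact congrArg (fun φ => secMap φ _ b) (w i)
  have h1 := hz _ (isTors_of_KT hX hW₀ hspan hA₅ hu)
  have h2 := hz _ (isTors_of_KT hX hW₀ hspan hA₅ (htk.res l₅))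
  have hd : secMap (π.f i) V₅ (dS K (i - 1) i V₅ u) =
      secMap (C.d (i - 1) i) V₅ (secMap (π.f (i - 1)) V₅ u) :=
    (congrArg (fun φ => secMap φ V₅ u) (π.comm (i - 1) i)).symm
  refine hd.symm.trans ?_
  rw [map_sub] at h1
  rw [← sub_eq_zero.1 h1, map_sub, map_sub, h2, sub_zero]
  simp only [s₀, mRes_mRes, secMap_mRes]
  rw [hs]
  exact mRes_mRes _ _ _

include hX hI hT in
theorem exactAt_of_steps {G C : CochainComplex (FSch.ModF 𝔛 h) ℤ} (α : G ⟶ K) (π : K ⟶ C)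
    (w : ∀ n, α.f n ≫ π.f n = 0) (hS : ∀ n, (ShortComplex.mk (α.f n) (π.f n) (w n)).Exact)
    (hepi : ∀ n, Epi (π.f n))
    (htors : ∀ n (V : Opens (𝔛.X 0).carrier) (a : DerCompLib.Sec (G.X n) V),
      FTors.IsTorsSect (FTors.openIdealFam 𝔛 h) (K.X n) (secMap (α.f n) V a))
    (hsurj : ∀ n (V : Opens (𝔛.X 0).carrier) (x : KS K n V), FTors.IsTorsSect (FTors.openIdealFam 𝔛 h) (K.X n) x →
      ∃ a, secMap (α.f n) V a = x) (i : ℤ) : C.ExactAt i :=
  exactAt_of_steps' hX K hT (goodNhds_of_ad hX K hI) α π w hS hepi htors hsurj i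

include hX hS₀ hT in
/-- The torsion subcomplex computes a complex with local division and torsion cohomology. -/
theorem quasiIso_gamCι_of_goodNhds : QuasiIso (gamCι K) :=
  quasiIso_of_exactAt_coK (gamCι K) fun i => exactAt_of_steps' hX K hT hS₀ (gamCι K) (coπ (gamCι K))
    (fun n => comp_coπ (gamCι K) n) (fun n => (exact_coπ (gamCι K) n).choose_spec) (fun n => epi_coπ_f (gamCι K) n)
    (fun n _ a => isTors_gamCι K n a) (fun n _ x hx => exists_gamCι_eq K n x hx) i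

include hX hI hT in
theorem exactAt_cokernel (i : ℤ) : (coK (gamCι K)).ExactAt i :=
  exactAt_of_steps hX K hI hT (gamCι K) (coπ (gamCι K)) (fun n => comp_coπ (gamCι K) n)
    (fun n => (exact_coπ (gamCι K) n).choose_spec) (fun n => epi_coπ_f (gamCι K) n)
    (fun n _ a => isTors_gamCι K n a) (fun n _ x hx => exists_gamCι_eq K n x hx) i

include hX hI hT in
/-- The torsion subcomplex computes a complex of injectives with torsion cohomology. -/
theorem quasiIso_gamCι_of_ad : QuasiIso (gamCι K) :=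
  quasiIso_of_exactAt_coK (gamCι K) (exactAt_cokernel hX K hI hT)

include hX in
theorem quasiIso_gamCι (K : CochainComplex (FSch.ModF 𝔛 h) ℤ) (hI : ∀ n, Injective (K.X n))
    (hT : ∀ i, FTors.IsTorsF 𝔛 h (K.homology i)) : QuasiIso (gamCι K) :=
  quasiIso_gamCι_of_ad hX K (fun n => haveI := hI n; ad_of_injective' (goodRing h hX)) hT

end Groth.Agent.RGamT
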