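import Groth.Agent.FModLib.HomBasis
import Groth.Agent.FModLib.Formal
import Mathlib.CategoryTheory.Preadditive.Injective.Basic
import Mathlib.Algebra.Category.ModuleCat.Presheaf.Free
import Mathlib.Algebra.Category.ModuleCat.Presheaf.EpiMono
import Mathlib.Algebra.Module.Injective

/-!
# Sections of injective modules over a good basis are injective modules
-/

set_option autoImplicit false
set_option backward.isDefEq.respectTransparency false
set_option linter.style.haveILetI false
set_option linter.unusedSectionVars false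
set_option maxHeartbeats 1000000

universe u

open CategoryTheory CategoryTheory.Limits Opposite TopologicalSpace
open Groth.Agent.DerCompLib Groth.Agent.FModLib

noncomputable section

namespace Groth.Agent.RGamT

variable {T : TopCat.{u}} {O : Sheaf (Opens.grothendieckTopology T) CommRingCat.{u}} {P : Opens T → Prop}

/-- Index presheaf: `q` symbols on each open below `U`. -/
def gensPsh (U : Opens T) (q : ℕ) : (Opens T)ᵒᵖ ⥤ Type u where
  obj V := ULift.{u} (PLift (V.unop ≤ U) × Fin q)
  map {V W} f := TypeCat.ofHom fun z => ⟨⟨⟨f.unop.le.trans z.down.1.down⟩, z.down.2⟩⟩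

theorem apply_free_eq {R : Type u} [Ring R] {ι : Type u} {q : ℕ} (e : Fin q ≃ ι) {M : ModuleCat.{u} R}
    (L : (ModuleCat.free R).obj ι ⟶ M) (c : (ModuleCat.free R).obj ι) :
    L c = ∑ j, (show ι →₀ R from c) (e j) • L (ModuleCat.freeMk (e j)) := by
  classical
  let c' : ι →₀ R := c
  let L' : (ι →₀ R) →ₗ[R] M := L.hom
  show L' c' = ∑ j, c' (e j) • L' (Finsupp.single (e j) 1)
  haveI : Fintype ι := Fintype.ofEquiv _ e
  conv_lhs => rw [← Finsupp.univ_sum_single c', map_sum, ← e.sum_comp]
  refine Finset.sum_congr rfl fun j _ => ?_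
  rw [← map_smul, Finsupp.smul_single_one]

theorem oRes_oRes {U V W : Opens T} (i : V ≤ U) (j : W ≤ V) (a : O.obj.obj (op U)) :
    oRes O j (oRes O i a) = oRes O (j.trans i) a :=
  (ConcreteCategory.comp_apply (O.obj.map (homOfLE i).op) (O.obj.map (homOfLE j).op) a).symm.trans
    (by rw [← Functor.map_comp]; rfl)

theorem oRes_self {U : Opens T} (a : O.obj.obj (op U)) : oRes O (le_refl U) a = a :=
  ConcreteCategory.congr_hom (O.obj.map_id (op U)) a

theorem exists_extend_of_kernel {C : Type*} [Category C] [Abelian C] {A B I : C} (π : A ⟶ B) (ψ : A ⟶ I)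
    [Injective I] (h : kernel.ι π ≫ ψ = 0) : ∃ g : B ⟶ I, π ≫ g = ψ := by
  have hk : kernel.ι (Abelian.factorThruImage π) ≫ ψ = 0 := by
    have h0 : kernel.ι (Abelian.factorThruImage π) ≫ π = 0 :=
      (congrArg (kernel.ι (Abelian.factorThruImage π) ≫ ·) (Abelian.image.fac π)).symm.trans
        ((Category.assoc _ _ _).symm.trans (by rw [kernel.condition, zero_comp]))
    rw [← kernel.lift_ι π _ h0, Category.assoc, h, comp_zero]
  refine ⟨Injective.factorThru (Abelian.epiDesc (Abelian.factorThruImage π) ψ hk) (Abelian.image.ι π), ?_⟩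
  refine (congrArg (· ≫ _) (Abelian.image.fac π)).symm.trans ?_
  rw [Category.assoc, Injective.comp_factorThru, Abelian.comp_epiDesc]

variable (hG : GoodRing O P) {N : ModSite.Mod O} [Injective N]

include hG in
/-- Baer's criterion on sections. -/
theorem baer_sections {U : Opens T} (hU : P U) : Module.Baer (O.obj.obj (op U)) (Sec N U) := by
  intro 𝔞 φ
  haveI := hG.noeth U hU
  obtain ⟨q, a, ha⟩ := Submodule.fg_iff_exists_fin_generating_family.1 (IsNoetherian.noetherian 𝔞)
  have haj : ∀ j, a j ∈ 𝔞 := fun j => ha ▸ Submodule.subset_span ⟨j, rfl⟩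
  let y : Fin q → Sec N U := fun j => φ ⟨a j, haj j⟩
  have hrel : ∀ c : Fin q → O.obj.obj (op U), c ∈ relsOf (O.obj.obj (op U)) a → ∑ j, c j • y j = 0 := fun c hc => by
    have h0 : ∑ j, c j • (⟨a j, haj j⟩ : 𝔞) = 0 := Subtype.ext (by simpa using mem_relsOf.1 hc)
    have h1 := congrArg φ h0
    simp only [map_sum, map_smul, map_zero] at h1
    exact h1
  let R₀ := (ModSite.ringSh O).obj
  haveI : Injective N.val :=
    Injective.injective_of_adjoint (PresheafOfModules.sheafificationAdjunction (𝟙 R₀)) N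
  let π : (PresheafOfModules.free R₀).obj (gensPsh U q) ⟶ PresheafOfModules.unit R₀ :=
    PresheafOfModules.freeObjDesc
      { app := fun V => TypeCat.ofHom fun z => oRes O z.down.1.down (a z.down.2)
        naturality := fun V W f => by
          ext z
          exact (oRes_oRes z.down.1.down f.unop.le _).symm }
  let ψ : (PresheafOfModules.free R₀).obj (gensPsh U q) ⟶ N.val :=
    PresheafOfModules.freeObjDesc
      { app := fun V => TypeCat.ofHom fun z => mRes N z.down.1.down (y z.down.2)
        naturality := fun V W f => by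
          ext z
          exact (mRes_mRes z.down.1.down f.unop.le (y z.down.2)).symm }
  have hker : ∀ (V : (Opens T)ᵒᵖ) (c : ((PresheafOfModules.free R₀).obj (gensPsh U q)).obj V),
      π.app V c = 0 → ψ.app V c = 0 := fun V c hc => by
    by_cases hV : V.unop ≤ U
    swap
    · haveI : IsEmpty ((gensPsh U q).obj V) := ⟨fun z => hV z.down.1.down⟩
      haveI : Subsingleton (((PresheafOfModules.free R₀).obj (gensPsh U q)).obj V) :=
        inferInstanceAs (Subsingleton ((gensPsh U q).obj V →₀ R₀.obj V))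
      rw [Subsingleton.elim c 0, map_zero]
    let e : Fin q ≃ (gensPsh U q).obj V :=
      { toFun := fun j => ⟨⟨⟨hV⟩, j⟩⟩, invFun := fun z => z.down.2, left_inv := fun j => rfl, right_inv := fun z => rfl }
    haveI : Fintype ((gensPsh U q).obj V) := Fintype.ofEquiv _ e
    let b : Fin q → O.obj.obj (op V.unop) := fun j => (show (gensPsh U q).obj V →₀ R₀.obj V from c) (e j)
    have hπv : ∀ j, π.app V (ModuleCat.freeMk (R := R₀.obj V) (e j)) = oRes O hV (a j) := fun j =>
      ModuleCat.freeDesc_apply _ (e j)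
    have hψv : ∀ j, ψ.app V (ModuleCat.freeMk (R := R₀.obj V) (e j)) = mRes N hV (y j) := fun j =>
      ModuleCat.freeDesc_apply _ (e j)
    have hπ : ∑ j, b j * oRes O hV (a j) = 0 := by
      refine Eq.trans (Finset.sum_congr rfl fun j _ => ?_) ((apply_free_eq e (π.app V) c).symm.trans hc)
      exact congrArg (b j • ·) (hπv j).symm
    refine (apply_free_eq e (ψ.app V) c).trans ?_
    refine Eq.trans (Finset.sum_congr rfl fun j _ => congrArg (b j • ·) (hψv j)) ?_
    refine sec_ext_basis hG.basis (N := N) (∑ j, b j • mRes N hV (y j)) 0 fun W i hW => ?_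
    rw [map_zero, map_sum]
    simp only [mRes_smul, mRes_mRes]
    have hrW := hG.flat U W (i.trans hV) hU hW q a (fun j => oRes O i (b j)) (by
      refine Eq.trans ?_ ((congrArg (oRes O i) hπ).trans (map_zero _))
      rw [map_sum]
      refine Finset.sum_congr rfl fun j _ => ?_
      rw [map_mul]
      exact congrArg (oRes O i (b j) * ·) (oRes_oRes hV i (a j)).symm)
    have hle : Submodule.span (O.obj.obj (op W))
        ((fun z => oRes O (i.trans hV) ∘ z) '' (relsOf (O.obj.obj (op U)) a : Set (Fin q → O.obj.obj (op U)))) ≤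
        relsOf (O.obj.obj (op W)) (fun j => mRes N (i.trans hV) (y j)) := by
      refine Submodule.span_le.2 ?_
      rintro _ ⟨z, hz, rfl⟩
      refine mem_relsOf.2 ?_
      simp only [Function.comp_apply, ← mRes_smul, ← map_sum, hrel z hz, map_zero]
    exact mem_relsOf.1 (hle hrW)
  let z₀ : Fin q → ((PresheafOfModules.free R₀).obj (gensPsh U q)).obj (op U) := fun j =>
    ModuleCat.freeMk (R := R₀.obj (op U)) (X := (gensPsh U q).obj (op U)) ⟨⟨⟨le_rfl⟩, j⟩⟩
  have hπj : ∀ j, π.app (op U) (z₀ j) = (a j : R₀.obj (op U)) := fun j =>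
    (ModuleCat.freeDesc_apply _ _).trans (oRes_self (a j))
  have hψj : ∀ j, ψ.app (op U) (z₀ j) = y j := fun j =>
    (ModuleCat.freeDesc_apply _ _).trans (ConcreteCategory.congr_hom (N.val.presheaf.map_id (op U)) (y j))
  clear_value π ψ z₀
  have hk : kernel.ι π ≫ ψ = 0 := by
    apply PresheafOfModules.hom_ext
    intro V
    apply ModuleCat.hom_ext
    apply LinearMap.ext
    intro c
    have h1 : π.app V ((kernel.ι π).app V c) = 0 :=
      (LinearMap.congr_fun (congrArg (fun η => ModuleCat.Hom.hom (PresheafOfModules.Hom.app η V)) (kernel.condition π)) c :)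
    exact hker V _ h1
  obtain ⟨g, hg⟩ := exists_extend_of_kernel π ψ hk
  refine ⟨LinearMap.toSpanSingleton _ _ (g.app (op U) (1 : R₀.obj (op U))), fun x hx => ?_⟩
  have hgen : ∀ j, g.app (op U) (a j : R₀.obj (op U)) = y j := fun j => by
    rw [← hπj j, ← hψj j, ← hg]
    rfl
  obtain ⟨c, hc⟩ := (Submodule.mem_span_range_iff_exists_fun _).1 (ha.ge hx : x ∈ Submodule.span _ (Set.range a))
  have h2 : φ ⟨x, hx⟩ = ∑ j, c j • y j := by
    rw [show (⟨x, hx⟩ : 𝔞) = ∑ j, c j • (⟨a j, haj j⟩ : 𝔞) from Subtype.ext (by simpa using hc.symm)]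
    simp only [map_sum, map_smul]
    rfl
  rw [h2]
  let x' : R₀.obj (op U) := x
  let c' : Fin q → R₀.obj (op U) := c
  show x' • g.app (op U) (1 : R₀.obj (op U)) = ∑ j, c' j • (show (N.val.obj (op U)) from y j)
  have hx' : x' * 1 = ∑ j, c' j * (show R₀.obj (op U) from a j) := (mul_one x).trans hc.symm
  refine ((g.app (op U)).hom.map_smul x' (1 : R₀.obj (op U))).symm.trans ?_
  refine (congrArg (g.app (op U)) hx').trans ?_
  exact (map_sum (g.app (op U)).hom _ _).trans
    (Finset.sum_congr rfl fun j _ => ((g.app (op U)).hom.map_smul (c' j) _).trans (congrArg (c' j • ·) (hgen j)))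

include hG in
/-- Division by a power of `f` among sections killed by given elements. -/
theorem exists_divide {U : Opens T} (hU : P U) {ι : Type*} (g : ι → O.obj.obj (op U)) (f : O.obj.obj (op U))
    (n : ℕ) (x : Sec N U) (hx : ∀ i, g i • x = 0) :
    ∃ (u : Sec N U) (m : ℕ), (∀ i, g i • u = 0) ∧ f ^ m • (f ^ n • u - x) = 0 := by
  haveI := hG.noeth U hU
  haveI := (baer_sections hG hU (N := N)).injective
  let 𝔟 := Ideal.span (Set.range g)
  let col : ℕ →o Submodule (O.obj.obj (op U)) (O.obj.obj (op U)) :=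
    ⟨fun k => Submodule.comap (LinearMap.mulLeft _ (f ^ k)) 𝔟, fun k k' hkk r hr => by
      simp only [Submodule.mem_comap, LinearMap.mulLeft_apply] at hr ⊢
      rw [← Nat.sub_add_cancel hkk, pow_add, mul_assoc]
      exact 𝔟.mul_mem_left _ hr⟩
  obtain ⟨m, hm⟩ := monotone_stabilizes_iff_noetherian.2 inferInstance col
  let L₁ : (O.obj.obj (op U)) →ₗ[O.obj.obj (op U)] (O.obj.obj (op U)) ⧸ 𝔟 :=
    𝔟.mkQ ∘ₗ LinearMap.mulLeft _ (f ^ (n + m))
  let L₂ : (O.obj.obj (op U)) →ₗ[O.obj.obj (op U)] Sec N U := LinearMap.toSpanSingleton _ _ (f ^ m • x)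
  have hb : ∀ b ∈ 𝔟, b • x = 0 := fun b hb => by
    refine Submodule.span_induction (p := fun b _ => b • x = 0) ?_ (zero_smul _ x)
      (fun b b' _ _ h h' => by rw [add_smul, h, h', add_zero])
      (fun r b _ h => by rw [smul_eq_mul, mul_smul, h, smul_zero]) hb
    rintro _ ⟨i, rfl⟩
    exact hx i
  have hle : LinearMap.ker L₁ ≤ LinearMap.ker L₂ := fun r hr => by
    have h1 : r ∈ col (n + m) := (Submodule.Quotient.mk_eq_zero 𝔟).1 (LinearMap.mem_ker.1 hr)
    rw [← hm (n + m) (by omega)] at h1
    simp only [L₂, LinearMap.mem_ker, LinearMap.toSpanSingleton_apply, smul_smul]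
    rw [mul_comm]
    exact hb _ h1
  let K := (LinearMap.ker L₁).liftQ L₂ hle
  have hinj : Function.Injective ((LinearMap.ker L₁).liftQ L₁ le_rfl) :=
    LinearMap.ker_eq_bot.1 (Submodule.ker_liftQ_eq_bot' _ _ rfl)
  obtain ⟨G, hG'⟩ := Module.Injective.out (Q := Sec N U) ((LinearMap.ker L₁).liftQ L₁ le_rfl) hinj K
  refine ⟨G (𝔟.mkQ 1), m, fun i => ?_, ?_⟩
  · refine (G.map_smul (g i) _).symm.trans (Eq.trans (congrArg G ?_) G.map_zero)
    refine ((𝔟.mkQ).map_smul (g i) 1).symm.trans ((Submodule.Quotient.mk_eq_zero _).2 ?_)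
    rw [smul_eq_mul, mul_one]
    exact Submodule.subset_span ⟨i, rfl⟩
  · have h1 := hG' (Submodule.Quotient.mk 1)
    simp only [K, Submodule.liftQ_apply, L₁, L₂, LinearMap.comp_apply, LinearMap.mulLeft_apply,
      LinearMap.toSpanSingleton_apply, one_smul, mul_one] at h1
    rw [smul_sub, sub_eq_zero, ← h1, smul_smul, ← pow_add, add_comm m n, ← map_smul, ← map_smul, smul_eq_mul, mul_one]

/-- Divisibility of killed sections over the basis: the property of injective modules used for torsion sections. -/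
def Ad (O : Sheaf (Opens.grothendieckTopology T) CommRingCat.{u}) (P : Opens T → Prop) (N : ModSite.Mod O) : Prop :=
  ∀ ⦃U : Opens T⦄, P U → ∀ (k : ℕ) (g : Fin k → O.obj.obj (op U)) (f : O.obj.obj (op U)) (n : ℕ) (x : Sec N U),
    (∀ i, g i • x = 0) → ∃ (u : Sec N U) (m : ℕ), (∀ i, g i • u = 0) ∧ f ^ m • (f ^ n • u - x) = 0

include hG in
theorem ad_of_injective' : Ad O P N := fun _ hU _ g f n x hx => exists_divide hG hU g f n x hx

end Groth.Agent.RGamT
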