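import Groth.Agent.DerCompLib.OrthTower
import Groth.Agent.DerCompLib.KoszulRpush
import Groth.Agent.DerCompLib.KoszulGen
import Groth.Agent.DQCoh.RelTorBC
import Groth.Agent.DQCoh.PscNoeth
import Groth.Agent.DCat.SuppOpen
import Groth.Prelude.Def_SiteCmp

/-!
# The cone of the derived completion map on a scheme is killed by generators
-/

set_option autoImplicit false
set_option backward.isDefEq.respectTransparency false
set_option backward.defeqAttrib.useBackward true
set_option linter.style.haveILetI false
set_option maxHeartbeats 1000000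
set_option synthInstance.maxHeartbeats 400000

universe u

open CategoryTheory CategoryTheory.Limits CategoryTheory.Pretriangulated AlgebraicGeometry Opposite TopologicalSpace

attribute [local instance] HasDerivedCategory.standard

noncomputable section

namespace Groth.Agent.RGamT

open Groth.Agent.DerCompLib

variable {X : Scheme.{u}}

/-- Shifts are additive (instance search needs the binder spelled out). -/
local instance shAddK : ∀ n : ℤ, (shiftFunctor (DerivedCategory (ModSite.Mod X.sheaf)) n).Additive :=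
  fun _ => inferInstance

local instance shAddKL : ∀ n : ℤ, (shiftFunctor (DerivedCategory (ModSite.Mod X.sheaf)) n).Linear (DerComp.GSec X.sheaf) :=
  fun _ => inferInstance

/-- The cone of the completion map is killed by generators of the ideal. -/
theorem killed_cone (I : Ideal (DerComp.GSec X.sheaf)) (𝓘 : DerComp.IdealSh X.sheaf)
    (h𝓘 : 𝓘.IsGenBy (fun a : I => (a : DerComp.GSec X.sheaf))) [DerComp.HasDerCompletion X.sheaf 𝓘]
    (K : DerivedCategory (ModSite.Mod X.sheaf)) {r : ℕ} (a : Fin r → DerComp.GSec X.sheaf) (ha : Submodule.span _ (Set.range a) = I)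
    {Z : DerivedCategory (ModSite.Mod X.sheaf)} {g : ((DerComp.derCompletion X.sheaf 𝓘).obj K).obj ⟶ Z} {d : Z ⟶ K⟦(1 : ℤ)⟧}
    (hT : Triangle.mk (DerComp.toDerCompletion 𝓘 K) g d ∈ distTriang (DerivedCategory (ModSite.Mod X.sheaf))) : Killed (List.ofFn a) Z := by
  let V : X.Opens := ⊤
  let a' : Fin r → X.sheaf.obj.obj (op V) := fun j => (a j).1 V
  have hle : 𝓘 ≤ localSpanSh a' := by
    refine h𝓘.2 _ fun s U => ?_
    rw [mem_localSpanSh]
    refine (locallyInSpan_iff a' _).2 fun Y k m => ?_
    obtain ⟨c, hc⟩ := (Submodule.mem_span_range_iff_exists_fun _).1 (ha.ge s.2)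
    have e : (X.sheaf.obj.map m.op).hom (s.1.1 U) = ∑ j, (c j).1 Y * (a j).1 Y := by
      rw [s.1.2 m, ← hc]
      simp [Finset.sum_apply]
    rw [e]
    refine Ideal.sum_mem _ fun j _ => Ideal.mul_mem_left _ _ ?_
    have h := mem_spanSh_self a' j (Over.mk k)
    rw [show (a j).1 Y = (DerComp.GSec.ofSect X.sheaf V (a' j)).1 (Over.mk k) from ((a j).2 k).symm]
    exact h
  have hI : ∀ (W : X.Opens) (f : X.sheaf.obj.obj (op W)), f ∈ 𝓘.ideal W → LocallyInSpan a' f := fun W f hf =>
    (mem_localSpanSh a' f).1 (hle W hf)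
  have hkz : KZ a' Z := (kz_obj₃_iff a' _ hT).2 (kzMor_toDerCompletion a' 𝓘 hI K)
  let Z₀ := DerivedCategory.Q.objPreimage Z
  let eZ := DerivedCategory.Q.objObjPreimageIso Z
  have hz := hkz.isZero a' (restrCx Z₀ V) ((restrD V).mapIso eZ.symm ≪≫ restrDQ V Z₀)
  have hl : (List.ofFn a).map (fun s => DerComp.GSec.toOver s V) = gList a' := by
    rw [List.map_ofFn]
    refine congrArg List.ofFn (funext fun j => Subtype.ext (funext fun W => ?_))
    exact ((a j).2 W.hom).symm
  obtain ⟨e⟩ := nonempty_iso_map_kos (ModSite.restr X.sheaf V) (fun s => DerComp.GSec.toOver s V)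
    (fun M s => by rw [DerComp.smul_def, DerComp.smul_def, Category.comp_id, Category.comp_id]; rfl) (List.ofFn a) Z₀
  rw [hl] at e
  have hz' : IsZero ((restrD V).obj (DerivedCategory.Q.obj ((kos (List.ofFn a)).obj Z₀))) :=
    hz.of_iso (restrDQ V _ ≪≫ DerivedCategory.Q.mapIso e)
  have hz'' : IsZero (DerivedCategory.Q.obj ((kos (List.ofFn a)).obj Z₀)) := by
    refine DQCoh.isZero_of_isZero_hd _ fun n => ?_
    have h := IsZero.of_iso ((DerivedCategory.homologyFunctor _ n).map_isZero hz')
      (DCat.SuppOpen.hdMapIso (ModSite.restr X.sheaf V) (DerivedCategory.Q.obj ((kos (List.ofFn a)).obj Z₀)) n).symm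
    refine (IsZero.iff_id_eq_zero _).2 ?_
    have h0 := (IsZero.iff_id_eq_zero _).1 h
    rw [← CategoryTheory.Functor.map_id] at h0
    apply SheafOfModules.hom_ext
    ext U x
    have := congrArg (fun f => (f.val.app (op (Over.mk (homOfLE (le_top : U.unop ≤ V))))).hom x) h0
    exact this
  exact (killed_of_kos _ Z₀ hz'').of_iso eZ


end Groth.Agent.RGamT
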