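import Groth.Agent.DerCompLib.TowerQis
import Groth.Agent.DerCompLib.OrthTower
import Groth.Agent.DerCompLib.KoszulRpush
import Groth.Agent.DerCompLib.KoszulGen
import Groth.Agent.DerCompLib.Completion
import Groth.Agent.RGamT.ProperKilled
import Groth.Agent.DQCoh.Local
import Groth.Agent.Dual22Lib.HomFinite
import Groth.Agent.RGamT.CohComplete

/-!
# Derived completion is fully faithful on coherent objects of proper schemes over complete rings
-/

set_option autoImplicit false
set_option backward.isDefEq.respectTransparency false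
set_option backward.defeqAttrib.useBackward true
set_option linter.style.haveILetI false
set_option linter.unusedSectionVars false
set_option maxHeartbeats 1000000
set_option synthInstance.maxHeartbeats 400000

universe u w v

open CategoryTheory CategoryTheory.Limits CategoryTheory.Pretriangulated AlgebraicGeometry Opposite TopologicalSpace
open Groth.Agent.DerCompLib

attribute [local instance] HasDerivedCategory.standard

noncomputable section

namespace Groth.Agent.RGamT

section Tri

variable {D : Type v} [Category.{w} D] [Preadditive D] [HasZeroObject D] [HasShift D ℤ]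
  [∀ n : ℤ, (shiftFunctor D n).Additive] [Pretriangulated D] {R : Type u} [CommRing R] [Linear R D]
  [∀ n : ℤ, (shiftFunctor D n).Linear R]

/-- Completeness of groups of maps passes to third objects of triangles. -/
theorem isComplElt_obj₃ {F : D} (s : R) (T : Triangle D) (hT : T ∈ distTriang D)
    (h₁ : IsComplElt (F ⟶ T.obj₁⟦(1 : ℤ)⟧) s) (h₂ : IsComplElt (F ⟶ T.obj₂) s)
    (h₀ : IsComplElt (F ⟶ T.obj₁) s) (h₂' : IsComplElt (F ⟶ T.obj₂⟦(1 : ℤ)⟧) s) :
    IsComplElt (F ⟶ T.obj₃) s := by
  have nat : ∀ {X Y : D} (φ : X ⟶ Y) (x : ℕ → (F ⟶ X)),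
      telMap (F ⟶ Y) s (fun k => x k ≫ φ) = fun k => telMap (F ⟶ X) s x k ≫ φ := fun φ x => funext fun k => by
    simp [telMap_apply, Preadditive.sub_comp, Linear.smul_comp]
  constructor
  · refine (injective_iff_map_eq_zero (telMap _ s)).2 fun x hx => ?_
    have ha : (fun k => x k ≫ T.mor₃) = (0 : ℕ → (F ⟶ T.obj₁⟦(1 : ℤ)⟧)) := h₁.1 (by
      rw [nat, map_zero, hx]
      funext k
      exact zero_comp)
    choose z hz using fun k => Triangle.coyoneda_exact₃ T hT (x k) (congrFun ha k)
    choose w hw using fun k => Triangle.coyoneda_exact₂ T hT (telMap (F ⟶ T.obj₂) s z k) (by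
      have h := congrFun (nat T.mor₂ z) k
      rw [show (fun j => z j ≫ T.mor₂) = x from funext fun j => (hz j).symm, hx] at h
      exact h.symm)
    obtain ⟨w', hw'⟩ := h₀.2 w
    have hzw : z = fun k => w' k ≫ T.mor₁ := h₂.1 (by
      rw [nat, hw']
      exact funext hw)
    funext k
    rw [hz k, congrFun hzw k, Category.assoc, comp_distTriang_mor_zero₁₂ T hT, comp_zero]
    rfl
  · intro y
    obtain ⟨a', ha'⟩ := h₁.2 fun k => y k ≫ T.mor₃
    have ha0 : (fun k => a' k ≫ T.mor₁⟦(1 : ℤ)⟧') = (0 : ℕ → (F ⟶ T.obj₂⟦(1 : ℤ)⟧)) := h₂'.1 (by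
      rw [nat, map_zero, ha']
      funext k
      rw [Category.assoc, comp_distTriang_mor_zero₃₁ T hT, comp_zero]
      rfl)
    choose x' hx' using fun k => Triangle.coyoneda_exact₁ T hT (a' k) (congrFun ha0 k)
    choose z hz using fun k => Triangle.coyoneda_exact₃ T hT (y k - telMap (F ⟶ T.obj₃) s x' k) (by
      have h := congrFun (nat T.mor₃ x') k
      rw [show (fun j => x' j ≫ T.mor₃) = a' from funext fun j => (hx' j).symm, ha'] at h
      rw [Preadditive.sub_comp, ← h, sub_self])
    obtain ⟨z', hz'⟩ := h₂.2 z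
    refine ⟨x' + fun k => z' k ≫ T.mor₂, ?_⟩
    rw [map_add, nat, hz']
    funext k
    rw [Pi.add_apply, ← hz k, add_sub_cancel]

/-- Transfer along an isomorphism. -/
theorem isComplElt_iso {F X Y : D} (s : R) (e : X ≅ Y) (h : IsComplElt (F ⟶ X) s) : IsComplElt (F ⟶ Y) s :=
  (isComplElt_congr (f := s) (g := s)
    ({ toFun := fun z => z ≫ e.hom
       invFun := fun z => z ≫ e.inv
       left_inv := fun z => by simp
       right_inv := fun z => by simp
       map_add' := fun a b => Preadditive.add_comp _ _ _ _ _ _ } : (F ⟶ X) ≃+ (F ⟶ Y))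
    fun z => Linear.smul_comp _ _ _ s z e.hom).1 h

/-- Killed objects with complete groups of maps receive no maps. -/
theorem subsingleton_of_killed {F : D} : ∀ (l : List R) {W : D}, Killed l W →
    (∀ r ∈ l, ∀ n : ℤ, IsComplElt (F ⟶ W⟦n⟧) r) → ∀ n : ℤ, Subsingleton (F ⟶ W⟦n⟧)
  | [], W, h, _, n => ⟨fun a b => ((shiftFunctor D n).map_isZero h).eq_of_tgt a b⟩
  | r :: l, W, ⟨Z, g, d, hT, hZ⟩, hc, n => by
    have hcZ : ∀ q ∈ l, ∀ m : ℤ, IsComplElt (F ⟶ Z⟦m⟧) q := fun q hq m => by
      have h := hc q (List.mem_cons_of_mem _ hq)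
      have hTm := Triangle.shift_distinguished _ hT m
      exact isComplElt_obj₃ q _ hTm
        (isComplElt_iso q ((shiftFunctorAdd D m 1).app W) (h (m + 1))) (h m) (h m)
        (isComplElt_iso q ((shiftFunctorAdd D m 1).app W) (h (m + 1)))
    have hS := subsingleton_of_killed l hZ hcZ
    let Tn := (Triangle.shiftFunctor D n).obj (Triangle.mk (r • 𝟙 W) g d)
    have hTn : Tn ∈ distTriang D := Triangle.shift_distinguished _ hT n
    haveI := hS n
    haveI : Subsingleton (F ⟶ Tn.obj₃⟦(-1 : ℤ)⟧) :=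
      haveI := hS (n + -1)
      (((shiftFunctorAdd D n (-1)).app Z).homToEquiv (Z := F)).symm.subsingleton
    have hm : ∀ y : F ⟶ W⟦n⟧, y ≫ Tn.mor₁ = (n.negOnePow : ℤ) • (r • y) := fun y => by
      change y ≫ ((n.negOnePow : ℤ) • (r • 𝟙 W)⟦n⟧') = _
      rw [Preadditive.comp_zsmul, Functor.map_smul, CategoryTheory.Functor.map_id, Linear.comp_smul, Category.comp_id]
    have hb : Function.Bijective fun y : F ⟶ W⟦n⟧ => r • y := by
      refine ⟨fun y y' e => ?_, fun x => ?_⟩
      · obtain ⟨z, hz⟩ := Triangle.coyoneda_exact₂ _ (inv_rot_of_distTriang _ hTn) (y - y') (by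
          change (y - y') ≫ Tn.mor₁ = 0
          rw [hm, smul_sub, show r • y = r • y' from e, sub_self, smul_zero])
        rw [← sub_eq_zero, hz, show z = 0 from Subsingleton.elim (α := F ⟶ Tn.obj₃⟦(-1 : ℤ)⟧) _ _, zero_comp]
      · obtain ⟨y, hy⟩ := Triangle.coyoneda_exact₂ _ hTn x (Subsingleton.elim (α := F ⟶ Z⟦n⟧) _ _)
        refine ⟨(n.negOnePow : ℤ) • y, ?_⟩
        show r • _ = x
        rw [smul_comm, hy]
        exact (hm y).symm
    exact subsingleton_of_forall_eq 0 ((hc r List.mem_cons_self n).eq_zero_of_bijective hb)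

end Tri

section Complete

variable {C : Type u} [SmallCategory C] {J : GrothendieckTopology C} {O : Sheaf J CommRingCat.{u}}

set_option maxHeartbeats 1600000 in
/-- Maps into a complete K-injective complex form complete groups. -/
theorem isComplElt_hom_Q (s : DerComp.GSec O) (L : CochainComplex (ModSite.Mod O) ℤ)
    [L.IsKInjective] (hL : ∀ i, Injective (L.X i)) (h : ∀ W : C, s.1 W ∈ secIdeal L W)
    (F : CochainComplex (ModSite.Mod O) ℤ) :
    IsComplElt (DerivedCategory.Q.obj F ⟶ DerivedCategory.Q.obj L) s := by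
  let I : ℕ → CochainComplex (ModSite.Mod O) ℤ := fun _ => L
  let P : CochainComplex (ModSite.Mod O) ℤ := ∏ᶜ I
  have hP : P.IsKInjective := DCat.isKInjective_pi (productIsProduct I) fun _ => inferInstance
  let T : P ⟶ P := Pi.lift fun k => Pi.π I k - Pi.π I (k + 1) ≫ smulCx s L
  let seq : ∀ (i : ℤ) (W : C), Sec (P.X i) W → (ℕ → Sec (L.X i) W) :=
    fun i W x k => secMap ((Pi.π I k).f i) W x
  have hseq : ∀ i W, Function.Bijective (seq i W) := fun i W =>
    bijective_sec_fan
      (isLimitFanMkObjOfIsLimit (HomologicalComplex.eval _ _ i) _ (Pi.π I) (productIsProduct I)) W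
  have hseqT : ∀ i W x, seq i W (secMap (T.f i) W x) =
      telMap (Sec (L.X i) W) (s.1 W) (seq i W x) := fun i W x => funext fun k => by
    change secMap ((Pi.π I k).f i) W (secMap (T.f i) W x) = _
    rw [← secMap_comp, ← HomologicalComplex.comp_f, Pi.lift_π]
    rfl
  have hseqd : ∀ i j W x k, seq j W (secMap (P.d i j) W x) k =
      secMap (L.d i j) W (seq i W x k) := fun i j W x k => by
    change secMap ((Pi.π I k).f j) W (secMap (P.d i j) W x) = _
    rw [← secMap_comp, ← (Pi.π I k).comm]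
    rfl
  have hTsurj : ∀ i W, Function.Surjective (secMap (T.f i) W) := fun i W y => by
    haveI := hL i
    obtain ⟨x, hx⟩ := surjective_telMap_sec W (s.1 W) (L.X i) (seq i W y)
    obtain ⟨x, rfl⟩ := (hseq i W).2 x
    exact ⟨x, (hseq i W).1 ((hseqT i W x).trans hx)⟩
  haveI : Epi T := by
    haveI : ∀ i, Epi (T.f i) := fun i => epi_of_surjective_sec _ (hTsurj i)
    exact HomologicalComplex.epi_of_epi_f _ inferInstance
  let S : ShortComplex (CochainComplex (ModSite.Mod O) ℤ) :=
    ShortComplex.mk (kernel.ι T) T (kernel.condition T)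
  have hS : S.ShortExact :=
    { exact := ShortComplex.exact_of_f_is_kernel _ (kernelIsKernel T) }
  have hker : ∀ i W (y : Sec (P.X i) W), secMap (T.f i) W y = 0 →
      ∃ a, secMap ((kernel.ι T).f i) W a = y := by
    intro i W y hy
    have hex : (S.map (HomologicalComplex.eval (ModSite.Mod O) (ComplexShape.up ℤ) i)).Exact :=
      (HomologicalComplex.exact_iff_degreewise_exact S).1 hS.exact i
    haveI : Mono (S.map (HomologicalComplex.eval (ModSite.Mod O) _ i)).f :=
      inferInstanceAs (Mono ((kernel.ι T).f i))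
    have h0 : (secEquiv W _).symm y ≫ T.f i = 0 := (secEquiv W _).injective (by
      rw [secEquiv_comp, AddEquiv.apply_symm_apply, map_zero, hy])
    refine ⟨secEquiv W _ (hex.lift ((secEquiv W _).symm y) h0), ?_⟩
    rw [← secEquiv_comp]
    refine (congrArg (secEquiv W (P.X i)) ?_).trans (AddEquiv.apply_symm_apply _ _)
    exact hex.lift_f _ _
  have hinj : ∀ i W, Function.Injective (secMap ((kernel.ι T).f i) W) := by
    intro i W x y hxy
    apply (secEquiv W _).symm.injective
    rw [← cancel_mono ((kernel.ι T).f i)]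
    apply (secEquiv W _).injective
    rw [secEquiv_comp, secEquiv_comp, AddEquiv.apply_symm_apply, AddEquiv.apply_symm_apply, hxy]
  have hac : (kernel T).Acyclic := fun i => by
    rw [(kernel T).exactAt_iff' (i - 1) i (i + 1) (by simp) (by simp)]
    refine exact_of_locally _ fun W b (hb : secMap ((kernel T).d i (i + 1)) W b = 0) => ?_
    refine ⟨⊤, J.top_mem W, fun W' k _ => ?_⟩
    let y := seq i W' (secMap ((kernel.ι T).f i) W' (secRes ((kernel T).X i) k b))
    obtain ⟨g, hg0, hg⟩ := (acyclic_sections_iff L W' (s.1 W')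
      fun i => haveI := hL i; surjective_telMap_sec W' (s.1 W') _).2 (h W') i y
      (by
        rw [← hseqT, ← secMap_comp, ← HomologicalComplex.comp_f, kernel.condition,
          HomologicalComplex.zero_f, secMap_zero]
        exact funext fun j => map_zero (secMap ((Pi.π I j).f i) W'))
      (fun j => by
        rw [← hseqd, ← secMap_comp, (kernel.ι T).comm, secMap_comp, secMap_secRes, hb, map_zero,
          map_zero]
        exact map_zero (secMap ((Pi.π I j).f (i + 1)) W'))
    obtain ⟨g, rfl⟩ := (hseq (i - 1) W').2 g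
    obtain ⟨a, ha⟩ := hker (i - 1) W' g ((hseq (i - 1) W').1
      ((hseqT _ _ _).trans (hg0.trans (funext fun j => (map_zero _).symm))))
    refine ⟨a, hinj i W' ((hseq i W').1 (funext fun j => ?_))⟩
    change seq i W' (secMap ((kernel.ι T).f i) W' (secMap ((kernel T).d (i - 1) i) W' a)) j = _
    rw [← secMap_comp ((kernel T).d (i - 1) i), ← (kernel.ι T).comm, secMap_comp, ha, hseqd]
    exact (hg j).symm
  haveI : QuasiIso T := quasiIso_of_acyclic_kernel hS hac
  haveI : IsIso (DerivedCategory.Q.map T) := by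
    rw [DerivedCategory.isIso_Q_map_iff_quasiIso]
    infer_instance
  have hc : smulCx s L = s • 𝟙 L := by
    ext i : 1
    exact (Category.comp_id _).symm
  have hTk : ∀ (G : F ⟶ P) (k : ℕ), DerivedCategory.Q.map (G ≫ T ≫ Pi.π I k) =
      DerivedCategory.Q.map (G ≫ Pi.π I k) - s • DerivedCategory.Q.map (G ≫ Pi.π I (k + 1)) := fun G k => by
    rw [show T ≫ Pi.π I k = Pi.π I k - Pi.π I (k + 1) ≫ smulCx s L from Pi.lift_π _ k, hc]
    simp [Preadditive.comp_sub, Linear.comp_smul, Functor.map_smul, Functor.map_sub, I]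
  have hzero : ∀ G : F ⟶ P, (∀ k, DerivedCategory.Q.map (G ≫ Pi.π I k) = 0) → DerivedCategory.Q.map G = 0 := by
    intro G hG
    let H := fun k => HomotopyCategory.homotopyOfEq (G ≫ Pi.π I k) 0
      ((CochainComplex.IsKInjective.Qh_map_bijective _ L).1 (by
        rw [Functor.map_zero, Functor.map_zero,
          ← cancel_mono ((DerivedCategory.quotientCompQhIso (ModSite.Mod O)).hom.app L), zero_comp]
        rw [DerivedCategory.quotientCompQhIso_hom_naturality, hG k, comp_zero]))
    let lim := fun j => isLimitFanMkObjOfIsLimit (HomologicalComplex.eval _ (ComplexShape.up ℤ) j) _ (Pi.π I) (productIsProduct I)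
    let Hh : Homotopy G 0 :=
      { hom := fun i j => Fan.IsLimit.lift (lim j) fun k => (H k).hom i j
        zero := fun i j hij => Fan.IsLimit.hom_ext (lim j) _ _ fun k => by
          rw [Fan.IsLimit.fac, zero_comp]
          exact (H k).zero i j hij
        comm := fun i => Fan.IsLimit.hom_ext (lim i) _ _ fun k => by
          change G.f i ≫ (Pi.π I k).f i = _ ≫ (Pi.π I k).f i
          rw [Preadditive.add_comp, Preadditive.add_comp, ← HomologicalComplex.comp_f, (H k).comm i,
            dNext_eq _ (show (ComplexShape.up ℤ).Rel i (i + 1) by simp),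
            prevD_eq _ (show (ComplexShape.up ℤ).Rel (i - 1) i by simp),
            dNext_eq _ (show (ComplexShape.up ℤ).Rel i (i + 1) by simp),
            prevD_eq _ (show (ComplexShape.up ℤ).Rel (i - 1) i by simp), Category.assoc, Category.assoc,
            ← (Pi.π I k).comm]
          congr 1
          · congr 1
            · exact congrArg (F.d i (i + 1) ≫ ·) (Fan.IsLimit.fac (lim i) (fun k => (H k).hom (i + 1) i) k).symm
            · refine Eq.trans ?_ (Category.assoc _ _ _)
              exact congrArg (· ≫ L.d (i - 1) i) (Fan.IsLimit.fac (lim (i - 1)) (fun k => (H k).hom i (i - 1)) k).symm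
          · simp }
    exact (DerivedCategory.Q_map_eq_of_homotopy _ Hh).trans (by simp)
  have hQ : ∀ φ : DerivedCategory.Q.obj F ⟶ DerivedCategory.Q.obj L, ∃ g : F ⟶ L, DerivedCategory.Q.map g = φ :=
    fun φ => by
      obtain ⟨g, hg⟩ := DCat.Amplitude.exists_Q_map_eq (CochainComplex.IsKInjective.Qh_map_bijective _ _) φ
      exact ⟨g, hg⟩
  constructor
  · refine (injective_iff_map_eq_zero (telMap _ s)).2 fun x hx => funext fun k => ?_
    choose g hg using fun k => hQ (x k)
    have h0 : DerivedCategory.Q.map (Pi.lift g : F ⟶ P) = 0 := by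
      have h1 : DerivedCategory.Q.map (Pi.lift g ≫ T : F ⟶ P) = 0 := hzero _ fun j => by
        rw [Category.assoc, hTk, Pi.lift_π, Pi.lift_π, hg, hg]
        exact congrFun hx j
      rw [← cancel_mono (DerivedCategory.Q.map T), ← Functor.map_comp, h1, zero_comp]
    rw [← hg k, ← Pi.lift_π (f := I) g k, Functor.map_comp, h0, zero_comp]
    rfl
  · intro y
    choose g hg using fun k => hQ (y k)
    obtain ⟨G, hG⟩ := DCat.Amplitude.exists_Q_map_eq (CochainComplex.IsKInjective.Qh_map_bijective _ _)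
      (DerivedCategory.Q.map (Pi.lift g : F ⟶ P) ≫ inv (DerivedCategory.Q.map T))
    refine ⟨fun k => DerivedCategory.Q.map (G ≫ Pi.π I k), funext fun k => ?_⟩
    have h1 : DerivedCategory.Q.map (G ≫ T) = DerivedCategory.Q.map (Pi.lift g : F ⟶ P) := by
      rw [Functor.map_comp, hG, Category.assoc]
      erw [IsIso.inv_hom_id, Category.comp_id]
    rw [telMap_apply, ← hTk, ← Category.assoc, Functor.map_comp, h1, ← Functor.map_comp, Pi.lift_π, hg]

/-- Maps into a complete object form complete groups. -/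
theorem isComplElt_hom (I : DerComp.IdealSh O) (s : DerComp.GSec O) (hs : ∀ U, s.1 U ∈ I.ideal U)
    (F W : DerivedCategory (ModSite.Mod O)) (hW : DerComp.IsDerComp O I W) : IsComplElt (F ⟶ W) s := by
  obtain ⟨L, hL, hLI, ⟨e⟩⟩ := exists_kInj_rep W
  have h := isComplElt_hom_Q s L hLI (fun U => (isDerComp_iff_secIdeal L hLI e I).1 hW U (hs U))
    (DerivedCategory.Q.objPreimage F)
  let eF := DerivedCategory.Q.objObjPreimageIso F
  exact (isComplElt_congr (f := s) (g := s)
    ({ toFun := fun z => eF.inv ≫ z ≫ e.inv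
       invFun := fun z => eF.hom ≫ z ≫ e.hom
       left_inv := fun z => by simp
       right_inv := fun z => by simp
       map_add' := fun a b => by simp } :
      (DerivedCategory.Q.obj (DerivedCategory.Q.objPreimage F) ⟶ DerivedCategory.Q.obj L) ≃+ (F ⟶ W))
    fun z => by simp [Linear.comp_smul, Linear.smul_comp]).1 h

end Complete

section Scheme

variable {X : Scheme.{u}}

/-- Shifts are additive (instance search needs the binder spelled out). -/
local instance shAddP : ∀ n : ℤ, (shiftFunctor (DerivedCategory (ModSite.Mod X.sheaf)) n).Additive :=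
  fun _ => inferInstance

local instance shAddPL : ∀ n : ℤ, (shiftFunctor (DerivedCategory (ModSite.Mod X.sheaf)) n).Linear (DerComp.GSec X.sheaf) :=
  fun _ => inferInstance

variable {A : Type u} [CommRing A] (f : X ⟶ Spec (CommRingCat.of A))

/-- Functions on the base as global sections. -/
def baseGSec : A →+* DerComp.GSec X.sheaf where
  toFun a := ⟨fun U => (X.presheaf.map (homOfLE (le_top : U ≤ ⊤)).op).hom
      (f.appTop.hom ((Scheme.ΓSpecIso (CommRingCat.of A)).inv.hom a)), fun U V g => by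
    show (X.presheaf.map g.op).hom ((X.presheaf.map _).hom _) = _
    rw [← CommRingCat.comp_apply, ← Functor.map_comp]
    rfl⟩
  map_one' := Subtype.ext (funext fun U => by simp)
  map_mul' a b := Subtype.ext (funext fun U => by simp)
  map_zero' := Subtype.ext (funext fun U => by simp)
  map_add' a b := Subtype.ext (funext fun U => by simp)

theorem smul_base [X.Over (Spec (CommRingCat.of A))] (a : A) {M N : DCoh.D X} (x : M ⟶ N) :
    a • x = baseGSec (X ↘ Spec (CommRingCat.of A)) a •
      (show @Quiver.Hom (DerivedCategory (ModSite.Mod X.sheaf)) _ M N from x) := by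
  let s := baseGSec (X ↘ Spec (CommRingCat.of A)) a
  obtain ⟨K, ⟨e⟩⟩ : ∃ K : CochainComplex X.Modules ℤ, Nonempty (DerivedCategory.Q.obj K ≅ M) :=
    ⟨_, ⟨DerivedCategory.Q.objObjPreimageIso M⟩⟩
  let K' : CochainComplex (ModSite.Mod X.sheaf) ℤ := K
  have h1 : @Eq (K' ⟶ K') (a • 𝟙 K : K ⟶ K) (s • 𝟙 K') := by
    ext i : 1
    apply SheafOfModules.hom_ext
    ext U m
    exact KLin.smul_app_apply a (𝟙 (K.X i)) U.unop m
  have h2 : @Eq (@Quiver.Hom (DerivedCategory (ModSite.Mod X.sheaf)) _ (DerivedCategory.Q.obj K') (DerivedCategory.Q.obj K'))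
      (a • 𝟙 (DerivedCategory.Q.obj K) : DerivedCategory.Q.obj K ⟶ DerivedCategory.Q.obj K)
      (s • 𝟙 (DerivedCategory.Q.obj K')) := by
    have e1 : (a • 𝟙 (DerivedCategory.Q.obj K) : _) = DerivedCategory.Q.map (a • 𝟙 K) := by
      rw [Functor.map_smul, CategoryTheory.Functor.map_id]
    have e2 : (s • 𝟙 (DerivedCategory.Q.obj K')) = DerivedCategory.Q.map (s • 𝟙 K') := by
      rw [Functor.map_smul, CategoryTheory.Functor.map_id]
    exact e1.trans ((congrArg (fun φ => DerivedCategory.Q.map φ) h1).trans e2.symm)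
  let M' : DerivedCategory (ModSite.Mod X.sheaf) := M
  let N' : DerivedCategory (ModSite.Mod X.sheaf) := N
  let eh : DerivedCategory.Q.obj K' ⟶ M' := e.hom
  let ei : M' ⟶ DerivedCategory.Q.obj K' := e.inv
  let x' : M' ⟶ N' := x
  have hie : ei ≫ eh = 𝟙 M' := e.inv_hom_id
  have h4 : a • x = e.inv ≫ (a • 𝟙 (DerivedCategory.Q.obj K)) ≫ e.hom ≫ x := by
    simp [Linear.smul_comp, Linear.comp_smul]
  have h5 : @Eq (M' ⟶ N') (ei ≫ (s • 𝟙 (DerivedCategory.Q.obj K')) ≫ eh ≫ x') (s • x') := by
    rw [Linear.smul_comp, Category.id_comp, Linear.comp_smul, ← Category.assoc, hie, Category.id_comp]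
  refine h4.trans (Eq.trans ?_ h5)
  exact congrArg (fun φ : DerivedCategory.Q.obj K' ⟶ DerivedCategory.Q.obj K' => ei ≫ φ ≫ eh ≫ x') h2

theorem isComplElt_of_finite [IsNoetherianRing A] (I : Ideal A) [IsAdicComplete I A] [IsProper f]
    (F G : DerivedCategory (ModSite.Mod X.sheaf)) (hF : DCoh.IsCohD (X := X) F) (hG : DCoh.IsCohD (X := X) G)
    (b c : ℤ) [hb : F.IsLE b] [hc : G.IsGE c] {a : A} (ha : a ∈ I) : IsComplElt (F ⟶ G) (baseGSec f a) := by
  letI : X.Over (Spec (CommRingCat.of A)) := ⟨f⟩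
  haveI : IsProper (X ↘ Spec (CommRingCat.of A)) := ‹IsProper f›
  have key : ∀ (P L : DCoh.D X), DCoh.IsCohD P → DCoh.IsCohD L → P.IsLE b → L.IsGE c →
      IsComplElt (@Quiver.Hom (DerivedCategory (ModSite.Mod X.sheaf)) _ P L) (baseGSec f a) := by
    intro P L hP hL _ _
    haveI : Module.Finite A (P ⟶ L) := Dual22Lib.HomFinite.finite_hom (A := A) P L b c hP hL
    haveI := AdicRing.isAdicComplete_of_finite (A := A) (I := I) (P ⟶ L)
    exact (isComplElt_congr (f := a) (g := baseGSec f a) (M := P ⟶ L)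
      (N := @Quiver.Hom (DerivedCategory (ModSite.Mod X.sheaf)) _ P L) (AddEquiv.refl _) fun z => smul_base a z).1
      (isComplElt_of_adic I ha)
  exact key F G hF hG hb hc

theorem isCohD_shift [IsLocallyNoetherian X] (G : DerivedCategory (ModSite.Mod X.sheaf)) (hG : DCoh.IsCohD (X := X) G) (n : ℤ) :
    DCoh.IsCohD (X := X) (G⟦n⟧) := fun i =>
  Coherent.isCoh_iso (((DerivedCategory.homologyFunctor X.Modules 0).shiftIso n i (n + i) rfl).app G).symm (hG (n + i))

/-- Derived completion is fully faithful from coherent bounded above to coherent bounded below objects. -/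
theorem derCompletion_map_bijective [IsNoetherianRing A] (I : Ideal A) [IsAdicComplete I A] [IsProper f]
    (𝓙 : DerComp.IdealSh X.sheaf) (h1 : ∀ a ∈ I, ∀ U, (baseGSec f a).1 U ∈ 𝓙.ideal U)
    (h2 : ∀ 𝓙' : DerComp.IdealSh X.sheaf, (∀ a ∈ I, ∀ U, (baseGSec f a).1 U ∈ 𝓙'.ideal U) → 𝓙 ≤ 𝓙')
    [DerComp.HasDerCompletion X.sheaf 𝓙] (F G : DerivedCategory (ModSite.Mod X.sheaf))
    (hF : DCoh.IsCohD (X := X) F) (hG : DCoh.IsCohD (X := X) G) (b c : ℤ) [F.IsLE b] [G.IsGE c] :
    Function.Bijective (fun ψ : F ⟶ G => (DerComp.derCompletion X.sheaf 𝓙).map ψ) := by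
  let η := DerComp.toDerCompletion 𝓙 G
  haveI : IsLocallyNoetherian X := LocallyOfFiniteType.isLocallyNoetherian f
  obtain ⟨Z, g, d, hT⟩ := distinguished_cocone_triangle η
  let I' := I.map (baseGSec f)
  have hmem : ∀ s ∈ I', ∀ U, s.1 U ∈ 𝓙.ideal U := by
    intro s hs
    refine Submodule.span_induction (p := fun x _ => ∀ U, x.1 U ∈ 𝓙.ideal U) ?_ ?_ ?_ ?_ hs
    · rintro _ ⟨a, ha, rfl⟩
      exact h1 a ha
    · exact fun U => (𝓙.ideal U).zero_mem
    · exact fun x y _ _ hx hy U => (𝓙.ideal U).add_mem (hx U) (hy U)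
    · exact fun r x _ hx U => (𝓙.ideal U).mul_mem_left _ (hx U)
  have hgen : 𝓙.IsGenBy (fun a : I' => (a : DerComp.GSec X.sheaf)) :=
    ⟨fun a U => hmem a.1 a.2 U, fun 𝓙' h' => h2 𝓙' fun a ha U => h' ⟨baseGSec f a, Ideal.mem_map_of_mem _ ha⟩ U⟩
  obtain ⟨r, a, ha⟩ := Submodule.fg_iff_exists_fin_generating_family.1 (IsNoetherian.noetherian I)
  have ha' : Submodule.span _ (Set.range fun j => baseGSec f (a j)) = I' := by
    show Ideal.span _ = I.map _
    rw [← ha, show Submodule.span A (Set.range a) = Ideal.span (Set.range a) from rfl, Ideal.map_span, ← Set.range_comp]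
    rfl
  have hk := killed_cone I' 𝓙 hgen G (fun j => baseGSec f (a j)) ha' hT
  have haI : ∀ j, a j ∈ I := fun j => ha ▸ Submodule.subset_span ⟨j, rfl⟩
  have hG' : ∀ (j : Fin r) (n : ℤ), IsComplElt (F ⟶ G⟦n⟧) (baseGSec f (a j)) := fun j n => by
    haveI : (G⟦n⟧).IsGE (c - n) := DerivedCategory.TStructure.t.isGE_shift G c n (c - n) (by omega)
    exact isComplElt_of_finite f I F (G⟦n⟧) hF (isCohD_shift G hG n) b (c - n) (haI j)
  have hC : ∀ (j : Fin r) (n : ℤ), IsComplElt (F ⟶ ((DerComp.derCompletion X.sheaf 𝓙).obj G).obj⟦n⟧) (baseGSec f (a j)) :=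
    fun j n => isComplElt_hom 𝓙 _ (h1 _ (haI j)) F _
      (isDerComp_shift 𝓙 ((DerComp.derCompletion X.sheaf 𝓙).obj G).property n)
  have hZ : ∀ n : ℤ, Subsingleton (F ⟶ Z⟦n⟧) := subsingleton_of_killed _ hk fun q hq n => by
    obtain ⟨j, rfl⟩ := List.mem_ofFn.1 hq
    exact isComplElt_obj₃ _ _ (Triangle.shift_distinguished _ hT n)
      (isComplElt_iso _ ((shiftFunctorAdd _ n 1).app G) (hG' j (n + 1))) (hC j n) (hG' j n)
      (isComplElt_iso _ ((shiftFunctorAdd _ n 1).app _) (hC j (n + 1)))
  have hb : Function.Bijective fun ψ : F ⟶ G => ψ ≫ η := by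
    refine ⟨fun y y' e => ?_, fun x => ?_⟩
    · obtain ⟨z, hz⟩ := Triangle.coyoneda_exact₂ _ (inv_rot_of_distTriang _ hT) (y - y') (by
        change (y - y') ≫ η = 0
        rw [Preadditive.sub_comp, show y ≫ η = y' ≫ η from e, sub_self])
      rw [← sub_eq_zero, hz, show z = 0 from (hZ (-1)).elim _ _, zero_comp]
    · haveI := hZ 0
      haveI : Subsingleton (F ⟶ Z) :=
        (((shiftFunctorZero (DerivedCategory (ModSite.Mod X.sheaf)) ℤ).app Z).homToEquiv (Z := F)).symm.subsingleton
      obtain ⟨y, hy⟩ := Triangle.coyoneda_exact₂ _ hT x (Subsingleton.elim (α := F ⟶ Z) _ _)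
      exact ⟨y, hy.symm⟩
  let adj := DerComp.derCompletionAdj X.sheaf 𝓙
  have key : (fun ψ : F ⟶ G => ψ ≫ η) = adj.homEquiv F ((DerComp.derCompletion X.sheaf 𝓙).obj G) ∘
      (fun ψ : F ⟶ G => (DerComp.derCompletion X.sheaf 𝓙).map ψ) := by
    funext ψ
    exact (adj.unit.naturality ψ).trans (adj.homEquiv_unit (f := (DerComp.derCompletion X.sheaf 𝓙).map ψ)).symm
  rw [key] at hb
  exact (Function.Bijective.of_comp_iff' (adj.homEquiv _ _).bijective _).1 hb

end Scheme

end Groth.Agent.RGamT
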