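import Groth.Agent.RGamT.Sums
import Groth.Agent.QCT3.Adjoint
import Groth.Agent.SiteDer16.RpushRlim
import Groth.Agent.Dual22Lib.AdjBrown

/-!
# `RΓ'` on `D̃_qc` is a left adjoint
-/

set_option autoImplicit false
set_option backward.isDefEq.respectTransparency false
set_option backward.defeqAttrib.useBackward true
set_option linter.style.haveILetI false
set_option linter.unusedSectionVars false
set_option maxHeartbeats 1000000

universe u

open CategoryTheory CategoryTheory.Limits

attribute [local instance] HasDerivedCategory.standard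

noncomputable section

namespace Groth.Agent.RGamT

section Generic

variable {C : Type u} [SmallCategory C] {J₀ : GrothendieckTopology C} {O : Sheaf J₀ CommRingCat.{u}}

theorem exists_commShift_rgamma (I : FTors.IdealFam O) [FTors.HasRgamma I] :
    ∃ (_ : (FTors.Rgamma I).CommShift ℤ), (FTors.Rgamma I).IsTriangulated :=
  SiteDer16.exists_commShift_rf_map (SiteDer16.enoughKInj_sheafOfModules _) (FTors.gamma O I)

theorem isLeftAdjoint_rgamma (I : FTors.IdealFam O) [FTors.HasRgamma I]
    [∀ J : Type u, PreservesColimitsOfShape (Discrete J) (FTors.Rgamma I)] : (FTors.Rgamma I).IsLeftAdjoint := by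
  obtain ⟨_, _⟩ := exists_commShift_rgamma I
  exact Dual22Lib.isLeftAdjoint_standard _

/-- The lift of `RΓ` to preimages is a left adjoint. -/
theorem isLeftAdjoint_lift (I : FTors.IdealFam O) [FTors.HasRgamma I] [(FTors.IsTors I).IsClosedUnderIsomorphisms]
    (hyp : Hyp I) [(FTors.Rgamma I).IsLeftAdjoint] (P : ObjectProperty (DerivedCategory (ModSite.Mod O)))
    [P.IsClosedUnderIsomorphisms] (hP : ∀ G, P G → FTors.IsDTors I G) :
    (P.lift (ObjectProperty.ι (fun E => P ((FTors.Rgamma I).obj E)) ⋙ FTors.Rgamma I) fun E => E.property).IsLeftAdjoint := by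
  let adj := Adjunction.ofIsLeftAdjoint (FTors.Rgamma I)
  have hmem : ∀ G : P.FullSubcategory, P ((FTors.Rgamma I).obj ((FTors.Rgamma I).rightAdjoint.obj G.obj)) := fun G => by
    obtain ⟨e⟩ := exists_iso_rgamma_rightAdjoint I hyp adj G.obj
    haveI := isIso_ε I hyp G.obj (hP _ G.property)
    exact P.prop_of_iso (e ≪≫ asIso ((FTors.Rgammaε I).app G.obj)).symm G.property
  let R : P.FullSubcategory ⥤ ObjectProperty.FullSubcategory (fun E => P ((FTors.Rgamma I).obj E)) :=
    ObjectProperty.lift (fun E => P ((FTors.Rgamma I).obj E)) (P.ι ⋙ (FTors.Rgamma I).rightAdjoint) hmem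
  exact (adj.restrictFullyFaithful (C := ObjectProperty.FullSubcategory (fun E => P ((FTors.Rgamma I).obj E)))
    (D := P.FullSubcategory) (ObjectProperty.fullyFaithfulι _) (ObjectProperty.fullyFaithfulι _)
    (L := P.lift (ObjectProperty.ι (fun E => P ((FTors.Rgamma I).obj E)) ⋙ FTors.Rgamma I) fun E => E.property) (R := R)
    (Iso.refl _) (Iso.refl _)).isLeftAdjoint

end Generic

end Groth.Agent.RGamT
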