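import Groth.Agent.RGamT.Inj
import Groth.Agent.FModLib.Scheme
import Mathlib.RingTheory.Flat.EquationalCriterion
import Mathlib.AlgebraicGeometry.Morphisms.Flat
import Mathlib.Algebra.Category.ModuleCat.ChangeOfRings

/-!
# Schemes have good rings on affine opens; division in flat tensor products
-/

set_option autoImplicit false
set_option backward.isDefEq.respectTransparency false
set_option linter.style.haveILetI false
set_option linter.unusedSectionVars false
set_option maxHeartbeats 1000000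

universe u

open CategoryTheory CategoryTheory.Limits AlgebraicGeometry Opposite TopologicalSpace TensorProduct
open Groth.Agent.DerCompLib Groth.Agent.FModLib

noncomputable section

namespace Groth.Agent.RGamT

/-- Affine opens of a locally Noetherian scheme form a good basis. -/
theorem goodRing_scheme (X : Scheme.{u}) [IsLocallyNoetherian X] :
    GoodRing (T := X.toTopCat) X.sheaf (fun U : X.Opens => IsAffineOpen U) where
  basis U x hx := by
    obtain ⟨V, hV, hxV, hVU⟩ := exists_isAffineOpen_mem_and_subset hx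
    exact ⟨V, hV, hxV, hVU⟩
  noeth U hU := IsLocallyNoetherian.component_noetherian (X := X) ⟨U, hU⟩
  flat U V i hU hV q f a ha := by
    let φ : Γ(X, U) →+* Γ(X, V) := (X.presheaf.map (homOfLE i).op).hom
    have hfl : φ.Flat := by
      have h1 := Flat.flat_appLE (𝟙 X) hU hV (show V ≤ (𝟙 X) ⁻¹ᵁ U from i)
      have e : Scheme.Hom.appLE (𝟙 X) U V (show V ≤ (𝟙 X) ⁻¹ᵁ U from i) = X.presheaf.map (homOfLE i).op := by
        rw [Scheme.Hom.appLE, Scheme.Hom.id_app, Category.id_comp]
      rwa [e] at h1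
    letI := φ.toAlgebra
    haveI : Module.Flat Γ(X, U) Γ(X, V) := hfl
    let f' : Fin q → Γ(X, U) := f
    let a' : Fin q → Γ(X, V) := a
    have hrel : ∑ j, f' j • a' j = 0 := by
      refine Eq.trans (Finset.sum_congr rfl fun j _ => ?_) ha
      exact mul_comm _ _
    obtain ⟨k, c, y, hy, hc⟩ := Module.Flat.isTrivialRelation_of_sum_smul_eq_zero (R := Γ(X, U)) (M := Γ(X, V)) (f := f') (x := a') hrel
    let y' : Fin k → X.sheaf.obj.obj (op V) := y
    have ea : a = ∑ l, y' l • (oRes (O := X.sheaf) i ∘ fun j => c j l) := funext fun j => by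
      rw [Finset.sum_apply]
      refine (hy j).trans ?_
      exact Finset.sum_congr rfl fun l _ => mul_comm _ _
    rw [ea]
    refine sum_mem fun l _ => Submodule.smul_mem _ _ (Submodule.subset_span ⟨fun j => c j l, ?_, rfl⟩)
    refine mem_relsOf.2 (Eq.trans (Finset.sum_congr rfl fun j _ => ?_) (hc l))
    exact mul_comm _ _
  cover U hU 𝔞 h𝔞 := by
    by_contra hne
    obtain ⟨m, hm, hle⟩ := 𝔞.exists_le_maximal hne
    let x : X := hU.fromSpec ⟨m, hm.isPrime⟩
    have hxU : x ∈ U := by
      have : x ∈ hU.fromSpec.opensRange := ⟨_, rfl⟩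
      rwa [hU.opensRange_fromSpec] at this
    obtain ⟨V, i, -, hxV, htop⟩ := h𝔞 x hxU
    let γ : Γ(X, U) →+* X.presheaf.stalk x := (X.presheaf.germ U x hxU).hom
    have h1 : 𝔞.map γ = ⊤ := by
      have e : γ = (X.presheaf.germ V x hxV).hom.comp (oRes (O := X.sheaf) i) := RingHom.ext fun r =>
        (TopCat.Presheaf.germ_res_apply X.presheaf (homOfLE i) x hxV r).symm
      rw [e, ← Ideal.map_map, htop, Ideal.map_top]
    have h2 : 𝔞.map γ ≤ IsLocalRing.maximalIdeal (X.presheaf.stalk x) := Ideal.map_le_iff_le_comap.2 fun a ha => by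
      have hp : (hU.primeIdealOf ⟨x, hxU⟩).asIdeal = m := by
        have : hU.primeIdealOf ⟨x, hxU⟩ = ⟨m, hm.isPrime⟩ :=
          hU.fromSpec.isOpenEmbedding.injective (hU.fromSpec_primeIdealOf ⟨x, hxU⟩)
        rw [this]
      show γ a ∈ IsLocalRing.maximalIdeal _
      by_contra hu
      rw [IsLocalRing.mem_maximalIdeal, mem_nonunits_iff, not_not] at hu
      have hb : x ∈ X.basicOpen a := (X.mem_basicOpen a x hxU).2 hu
      rw [← SetLike.mem_coe, ← hU.fromSpec_image_basicOpen] at hb
      obtain ⟨z, hz, ez⟩ := hb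
      obtain rfl := hU.fromSpec.isOpenEmbedding.injective ez
      exact hz (hle ha)
    rw [h1] at h2
    exact (IsLocalRing.maximalIdeal.isMaximal _).ne_top (top_le_iff.1 h2)

section Tensor

variable {R R' : Type u} [CommRing R] [CommRing R'] [Algebra R R'] [Module.Flat R R']
  {M : Type u} [AddCommGroup M] [Module R M]

/-- Killed elements of a flat base change come from killed elements. -/
theorem killed_tensor {k : ℕ} (g : Fin k → R) (x : R' ⊗[R] M) (hx : ∀ i, g i • x = 0) :
    x ∈ LinearMap.range (LinearMap.lTensor R' (⨅ i, LinearMap.ker (LinearMap.lsmul R M (g i))).subtype) := by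
  let φ : M →ₗ[R] (Fin k → M) := LinearMap.pi fun i => LinearMap.lsmul R M (g i)
  have hk : (⨅ i, LinearMap.ker (LinearMap.lsmul R M (g i))) = LinearMap.ker φ := (LinearMap.ker_pi _).symm
  rw [hk]
  refine (Module.Flat.lTensor_exact R' (LinearMap.exact_subtype_ker_map φ) x).1 ?_
  refine (TensorProduct.piRight R R R' fun _ : Fin k => M).injective ?_
  rw [map_zero]
  funext i
  refine Eq.trans ?_ (hx i)
  clear hx
  induction x using TensorProduct.induction_on with
  | zero => simp
  | tmul r y => simp [φ]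
  | add a b ha hb => simp only [map_add, Pi.add_apply, ha, hb, smul_add]

theorem divide_tensor {k : ℕ} (g : Fin k → R) (f : R) (n : ℕ)
    (hM : ∀ y : M, (∀ i, g i • y = 0) → ∃ (u : M) (m : ℕ), (∀ i, g i • u = 0) ∧ f ^ m • (f ^ n • u - y) = 0)
    (x : R' ⊗[R] M) (hx : ∀ i, g i • x = 0) :
    ∃ (u : R' ⊗[R] M) (m : ℕ), (∀ i, g i • u = 0) ∧ f ^ m • (f ^ n • u - x) = 0 := by
  obtain ⟨t, rfl⟩ := killed_tensor g x hx
  clear hx
  induction t using TensorProduct.induction_on with
  | zero => exact ⟨0, 0, fun i => smul_zero _, by simp⟩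
  | tmul r y =>
    obtain ⟨u, m, hu, hm⟩ := hM y.1 fun i => (Submodule.mem_iInf _).1 y.2 i
    refine ⟨r ⊗ₜ u, m, fun i => ?_, ?_⟩
    · rw [← TensorProduct.tmul_smul, hu i, TensorProduct.tmul_zero]
    · simp only [LinearMap.lTensor_tmul, Submodule.subtype_apply, ← TensorProduct.tmul_smul,
        ← TensorProduct.tmul_sub, hm, TensorProduct.tmul_zero]
  | add a b ha hb =>
    obtain ⟨u, m, hu, hm⟩ := ha
    obtain ⟨u', m', hu', hm'⟩ := hb
    refine ⟨u + u', m + m', fun i => by rw [smul_add, hu i, hu' i, add_zero], ?_⟩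
    rw [map_add, smul_add, add_sub_add_comm, smul_add, pow_add, mul_smul (f ^ m) (f ^ m'), mul_smul (f ^ m) (f ^ m'),
      hm', smul_zero, add_zero, smul_comm, hm, smul_zero]

end Tensor

section Extend

variable {R R' : Type u} [CommRing R] [CommRing R'] (φ : R →+* R') (hφ : φ.Flat)

theorem smul_extend (M : ModuleCat.{u} R) (r : R) (x : (ModuleCat.extendScalars φ).obj M) :
    letI := φ.toAlgebra
    φ r • x = (show (ModuleCat.extendScalars φ).obj M from r • (show R' ⊗[R] M from x)) := by
  letI := φ.toAlgebra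
  change R' ⊗[R] M at x
  show φ r • (show (ModuleCat.extendScalars φ).obj M from x) = _
  induction x using TensorProduct.induction_on with
  | zero => exact (smul_zero (A := (ModuleCat.extendScalars φ).obj M) (φ r)).trans (smul_zero (A := R' ⊗[R] M) r).symm
  | tmul s y => rfl
  | add a b ha hb =>
    exact (smul_add (φ r) (show (ModuleCat.extendScalars φ).obj M from a) b).trans
      ((congrArg₂ (· + ·) ha hb).trans (smul_add r a b).symm)

include hφ in
theorem divide_extend (M : ModuleCat.{u} R) {k : ℕ} (g : Fin k → R) (f : R) (n : ℕ)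
    (hM : ∀ y : M, (∀ i, g i • y = 0) → ∃ (u : M) (m : ℕ), (∀ i, g i • u = 0) ∧ f ^ m • (f ^ n • u - y) = 0)
    (x : (ModuleCat.extendScalars φ).obj M) (hx : ∀ i, φ (g i) • x = 0) :
    ∃ (u : (ModuleCat.extendScalars φ).obj M) (m : ℕ), (∀ i, φ (g i) • u = 0) ∧ φ f ^ m • (φ f ^ n • u - x) = 0 := by
  letI := φ.toAlgebra
  haveI : Module.Flat R R' := hφ
  obtain ⟨u, m, hu, hm⟩ := divide_tensor g f n hM (show R' ⊗[R] M from x) fun i =>
    (smul_extend φ M (g i) x).symm.trans (hx i)
  refine ⟨u, m, fun i => (smul_extend φ M (g i) u).trans (hu i), ?_⟩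
  rw [← map_pow, ← map_pow]
  refine Eq.trans ?_ hm
  refine (smul_extend φ M _ _).trans (congrArg (f ^ m • ·) ?_)
  exact congrArg (· - (show R' ⊗[R] M from x)) (smul_extend φ M _ u)

include hφ in
theorem killed_extend {K M : ModuleCat.{u} R} (ι : K ⟶ M) {k : ℕ} (g : Fin k → R)
    (hK : ∀ y : M, (∀ i, g i • y = 0) → ∃ w, ι w = y)
    (x : (ModuleCat.extendScalars φ).obj M) (hx : ∀ i, φ (g i) • x = 0) :
    ∃ t, (ModuleCat.extendScalars φ).map ι t = x := by
  letI := φ.toAlgebra
  haveI : Module.Flat R R' := hφ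
  obtain ⟨t, ht⟩ := killed_tensor g (show R' ⊗[R] M from x) fun i => (smul_extend φ M (g i) x).symm.trans (hx i)
  subst ht
  clear hx
  induction t using TensorProduct.induction_on with
  | zero => exact ⟨0, by rw [map_zero]; exact (map_zero _).symm⟩
  | tmul r y =>
    obtain ⟨w, hw⟩ := hK y.1 fun i => (Submodule.mem_iInf _).1 y.2 i
    exact ⟨(show (ModuleCat.extendScalars φ).obj K from (r ⊗ₜ[R] w : R' ⊗[R] K)),
      congrArg (fun z => (r ⊗ₜ[R] z : R' ⊗[R] M)) hw⟩
  | add a b ha hb =>
    obtain ⟨s, hs⟩ := ha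
    obtain ⟨t, ht⟩ := hb
    exact ⟨s + t, (map_add _ _ _).trans ((congrArg₂ (· + ·) hs ht).trans (map_add _ a b).symm)⟩

end Extend

end Groth.Agent.RGamT
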