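import Groth.Agent.RGamT.SchAd
import Groth.Agent.RGamT.CompUnit
import Groth.Agent.RSpace.Pull
import Groth.Agent.RSpace.FlatBasis

/-!
# Division and torsion in inverse images to a completion
-/

set_option autoImplicit false
set_option backward.isDefEq.respectTransparency false
set_option linter.style.haveILetI false
set_option linter.unusedSectionVars false
set_option maxHeartbeats 1000000

universe u

open CategoryTheory CategoryTheory.Limits AlgebraicGeometry Opposite TopologicalSpace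
open Groth.Agent.DerCompLib Groth.Agent.FModLib

noncomputable section

namespace Groth.Agent.RGamT

section Germ

variable {T : TopCat.{u}} {O : Sheaf (Opens.grothendieckTopology T) CommRingCat.{u}} {z : T}

/-- The germ of a section. -/
abbrev gm (M : ModSite.Mod O) {U : Opens T} (hz : z ∈ U) (x : DerCompLib.Sec M U) : (RSpace.stalkF O z).obj M :=
  RSpace.germP z M.val U hz x

/-- The germ of a function. -/
abbrev og (O : Sheaf (Opens.grothendieckTopology T) CommRingCat.{u}) {U : Opens T} (hz : z ∈ U)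
    (a : O.obj.obj (op U)) : RSpace.stk O z :=
  TopCat.Presheaf.germ O.obj U z hz a

theorem og_res {U V : Opens T} (i : V ≤ U) (hz : z ∈ V) (a : O.obj.obj (op U)) :
    og O hz (oRes O i a) = og O (i hz) a :=
  TopCat.Presheaf.germ_res_apply O.obj (homOfLE i) z hz a

theorem gm_smul {M : ModSite.Mod O} {U : Opens T} (hz : z ∈ U) (a : O.obj.obj (op U)) (x : DerCompLib.Sec M U) :
    gm M hz (a • x) = og O hz a • gm M hz x :=
  RSpace.germP_smul M.val U hz a x

theorem gm_res {M : ModSite.Mod O} {U V : Opens T} (i : V ≤ U) (hz : z ∈ V) (x : DerCompLib.Sec M U) :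
    gm M hz (mRes M i x) = gm M (i hz) x :=
  RSpace.germP_res M.val (homOfLE i) hz x

theorem og_pow {U : Opens T} (hz : z ∈ U) (a : O.obj.obj (op U)) (n : ℕ) : og O hz (a ^ n) = og O hz a ^ n :=
  map_pow (TopCat.Presheaf.germ O.obj U z hz).hom a n

theorem gm_map {M N : ModSite.Mod O} (φ : M ⟶ N) {U : Opens T} (hz : z ∈ U) (x : DerCompLib.Sec M U) :
    (RSpace.stalkF O z).map φ (gm M hz x) = gm N hz (secMap φ U x) :=
  RSpace.stalkP_map_germP φ.val U hz x

theorem gm_zero (M : ModSite.Mod O) {U : Opens T} (hz : z ∈ U) : gm M hz (0 : DerCompLib.Sec M U) = 0 :=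
  RSpace.germP_zero M.val U hz

theorem gm_sub {M : ModSite.Mod O} {U : Opens T} (hz : z ∈ U) (x y : DerCompLib.Sec M U) :
    gm M hz (x - y) = gm M hz x - gm M hz y := by
  rw [eq_sub_iff_add_eq]
  exact (RSpace.germP_add M.val U hz _ _).symm.trans (congrArg (gm M hz) (sub_add_cancel x y))

theorem exists_gm {M : ModSite.Mod O} (y : (RSpace.stalkF O z).obj M) :
    ∃ (U : Opens T) (hz : z ∈ U) (x : DerCompLib.Sec M U), gm M hz x = y :=
  RSpace.exists_germP_eq M.val y

theorem exists_gm_eq_zero {M : ModSite.Mod O} {U : Opens T} (hz : z ∈ U) (x : DerCompLib.Sec M U)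
    (hx : gm M hz x = 0) : ∃ (V : Opens T) (i : V ≤ U), z ∈ V ∧ mRes M i x = 0 := by
  obtain ⟨V, hzV, i, j, e⟩ := RSpace.germP_eq_iff M.val hz hz x (0 : DerCompLib.Sec M U)
    (hx.trans (gm_zero M hz).symm)
  exact ⟨V, i.le, hzV, e.trans (map_zero (mRes M j.le))⟩

/-- Finitely many vanishing germs vanish on one basic neighbourhood. -/
theorem exists_forall_res_eq_zero {M : ModSite.Mod O} {P : Opens T → Prop}
    (hP : ∀ (U : Opens T) (x : T), x ∈ U → ∃ V, P V ∧ x ∈ V ∧ V ≤ U) {U : Opens T} (hz : z ∈ U)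
    {ι : Type*} [Finite ι] (x : ι → DerCompLib.Sec M U) (hx : ∀ i, gm M hz (x i) = 0) :
    ∃ (V : Opens T) (i : V ≤ U), P V ∧ z ∈ V ∧ ∀ j, mRes M i (x j) = 0 := by
  classical
  haveI := Fintype.ofFinite ι
  choose V i hzV hV using fun j => exists_gm_eq_zero hz (x j) (hx j)
  have hz' : z ∈ U ⊓ Finset.univ.inf V :=
    ⟨hz, Finset.inf_induction (p := fun W : Opens T => z ∈ W) trivial (fun _ h₁ _ h₂ => ⟨h₁, h₂⟩) fun j _ => hzV j⟩
  obtain ⟨W, hW, hzW, hle⟩ := hP _ z hz'
  refine ⟨W, hle.trans inf_le_left, hW, hzW, fun j => ?_⟩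
  rw [← mRes_mRes (i j) (hle.trans (inf_le_right.trans (Finset.inf_le (Finset.mem_univ j)))), hV j, map_zero]

end Germ

variable {X : Scheme.{u}} [IsLocallyNoetherian X] {𝔛 : FSch.Sys.{u}} (p : ∀ n, 𝔛.X n ⟶ X)
  (hp : ∀ n, 𝔛.ι n ≫ p (n + 1) = p n) (h : 𝔛.IsFormal) (hci : ∀ n, IsClosedImmersion (p n))
  (𝓘 : X.IdealSheafData) (hker : ∀ n, (p n).ker = 𝓘 ^ (n + 1)) (hX : 𝔛.IsLocNoethFormal)

/-- The map of stalks. -/
abbrev stkMap (z : 𝔛.X 0) : RSpace.stk X.sheaf (p 0 z) ⟶ RSpace.stk (𝔛.Osh h) z :=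
  RSpace.stalkSharp (p 0).base (FSch.schSharp 𝔛 h p hp) z

theorem stkMap_og (z : 𝔛.X 0) {W : X.Opens} (hz : p 0 z ∈ W) (a : Γ(X, W)) :
    stkMap p hp h z (og X.sheaf hz a) = og (𝔛.Osh h) (U := tr₀ p W) hz (sharp p hp h W a) :=
  RSpace.stalkSharp_germ (p 0).base (FSch.schSharp 𝔛 h p hp) z W hz a

include hci hker in
theorem flat_stkMap (z : 𝔛.X 0) : (stkMap p hp h z).hom.Flat := by
  refine RSpace.flat_stalkSharp_of_basis (p 0).base (FSch.schSharp 𝔛 h p hp) (fun V => IsAffineOpen V)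
    (fun U s hs => ?_) (fun U t ht => ?_) (fun V hV => flat_sharp p hp h hci 𝓘 hker hV) z
  · obtain ⟨V, hV, hsV, hVU⟩ := exists_isAffineOpen_mem_and_subset hs
    exact ⟨V, hV, hsV, hVU⟩
  · obtain ⟨_, ⟨V, hV, rfl⟩, htV, hVU⟩ := basis_tr₀ p hci U t ht
    exact ⟨V, hV, htV, hVU⟩

/-- The stalk of an inverse image. -/
def pullStalk (z : 𝔛.X 0) (N : ModSite.Mod X.sheaf) :
    (RSpace.stalkF (𝔛.Osh h) z).obj ((μ p hp h).pull.obj N) ≅
      (ModuleCat.extendScalars (stkMap p hp h z).hom).obj ((RSpace.stalkF X.sheaf (p 0 z)).obj N) :=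
  (RSpace.pullStalkIso (p 0).base (FSch.schSharp 𝔛 h p hp) z).app N

theorem pullStalk_naturality (z : 𝔛.X 0) {N N' : ModSite.Mod X.sheaf} (q : N ⟶ N')
    (t : (RSpace.stalkF (𝔛.Osh h) z).obj ((μ p hp h).pull.obj N)) :
    (pullStalk p hp h z N').hom ((RSpace.stalkF (𝔛.Osh h) z).map ((μ p hp h).pull.map q) t) =
      (ModuleCat.extendScalars (stkMap p hp h z).hom).map ((RSpace.stalkF X.sheaf (p 0 z)).map q)
        ((pullStalk p hp h z N).hom t) :=
  ConcreteCategory.congr_hom ((RSpace.pullStalkIso (p 0).base (FSch.schSharp 𝔛 h p hp) z).hom.naturality q) t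

/-- Local division of killed sections by elements coming from the scheme. -/
def AdS (M : FSch.ModF 𝔛 h) : Prop :=
  ∀ ⦃W : X.Opens⦄, IsAffineOpen W → ∀ (k : ℕ) (g : Fin k → Γ(X, W)) (f : Γ(X, W)) (n : ℕ)
    ⦃V : (𝔛.X 0).Opens⦄ (hV : V ≤ tr₀ p W) (x : DerCompLib.Sec M V),
    (∀ i, oRes (𝔛.Osh h) hV (sharp p hp h W (g i)) • x = 0) → ∀ z ∈ V,
    ∃ (V' : (𝔛.X 0).Opens) (l : V' ≤ V), AFF 𝔛 V' ∧ z ∈ V' ∧ ∃ (u : DerCompLib.Sec M V') (m : ℕ),
      (∀ i, oRes (𝔛.Osh h) (l.trans hV) (sharp p hp h W (g i)) • u = 0) ∧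
      oRes (𝔛.Osh h) (l.trans hV) (sharp p hp h W f) ^ m •
        (oRes (𝔛.Osh h) (l.trans hV) (sharp p hp h W f) ^ n • u - mRes M l x) = 0

include hci hker hX in
/-- Inverse images of injective modules divide locally. -/
theorem adS_pull (N : ModSite.Mod X.sheaf) [Injective N] : AdS p hp h ((μ p hp h).pull.obj N) := by
  intro W hW k g f n V hV x hx z hzV
  let M := (μ p hp h).pull.obj N
  let φ := (stkMap p hp h z).hom
  let e := pullStalk p hp h z N
  have hzW : p 0 z ∈ W := hV hzV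
  let gR : Fin k → RSpace.stk (T := X.toTopCat) X.sheaf (p 0 z) := fun i => og X.sheaf hzW (g i)
  let fR : RSpace.stk X.sheaf (p 0 z) := og X.sheaf hzW f
  have hφ : ∀ (a : Γ(X, W)) {U : (𝔛.X 0).Opens} (hU : U ≤ tr₀ p W) (hz : z ∈ U),
      φ (og X.sheaf hzW a) = og (𝔛.Osh h) hz (oRes (𝔛.Osh h) hU (sharp p hp h W a)) := fun a U hU hz =>
    (stkMap_og p hp h z hzW a).trans (og_res hU hz _).symm
  have hM : ∀ y : (RSpace.stalkF X.sheaf (p 0 z)).obj N, (∀ i, gR i • y = 0) →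
      ∃ (u : (RSpace.stalkF X.sheaf (p 0 z)).obj N) (m : ℕ), (∀ i, gR i • u = 0) ∧
        fR ^ m • (fR ^ n • u - y) = 0 := by
    intro y hy
    obtain ⟨U, hzU, s, rfl⟩ := exists_gm y
    let U₀ : X.Opens := U ⊓ W
    have hz₀ : p 0 z ∈ U₀ := ⟨hzU, hzW⟩
    obtain ⟨W', i, hW', hzW', hs⟩ := exists_forall_res_eq_zero (P := fun A : X.Opens => IsAffineOpen A)
      (goodRing_scheme X).basis hz₀
      (fun j => oRes X.sheaf (inf_le_right : U₀ ≤ W) (g j) • mRes N (inf_le_left : U₀ ≤ U) s) (fun j => by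
        rw [gm_smul, og_res, gm_res]
        exact hy j)
    replace hs : ∀ j, oRes X.sheaf (i.trans inf_le_right) (g j) • mRes N (i.trans inf_le_left) s = 0 := fun j =>
      (congrArg₂ (· • ·) (oRes_oRes inf_le_right i (g j)).symm (mRes_mRes inf_le_left i s).symm).trans
        ((mRes_smul i _ _).symm.trans (hs j))
    obtain ⟨u, m, hu, hm⟩ := exists_divide (goodRing_scheme X) hW'
      (fun j => oRes X.sheaf (i.trans inf_le_right) (g j)) (oRes X.sheaf (i.trans inf_le_right) f) n _ hs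
    refine ⟨gm N hzW' u, m, fun j => ?_, ?_⟩
    · have := congrArg (gm N hzW') (hu j)
      rwa [gm_smul, gm_zero, og_res] at this
    · have := congrArg (gm N hzW') hm
      rwa [gm_smul, gm_zero, gm_sub, gm_smul, gm_res, og_pow, og_pow, og_res] at this
  obtain ⟨u, m, hu, hm⟩ := divide_extend φ (flat_stkMap p hp h hci 𝓘 hker z) _ gR fR n hM
    (e.hom (gm M hzV x)) (fun i => by
      rw [← map_smul, hφ (g i) hV hzV, ← gm_smul, hx i, gm_zero, map_zero])
  obtain ⟨U, hzU, u', hu'⟩ := exists_gm (e.inv u)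
  have heu : e.hom (gm M hzU u') = u := by
    rw [hu']
    exact e.toLinearEquiv.apply_symm_apply u
  have hinj : ∀ t, e.hom t = 0 → t = 0 := fun t ht =>
    e.toLinearEquiv.injective (ht.trans (map_zero e.toLinearEquiv).symm)
  let V₀ : (𝔛.X 0).Opens := U ⊓ V
  have hz₀ : z ∈ V₀ := ⟨hzU, hzV⟩
  let hV₀ : V₀ ≤ tr₀ p W := inf_le_right.trans hV
  let c := oRes (𝔛.Osh h) hV₀ (sharp p hp h W f)
  let u₀ := mRes M (inf_le_left : V₀ ≤ U) u'
  let eqs : Option (Fin k) → DerCompLib.Sec M V₀ := fun o => o.elim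
    (c ^ m • (c ^ n • u₀ - mRes M (inf_le_right : V₀ ≤ V) x))
    fun i => oRes (𝔛.Osh h) hV₀ (sharp p hp h W (g i)) • u₀
  obtain ⟨V', l, hV', hzV', hl⟩ := exists_forall_res_eq_zero (P := AFF 𝔛) basis_AFF hz₀ eqs (fun o => by
    refine hinj _ ?_
    rcases o with _ | i
    · refine Eq.trans ?_ hm
      dsimp only [eqs, Option.elim, c, u₀]
      rw [gm_smul, gm_sub, gm_smul, gm_res, gm_res, og_pow, og_pow, ← hφ f hV₀ hz₀]
      simp only [map_smul, map_sub, heu]
      rfl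
    · refine Eq.trans ?_ (hu i)
      dsimp only [eqs, Option.elim, u₀]
      rw [gm_smul, gm_res, ← hφ (g i) hV₀ hz₀, map_smul, heu])
  refine ⟨V', l.trans inf_le_right, hV', hzV', mRes M (l.trans inf_le_left) u', m, fun i => ?_, ?_⟩
  · refine Eq.trans ?_ (hl (some i))
    show _ = mRes M l (oRes (𝔛.Osh h) hV₀ _ • mRes M (inf_le_left : V₀ ≤ U) u')
    rw [mRes_smul]
    exact congrArg₂ (· • ·) (oRes_oRes hV₀ l _).symm (mRes_mRes _ l u').symm
  · refine Eq.trans ?_ (hl none)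
    show _ = mRes M l (c ^ m • (c ^ n • u₀ - mRes M (inf_le_right : V₀ ≤ V) x))
    rw [mRes_smul, map_sub, mRes_smul, map_pow, map_pow]
    refine congrArg₂ (fun c v => c ^ m • v) (oRes_oRes hV₀ l _).symm ?_
    exact congrArg₂ (· - ·) (congrArg₂ (fun c v => c ^ n • v) (oRes_oRes hV₀ l _).symm (mRes_mRes _ l u').symm)
      (mRes_mRes _ l x).symm

include hci hX in
/-- Injective modules divide locally. -/
theorem adS_of_injective (M : FSch.ModF 𝔛 h) [Injective M] : AdS p hp h M := by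
  intro W hW k g f n V hV x hx z hzV
  obtain ⟨V', hV', hzV', l⟩ := basis_AFF (𝔛 := 𝔛) V z hzV
  obtain ⟨u, m, hu, hm⟩ := exists_divide (goodRing h hX) hV' (fun i => oRes (𝔛.Osh h) (l.trans hV) (sharp p hp h W (g i)))
    (oRes (𝔛.Osh h) (l.trans hV) (sharp p hp h W f)) n (mRes M l x) (fun i => by
      rw [← oRes_oRes hV l, ← mRes_smul, hx i, map_zero])
  exact ⟨V', l, hV', hzV', u, m, hu, hm⟩

include hci hker hX in
/-- Torsion sections of inverse images come from torsion sections. -/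
theorem exists_pull_gamma {N : ModSite.Mod X.sheaf} {V : (𝔛.X 0).Opens}
    (x : DerCompLib.Sec ((μ p hp h).pull.obj N) V)
    (hx : FTors.IsTorsSect (FTors.openIdealFam 𝔛 h) ((μ p hp h).pull.obj N) x) {z : 𝔛.X 0} (hz : z ∈ V) :
    ∃ (V' : (𝔛.X 0).Opens) (l : V' ≤ V), z ∈ V' ∧
      ∃ t, secMap ((μ p hp h).pull.map ((FTors.gammaι (FTors.powIdealFam X 𝓘)).app N)) V' t =
        mRes ((μ p hp h).pull.obj N) l x := by
  let M := (μ p hp h).pull.obj N
  let G := (FTors.gamma X.sheaf (FTors.powIdealFam X 𝓘)).obj N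
  let ι : G ⟶ N := (FTors.gammaι (FTors.powIdealFam X 𝓘)).app N
  let φ := (stkMap p hp h z).hom
  obtain ⟨V₁, j, ⟨n, hn⟩, hzV₁⟩ := hx z hz
  obtain ⟨_, ⟨W, hW, rfl⟩, hzW, hle⟩ := basis_tr₀ p hci V₁ z hzV₁
  haveI : IsNoetherianRing Γ(X, W) := IsLocallyNoetherian.component_noetherian ⟨W, hW⟩
  obtain ⟨q, b, hb⟩ := Submodule.fg_iff_exists_fin_generating_family.1
    (IsNoetherian.noetherian (𝓘.ideal ⟨W, hW⟩ ^ (n + 1)))
  let x' := mRes M (hle.trans j.le) x
  have hkill : ∀ i, sharp p hp h W (b i) • x' = 0 := fun i => by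
    have hbi : b i ∈ 𝓘.ideal ⟨W, hW⟩ ^ (n + 1) := hb ▸ Submodule.subset_span ⟨i, rfl⟩
    refine Eq.trans (congrArg (_ • ·) ?_)
      (hn (homOfLE hle) _ ((mem_ideal (isAffineOpen_tr₀ p hci hW) hX).2 (sharp_mem_jdl p hp h hci 𝓘 hker hW hbi hX)))
    exact ((FModLib.secRes_comp M j (homOfLE hle) x).trans
      (congrArg (fun l => secRes M l x) (Subsingleton.elim _ _))).symm
  obtain ⟨t, ht⟩ := killed_extend φ (flat_stkMap p hp h hci 𝓘 hker z) ((RSpace.stalkF X.sheaf (p 0 z)).map ι)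
    (fun i => og X.sheaf (U := W) hzW (b i)) (fun y hy => by
      obtain ⟨U, hzU, s, rfl⟩ := exists_gm y
      let U₀ : X.Opens := U ⊓ W
      have hz₀ : p 0 z ∈ U₀ := ⟨hzU, hzW⟩
      obtain ⟨W', i, hW', hzW', hs⟩ := exists_forall_res_eq_zero (P := fun A : X.Opens => IsAffineOpen A)
        (goodRing_scheme X).basis hz₀
        (fun l => oRes X.sheaf (inf_le_right : U₀ ≤ W) (b l) • mRes N (inf_le_left : U₀ ≤ U) s) (fun l => by
          rw [gm_smul, og_res, gm_res]
          exact hy l)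
      replace hs : ∀ j, oRes X.sheaf (i.trans inf_le_right) (b j) • mRes N (i.trans inf_le_left) s = 0 := fun j =>
        (congrArg₂ (· • ·) (oRes_oRes inf_le_right i (b j)).symm (mRes_mRes inf_le_left i s).symm).trans
          ((mRes_smul i _ _).symm.trans (hs j))
      let s' : DerCompLib.Sec N W' := mRes N (i.trans inf_le_left) s
      have hzero : ∀ c : Γ(X, W'), c ∈ (𝓘.ideal ⟨W', hW'⟩) ^ (n + 1) →
          (show X.sheaf.obj.obj (op W') from c) • s' = 0 := fun c hc => by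
        rw [← Scheme.IdealSheafData.map_ideal 𝓘 (U := ⟨W', hW'⟩) (V := ⟨W, hW⟩) (i.trans inf_le_right),
          ← Ideal.map_pow, ← hb] at hc
        refine Submodule.span_induction (p := fun (c : Γ(X, W')) _ => (show X.sheaf.obj.obj (op W') from c) • s' = 0) ?_ (zero_smul _ _)
          (fun a a' _ _ ha ha' => by rw [add_smul, ha, ha', add_zero])
          (fun r a _ ha => by rw [smul_eq_mul, mul_smul, ha, smul_zero]) hc
        rintro _ ⟨a, ha, rfl⟩
        refine Submodule.span_induction (p := fun (a : Γ(X, W)) _ =>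
          oRes X.sheaf (i.trans inf_le_right) (show X.sheaf.obj.obj (op W) from a) • s' = 0) ?_
          (by rw [map_zero, zero_smul]) (fun a a' _ _ ha ha' => by rw [map_add, add_smul, ha, ha', add_zero])
          (fun r a _ ha => by rw [smul_eq_mul, map_mul, mul_smul, ha, smul_zero]) ha
        rintro _ ⟨l, rfl⟩
        exact hs l
      have htors : FTors.IsTorsSect (FTors.powIdealFam X 𝓘) N s' :=
        FTors.IsTorsSect.of_killedBy (n := n + 1) fun A g a ha => sec_ext_basis (goodRing_scheme X).basis _ _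
          fun A' l hA' => by
            rw [map_zero, mRes_smul]
            have hA'W : A' ≤ W' := l.trans g.le
            have h1 := mem_powIdeal 𝓘 ha hA' l
            rw [← Scheme.IdealSheafData.map_ideal 𝓘 (U := ⟨A', hA'⟩) (V := ⟨W', hW'⟩) hA'W, ← Ideal.map_pow] at h1
            refine Eq.trans (congrArg (_ • ·) (mRes_mRes g.le l s')) ?_
            refine Submodule.span_induction (p := fun (c : Γ(X, A')) _ => (show X.sheaf.obj.obj (op A') from c) • mRes N hA'W s' = 0) ?_ (zero_smul _ _)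
              (fun a a' _ _ ha ha' => by rw [add_smul, ha, ha', add_zero])
              (fun r a _ ha => by rw [smul_eq_mul, mul_smul, ha, smul_zero]) h1
            rintro _ ⟨c, hc, rfl⟩
            exact (mRes_smul hA'W c s').symm.trans ((congrArg _ (hzero c hc)).trans (map_zero _))
      exact ⟨gm G hzW' (⟨s', htors⟩ : DerCompLib.Sec G W'),
        (gm_map ι hzW' _).trans (gm_res (i.trans inf_le_left) hzW' s)⟩)
    ((pullStalk p hp h z N).hom (gm M (U := tr₀ p W) hzW x')) (fun i => by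
      rw [stkMap_og p hp h z hzW (b i), ← map_smul, ← gm_smul, hkill i, gm_zero, map_zero])
  obtain ⟨U, hzU, t', ht'⟩ := exists_gm ((pullStalk p hp h z G).inv t)
  have h1 : gm M hzU (secMap ((μ p hp h).pull.map ι) U t') = gm M (U := tr₀ p W) hzW x' := by
    refine (pullStalk p hp h z N).toLinearEquiv.injective ?_
    rw [← gm_map]
    refine (pullStalk_naturality p hp h z ι _).trans (Eq.trans ?_ ht)
    rw [ht']
    exact congrArg _ ((pullStalk p hp h z G).toLinearEquiv.apply_symm_apply t)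
  obtain ⟨V', hzV', i₁, i₂, e⟩ := RSpace.germP_eq_iff M.val hzU hzW _ _ h1
  refine ⟨V', i₂.le.trans (hle.trans j.le), hzV', secRes ((μ p hp h).pull.obj G) i₁ t', ?_⟩
  rw [secMap_secRes']
  exact e.trans (mRes_mRes (hle.trans j.le) i₂.le x)

end Groth.Agent.RGamT
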