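import Groth.Agent.RGamT.Inj
import Groth.Agent.S17051
import Mathlib.Algebra.Homology.ShortComplex.HomologicalComplex

/-!
# Complexes of injective modules with torsion cohomology, locally
-/

set_option autoImplicit false
set_option backward.isDefEq.respectTransparency false
set_option linter.style.haveILetI false
set_option linter.unusedSectionVars false
set_option maxHeartbeats 1000000

universe u

open CategoryTheory CategoryTheory.Limits AlgebraicGeometry Opposite TopologicalSpace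
open Groth.Agent.DerCompLib Groth.Agent.FModLib

noncomputable section

namespace Groth.Agent.RGamT

variable {𝔛 : FSch.Sys.{u}} {h : 𝔛.IsFormal} (hX : 𝔛.IsLocNoethFormal)
  (K : CochainComplex (FSch.ModF 𝔛 h) ℤ)

/-- Sections of a degree of the complex. -/
abbrev KS (i : ℤ) (V : Opens (𝔛.X 0).carrier) : Type u := DerCompLib.Sec (K.X i) V

/-- The differential on sections. -/
abbrev dS (i j : ℤ) (V : Opens (𝔛.X 0).carrier) : KS K i V →ₗ[(𝔛.Osh h).obj.obj (op V)] KS K j V :=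
  secMap (K.d i j) V

theorem dS_dS (i j k : ℤ) (V : Opens (𝔛.X 0).carrier) (x : KS K i V) : dS K j k V (dS K i j V x) = 0 :=
  (congrArg (fun φ => secMap φ V x) (K.d_comp_d i j k) :)

theorem mem_ideal {V : Opens (𝔛.X 0).carrier} (hV : AFF 𝔛 V) {n : ℕ} {b : FBlowLib.Sec 𝔛 h V} (hX : 𝔛.IsLocNoethFormal) :
    b ∈ (FTors.openIdealFam 𝔛 h).ideal n V ↔ b ∈ jdl h V ^ (n + 1) := by
  rw [← ((sec_props h hX hV).2 n).2]
  rfl

include hX in
/-- A cocycle times a power of an element of the ideal of definition is locally a coboundary. -/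
theorem exists_pow_smul_eq_d (hT : ∀ i, FTors.IsTorsF 𝔛 h (K.homology i)) {p i j : ℤ} (hp : p + 1 = i)
    (hj : i + 1 = j) {V : Opens (𝔛.X 0).carrier} (g : FBlowLib.Sec 𝔛 h V) (hg : ∀ (V' : Opens (𝔛.X 0).carrier)
      (k : V' ≤ V), AFF 𝔛 V' → oRes (𝔛.Osh h) k g ∈ jdl h V')
    (s : KS K i V) (hs : dS K i j V s = 0) {y : (𝔛.X 0).carrier} (hy : y ∈ V) :
    ∃ (V' : Opens (𝔛.X 0).carrier) (k : V' ≤ V), AFF 𝔛 V' ∧ y ∈ V' ∧ ∃ (N : ℕ) (t : KS K p V'),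
      dS K p i V' t = oRes (𝔛.Osh h) k g ^ N • mRes (K.X i) k s := by
  have hjn : (ComplexShape.up ℤ).next i = j := (ComplexShape.up ℤ).next_eq' (by simpa using hj)
  have hpv : (ComplexShape.up ℤ).prev i = p := (ComplexShape.up ℤ).prev_eq' (by simpa using hp)
  obtain ⟨z₀, hz₀⟩ := exists_kernel_sec (K.d i j) V s hs
  let e := (K.cyclesIsKernel i j hjn).conePointUniqueUpToIso (kernelIsKernel (K.d i j))
  let z : DerCompLib.Sec (K.cycles i) V := secMap e.inv V z₀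
  have hz : secMap (K.iCycles i) V z = s := by
    refine Eq.trans ?_ hz₀
    exact congrArg (fun φ => secMap φ V z₀)
      (IsLimit.conePointUniqueUpToIso_inv_comp (K.cyclesIsKernel i j hjn) (kernelIsKernel (K.d i j))
        WalkingParallelPair.zero)
  obtain ⟨W, k, hW, hyW, n, hn⟩ := S17051.exists_killed h (hT i V (secMap (K.homologyπ i) V z)) hy
  let b := oRes (𝔛.Osh h) k g ^ (n + 1)
  have hb : b ∈ (FTors.openIdealFam 𝔛 h).ideal n W :=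
    (mem_ideal hW hX).2 (Ideal.pow_mem_pow (hg W k hW) (n + 1))
  have h0 := hn (𝟙 W) b hb
  rw [FTors.res_id] at h0
  have h1 : secMap (K.homologyπ i) W (b • mRes (K.cycles i) k z) = 0 := by
    rw [map_smul, secMap_mRes]
    exact h0
  let S : ShortComplex (FSch.ModF 𝔛 h) := ShortComplex.mk (K.toCycles p i) (K.homologyπ i) (K.toCycles_comp_homologyπ p i)
  have hS : S.Exact := ShortComplex.exact_of_g_is_cokernel S (K.homologyIsCokernel p i hpv)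
  obtain ⟨W', k', hyW', t, ht⟩ := S17051.exists_lift_near h hS (b • mRes (K.cycles i) k z) h1 hyW
  obtain ⟨V', hV', hyV', hV'W'⟩ := basis_AFF (𝔛 := 𝔛) W' y hyW'
  refine ⟨V', hV'W'.trans (k'.trans k), hV', hyV', n + 1, mRes (K.X p) hV'W' t, ?_⟩
  have h2 := congrArg (fun w => mRes (K.X i) hV'W' (secMap (K.iCycles i) W' w)) ht
  rw [secMap_mRes, map_smul, secMap_mRes, hz] at h2
  have h3 : secMap (K.iCycles i) W' (secMap (K.toCycles p i) W' t) = dS K p i W' t :=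
    congrArg (fun φ => secMap φ W' t) (K.toCycles_i p i)
  rw [show secMap S.f W' t = secMap (K.toCycles p i) W' t from rfl, h3, ← secMap_mRes] at h2
  refine h2.trans ?_
  simp only [mRes_smul, mRes_mRes, b, map_pow, oRes_oRes]

variable {W₀ : Opens (𝔛.X 0).carrier} (f : ℕ → FBlowLib.Sec 𝔛 h W₀)

/-- Killed by powers of the first `k` elements. -/
def KT (k : ℕ) {V : Opens (𝔛.X 0).carrier} (hV : V ≤ W₀) {M : FSch.ModF 𝔛 h} (x : DerCompLib.Sec M V) : Prop :=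
  ∃ N : ℕ, ∀ l < k, oRes (𝔛.Osh h) hV (f l) ^ N • x = 0

variable {f}

theorem KT.res {k : ℕ} {V V' : Opens (𝔛.X 0).carrier} {hV : V ≤ W₀} {M : FSch.ModF 𝔛 h}
    {x : DerCompLib.Sec M V} (hx : KT f k hV x) (j : V' ≤ V) : KT f k (j.trans hV) (mRes M j x) := by
  obtain ⟨N, hN⟩ := hx
  exact ⟨N, fun l hl => by rw [← oRes_oRes hV j, ← map_pow, ← mRes_smul, hN l hl, map_zero]⟩

theorem pow_smul_zero {R M : Type*} [CommRing R] [AddCommGroup M] [Module R M] {r : R} {x : M} {N N' : ℕ}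
    (hN : r ^ N • x = 0) (hle : N ≤ N') : r ^ N' • x = 0 := by
  rw [← Nat.sub_add_cancel hle, pow_add, mul_smul, hN, smul_zero]

theorem KT.sub {k : ℕ} {V : Opens (𝔛.X 0).carrier} {hV : V ≤ W₀} {M : FSch.ModF 𝔛 h}
    {x x' : DerCompLib.Sec M V} (hx : KT f k hV x) (hx' : KT f k hV x') : KT f k hV (x - x') := by
  obtain ⟨N, hN⟩ := hx
  obtain ⟨N', hN'⟩ := hx'
  exact ⟨max N N', fun l hl => by
    rw [smul_sub, pow_smul_zero (hN l hl) (le_max_left _ _), pow_smul_zero (hN' l hl) (le_max_right _ _), sub_zero]⟩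

theorem KT.smul {k : ℕ} {V : Opens (𝔛.X 0).carrier} {hV : V ≤ W₀} {M : FSch.ModF 𝔛 h}
    {x : DerCompLib.Sec M V} (hx : KT f k hV x) (r : (𝔛.Osh h).obj.obj (op V)) : KT f k hV (r • x) := by
  obtain ⟨N, hN⟩ := hx
  exact ⟨N, fun l hl => by rw [smul_comm, hN l hl, smul_zero]⟩

theorem KT.map {k : ℕ} {V : Opens (𝔛.X 0).carrier} {hV : V ≤ W₀} {M M' : FSch.ModF 𝔛 h} (φ : M ⟶ M')
    {x : DerCompLib.Sec M V} (hx : KT f k hV x) : KT f k hV (secMap φ V x) := by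
  obtain ⟨N, hN⟩ := hx
  exact ⟨N, fun l hl => by rw [← map_smul, hN l hl, map_zero]⟩

theorem KT.succ {k : ℕ} {V : Opens (𝔛.X 0).carrier} {hV : V ≤ W₀} {M : FSch.ModF 𝔛 h}
    {x : DerCompLib.Sec M V} (hx : KT f k hV x) {N : ℕ} (hN : oRes (𝔛.Osh h) hV (f k) ^ N • x = 0) :
    KT f (k + 1) hV x := by
  obtain ⟨N', hN'⟩ := hx
  refine ⟨max N' N, fun l hl => ?_⟩
  rcases Nat.lt_succ_iff_lt_or_eq.1 hl with hl | rfl
  · exact pow_smul_zero (hN' l hl) (le_max_left _ _)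
  · exact pow_smul_zero hN (le_max_right _ _)

theorem KT.of_succ {k : ℕ} {V : Opens (𝔛.X 0).carrier} {hV : V ≤ W₀} {M : FSch.ModF 𝔛 h}
    {x : DerCompLib.Sec M V} (hx : KT f (k + 1) hV x) : KT f k hV x ∧ ∃ N, oRes (𝔛.Osh h) hV (f k) ^ N • x = 0 :=
  let ⟨N, hN⟩ := hx
  ⟨⟨N, fun l hl => hN l (hl.trans k.lt_succ_self)⟩, N, hN k k.lt_succ_self⟩

variable (f) in
/-- Cocycles are locally cohomologous to killed ones. -/
def StepP (k : ℕ) : Prop :=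
  ∀ ⦃p i j : ℤ⦄, p + 1 = i → i + 1 = j → ∀ ⦃V : Opens (𝔛.X 0).carrier⦄ (hV : V ≤ W₀), AFF 𝔛 V →
    ∀ (s : KS K i V), dS K i j V s = 0 → ∀ y ∈ V, ∃ (V' : Opens (𝔛.X 0).carrier) (l : V' ≤ V),
      AFF 𝔛 V' ∧ y ∈ V' ∧ ∃ u : KS K p V', KT f k (l.trans hV) (mRes (K.X i) l s - dS K p i V' u)

variable (f) in
/-- Killed coboundaries are locally coboundaries of killed cochains. -/
def StepQ (k : ℕ) : Prop :=
  ∀ ⦃i j : ℤ⦄, i + 1 = j → ∀ ⦃V : Opens (𝔛.X 0).carrier⦄ (hV : V ≤ W₀), AFF 𝔛 V →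
    ∀ (t : KS K i V), KT f k hV (dS K i j V t) → ∀ y ∈ V, ∃ (V' : Opens (𝔛.X 0).carrier) (l : V' ≤ V),
      AFF 𝔛 V' ∧ y ∈ V' ∧ ∃ t' : KS K i V', KT f k (l.trans hV) t' ∧ dS K i j V' t' = mRes (K.X j) l (dS K i j V t)

theorem step_zero : StepP K f 0 ∧ StepQ K f 0 := by
  refine ⟨fun p i j _ _ V hV hA s _ y hy => ⟨V, le_rfl, hA, hy, 0, 0, fun l hl => absurd hl (Nat.not_lt_zero l)⟩,
    fun i j _ V hV hA t _ y hy => ⟨V, le_rfl, hA, hy, mRes (K.X i) le_rfl t,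
      ⟨0, fun l hl => absurd hl (Nat.not_lt_zero l)⟩, secMap_mRes _ _ _⟩⟩

variable (hI : ∀ n, Ad (𝔛.Osh h) (AFF 𝔛) (K.X n)) (hT : ∀ i, FTors.IsTorsF 𝔛 h (K.homology i))
  (hf : ∀ l (V : Opens (𝔛.X 0).carrier) (hV : V ≤ W₀), AFF 𝔛 V → oRes (𝔛.Osh h) hV (f l) ∈ jdl h V)

include hX hI in
theorem divide {k : ℕ} {i : ℤ} {V : Opens (𝔛.X 0).carrier} {hV : V ≤ W₀} (hA : AFF 𝔛 V) (n : ℕ) {x : KS K i V}
    (hx : KT f k hV x) :
    ∃ (u : KS K i V) (m : ℕ), KT f k hV u ∧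
      oRes (𝔛.Osh h) hV (f k) ^ m • (oRes (𝔛.Osh h) hV (f k) ^ n • u - x) = 0 := by
  obtain ⟨N, hN⟩ := hx
  obtain ⟨u, m, hu, hm⟩ := hI i hA k (fun l : Fin k => oRes (𝔛.Osh h) hV (f l) ^ N)
    (oRes (𝔛.Osh h) hV (f k)) n x fun l => hN l l.2
  exact ⟨u, m, ⟨N, fun l hl => hu ⟨l, hl⟩⟩, hm⟩

variable (f) in
/-- Local divisibility of killed sections in all degrees. -/
def DivLoc : Prop :=
  ∀ (k : ℕ) (i : ℤ) ⦃V : Opens (𝔛.X 0).carrier⦄ (hV : V ≤ W₀), AFF 𝔛 V → ∀ (n : ℕ) (x : KS K i V), KT f k hV x →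
    ∀ y ∈ V, ∃ (V' : Opens (𝔛.X 0).carrier) (l : V' ≤ V), AFF 𝔛 V' ∧ y ∈ V' ∧ ∃ (u : KS K i V') (m : ℕ),
      KT f k (l.trans hV) u ∧ oRes (𝔛.Osh h) (l.trans hV) (f k) ^ m •
        (oRes (𝔛.Osh h) (l.trans hV) (f k) ^ n • u - mRes (K.X i) l x) = 0

include hX hI in
theorem divLoc_of_ad : DivLoc K f := fun k i V hV hA n x hx y hy => by
  obtain ⟨u, m, hu, hm⟩ := divide hX K hI (hV := hV) hA n hx
  refine ⟨V, le_rfl, hA, hy, u, m, hu, ?_⟩
  rwa [show mRes (K.X i) (le_refl V) x = x from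
    ConcreteCategory.congr_hom ((K.X i).val.presheaf.map_id (op V)) x]

variable (hD : DivLoc K f)

include hX hD hT hf in
theorem step_succ {k : ℕ} (hPQ : StepP K f k ∧ StepQ K f k) : StepP K f (k + 1) ∧ StepQ K f (k + 1) := by
  obtain ⟨hP, hQ⟩ := hPQ
  constructor
  · intro p i j hp hj V hV hA s hs y hy
    obtain ⟨V₁, l₁, hA₁, hy₁, u₁, hu₁⟩ := hP hp hj hV hA s hs y hy
    have hc : dS K i j V₁ (mRes (K.X i) l₁ s - dS K p i V₁ u₁) = 0 := by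
      rw [map_sub, dS_dS, sub_zero, secMap_mRes]
      exact (congrArg (mRes (K.X j) l₁) hs).trans (map_zero _)
    obtain ⟨V₂, l₂, hA₂, hy₂, N, t, ht⟩ := exists_pow_smul_eq_d hX K hT hp hj (oRes (𝔛.Osh h) (l₁.trans hV) (f k))
      (fun V' l hV' => by rw [oRes_oRes]; exact hf k V' _ hV') _ hc hy₁
    have ht' : KT f k (l₂.trans (l₁.trans hV)) (dS K p i V₂ t) := ht ▸ (hu₁.res l₂).smul _
    obtain ⟨V₃, l₃, hA₃, hy₃, w, hw, hdw⟩ := hQ hp (l₂.trans (l₁.trans hV)) hA₂ t ht' y hy₂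
    let hV₃ : V₃ ≤ W₀ := l₃.trans (l₂.trans (l₁.trans hV))
    obtain ⟨V₄, l₄, hA₄, hy₄, v, m, hv, hm⟩ := hD k p hV₃ hA₃ N w hw y hy₃
    refine ⟨V₄, (l₄.trans (l₃.trans l₂)).trans l₁, hA₄, hy₄, mRes (K.X p) (l₄.trans (l₃.trans l₂)) u₁ + v, ?_⟩
    replace hdw := (secMap_mRes (K.d p i) l₄ w).trans (congrArg (mRes (K.X i) l₄) hdw)
    rw [mRes_mRes] at hdw
    clear hw
    let hV₄ : V₄ ≤ W₀ := l₄.trans hV₃
    have hs₄ : mRes (K.X i) ((l₄.trans (l₃.trans l₂)).trans l₁) s - dS K p i V₄ (mRes (K.X p) (l₄.trans (l₃.trans l₂)) u₁ + v) =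
        mRes (K.X i) (l₄.trans (l₃.trans l₂)) (mRes (K.X i) l₁ s - dS K p i V₁ u₁) - dS K p i V₄ v := by
      rw [map_sub, map_add, secMap_mRes, mRes_mRes, sub_sub]
    rw [hs₄]
    refine KT.succ ((hu₁.res (l₄.trans (l₃.trans l₂))).sub (hv.map (K.d p i))) (N := m + N) ?_
    have hdw' : oRes (𝔛.Osh h) hV₄ (f k) ^ N • mRes (K.X i) (l₄.trans (l₃.trans l₂)) (mRes (K.X i) l₁ s - dS K p i V₁ u₁) =
        dS K p i V₄ (mRes (K.X p) l₄ w) := by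
      rw [hdw, ht, mRes_smul, map_pow, oRes_oRes, oRes_oRes, mRes_mRes]
    rw [smul_sub, pow_add, mul_smul, mul_smul, hdw']
    have hm' := congrArg (dS K p i V₄) hm
    rw [map_smul, map_sub, map_smul, map_zero, smul_sub] at hm'
    rw [← neg_sub, hm', neg_zero]
  · intro i j hj V hV hA t ht y hy
    obtain ⟨ht₀, a, ha⟩ := ht.of_succ
    obtain ⟨V₁, l₁, hA₁, hy₁, t₁, ht₁, hdt₁⟩ := hQ hj hV hA t ht₀ y hy
    let g₁ := oRes (𝔛.Osh h) (l₁.trans hV) (f k)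
    have hc : dS K i j V₁ (g₁ ^ a • t₁) = 0 := by
      rw [map_smul, hdt₁, show g₁ = oRes (𝔛.Osh h) l₁ (oRes (𝔛.Osh h) hV (f k)) from (oRes_oRes hV l₁ (f k)).symm,
        ← map_pow, ← mRes_smul, ha, map_zero]
    obtain ⟨V₂, l₂, hA₂, hy₂, b, w, hw⟩ := exists_pow_smul_eq_d hX K hT (show (i - 1) + 1 = i by omega) hj g₁
      (fun V' l hV' => by rw [oRes_oRes]; exact hf k V' _ hV') _ hc hy₁
    have hw' : KT f k (l₂.trans (l₁.trans hV)) (dS K (i - 1) i V₂ w) := hw ▸ ((ht₁.smul _).res l₂).smul _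
    obtain ⟨V₃, l₃, hA₃, hy₃, w', hw'k, hdw'⟩ := hQ (show (i - 1) + 1 = i by omega) (l₂.trans (l₁.trans hV)) hA₂ w hw' y hy₂
    let hV₃ : V₃ ≤ W₀ := l₃.trans (l₂.trans (l₁.trans hV))
    obtain ⟨V₄, l₄, hA₄, hy₄, v, m, hv, hm⟩ := hD k (i - 1) hV₃ hA₃ (b + a) w' hw'k y hy₃
    replace hdw' := (secMap_mRes (K.d (i - 1) i) l₄ w').trans (congrArg (mRes (K.X i) l₄) hdw')
    rw [mRes_mRes] at hdw'
    let hV₄ : V₄ ≤ W₀ := l₄.trans hV₃
    refine ⟨V₄, (l₄.trans (l₃.trans l₂)).trans l₁, hA₄, hy₄,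
      mRes (K.X i) (l₄.trans (l₃.trans l₂)) t₁ - dS K (i - 1) i V₄ v, ?_, ?_⟩
    · refine KT.succ ((ht₁.res (l₄.trans (l₃.trans l₂))).sub (hv.map (K.d (i - 1) i))) (N := m + (b + a)) ?_
      have hdw'' : oRes (𝔛.Osh h) hV₄ (f k) ^ (b + a) • mRes (K.X i) (l₄.trans (l₃.trans l₂)) t₁ = dS K (i - 1) i V₄ (mRes (K.X (i - 1)) l₄ w') := by
        rw [hdw', hw, mRes_smul, mRes_smul, mRes_smul, map_pow, map_pow, map_pow]
        simp only [g₁, oRes_oRes, mRes_mRes]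
        rw [smul_smul, ← pow_add]
      rw [smul_sub, pow_add, mul_smul, mul_smul, hdw'']
      have hm' := congrArg (dS K (i - 1) i V₄) hm
      rw [map_smul, map_sub, map_smul, map_zero, smul_sub] at hm'
      rw [← neg_sub, hm', neg_zero]
    · rw [map_sub, dS_dS, sub_zero, secMap_mRes, hdt₁, mRes_mRes]

include hX hD hT hf in
theorem steps' : ∀ k, StepP K f k ∧ StepQ K f k
  | 0 => step_zero K
  | k + 1 => step_succ hX K hT hf hD (steps' k)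

include hX hI hT hf in
theorem steps (k : ℕ) : StepP K f k ∧ StepQ K f k := steps' hX K hT hf (divLoc_of_ad hX K hI) k

end Groth.Agent.RGamT
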