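import Groth.Agent.RGamT.Derived
import Groth.Agent.SiteDer16.SubcatEquiv
import Mathlib.CategoryTheory.Abelian.Subcategory

/-!
# The derived category of torsion modules
-/

set_option autoImplicit false
set_option backward.isDefEq.respectTransparency false
set_option backward.defeqAttrib.useBackward true
set_option linter.style.haveILetI false
set_option linter.unusedSectionVars false
set_option maxHeartbeats 1000000

universe u

open CategoryTheory CategoryTheory.Limits AlgebraicGeometry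

attribute [local instance] HasDerivedCategory.standard

noncomputable section

namespace Groth.Agent.RGamT

variable {𝔛 : FSch.Sys.{u}} {h : 𝔛.IsFormal} (hX : 𝔛.IsLocNoethFormal)

/-- `Γ'` into torsion modules. -/
def gammaLift (h : 𝔛.IsFormal) : FSch.ModF 𝔛 h ⥤ (FTors.IsTorsF 𝔛 h).FullSubcategory :=
  (FTors.IsTorsF 𝔛 h).lift (FTors.gammaT 𝔛 h) QCT3.isTors_gammaT

theorem isIso_ι_of_tors (M : (FTors.IsTorsF 𝔛 h).FullSubcategory) : IsIso ((FTors.gammaTι 𝔛 h).app M.obj) :=
  QCT3.isIso_gammaι M.property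

/-- `ι ⊣ Γ'`. -/
def gammaAdj (h : 𝔛.IsFormal) : (FTors.IsTorsF 𝔛 h).ι ⊣ gammaLift h :=
  Adjunction.mkOfHomEquiv
    { homEquiv := fun M N =>
        { toFun := fun f => ObjectProperty.homMk
            (haveI := isIso_ι_of_tors M; inv ((FTors.gammaTι 𝔛 h).app M.obj) ≫ (FTors.gammaT 𝔛 h).map f)
          invFun := fun g => g.hom ≫ (FTors.gammaTι 𝔛 h).app N
          left_inv := fun f => by
            haveI := isIso_ι_of_tors M
            show (inv _ ≫ _) ≫ _ = f
            rw [Category.assoc, (FTors.gammaTι 𝔛 h).naturality, IsIso.inv_hom_id_assoc]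
            rfl
          right_inv := fun g => by
            haveI := isIso_ι_of_tors M
            refine ObjectProperty.hom_ext _ ((cancel_mono ((FTors.gammaTι 𝔛 h).app N)).1 ?_)
            show (inv _ ≫ _) ≫ _ = _
            rw [Category.assoc, (FTors.gammaTι 𝔛 h).naturality, IsIso.inv_hom_id_assoc]
            rfl }
      homEquiv_naturality_left_symm := fun {M M' N} f g => by
        show (f ≫ g).hom ≫ _ = f.hom ≫ g.hom ≫ _
        exact Category.assoc _ _ _
      homEquiv_naturality_right := fun {M N N'} f g => ObjectProperty.hom_ext _ (by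
        show _ ≫ (FTors.gammaT 𝔛 h).map (f ≫ g) = (_ ≫ _) ≫ (FTors.gammaT 𝔛 h).map g
        rw [Functor.map_comp, Category.assoc]) }

theorem gammaAdj_counit (N : FSch.ModF 𝔛 h) : (gammaAdj h).counit.app N = (FTors.gammaTι 𝔛 h).app N :=
  Category.id_comp ((FTors.gammaTι 𝔛 h).app N)

instance gammaLift_additive : (gammaLift h).Additive where
  map_add {M N f g} := ObjectProperty.hom_ext _ ((FTors.gammaT 𝔛 h).map_add)

include hX in
theorem tors_equiv [(FTors.IsTorsF 𝔛 h).ContainsZero] [(FTors.IsTorsF 𝔛 h).IsClosedUnderKernels]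
    [(FTors.IsTorsF 𝔛 h).IsClosedUnderCokernels] [(FTors.IsTorsF 𝔛 h).IsClosedUnderFiniteProducts]
    [PreservesFiniteLimits (FTors.IsTorsF 𝔛 h).ι] [PreservesFiniteColimits (FTors.IsTorsF 𝔛 h).ι] :
    (FTors.IsTorsF 𝔛 h).ι.mapDerivedCategory.Full ∧ (FTors.IsTorsF 𝔛 h).ι.mapDerivedCategory.Faithful ∧
      ∀ G : DerivedCategory (FSch.ModF 𝔛 h),
        (FTors.IsTorsF 𝔛 h).ι.mapDerivedCategory.essImage G ↔ FTors.IsDTorsF 𝔛 h G := by
  haveI := closed_isTorsF (h := h)
  have hB : ∀ M : CochainComplex (FSch.ModF 𝔛 h) ℤ, ∃ (I : CochainComplex (FSch.ModF 𝔛 h) ℤ) (f : M ⟶ I),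
      I.IsKInjective ∧ QuasiIso f ∧ ∀ n, Injective (I.X n) := fun M => by
    obtain ⟨I, f, h1, h2, -, h4⟩ := DCat.exists_kInj_res M
    exact ⟨I, f, h1, h2, h4⟩
  have hε : ∀ I : CochainComplex (FSch.ModF 𝔛 h) ℤ, (∀ n, Injective (I.X n)) →
      (∀ i, FTors.IsTorsF 𝔛 h (I.homology i)) →
      QuasiIso ((SiteDer16.SubcatEquiv.adjCx (ComplexShape.up ℤ) (gammaAdj h)).counit.app I) := fun I hI hT => by
    have e : (SiteDer16.SubcatEquiv.adjCx (ComplexShape.up ℤ) (gammaAdj h)).counit.app I = gamCι I := by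
      ext n : 1
      exact (gammaAdj_counit (I.X n)).trans (gamCι_f I n).symm
    exact e ▸ quasiIso_gamCι hX I hI hT
  have hG : ∀ (M : CochainComplex (FTors.IsTorsF 𝔛 h).FullSubcategory ℤ) (i : ℤ),
      FTors.IsTorsF 𝔛 h ((((FTors.IsTorsF 𝔛 h).ι.mapHomologicalComplex (ComplexShape.up ℤ)).obj M).homology i) :=
    fun M i => isTors_of_epi hX (HomologicalComplex.homologyπ _ i)
      (QCT3.isTors_of_mono (HomologicalComplex.iCycles _ i) (M.X i).property)
  obtain ⟨h1, h2⟩ := SiteDer16.SubcatEquiv.fullyFaithful (gammaAdj h) (FTors.IsTorsF 𝔛 h) hB hε hG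
  exact ⟨h1, h2, fun G => (SiteDer16.SubcatEquiv.cohIn_iff (gammaAdj h) (FTors.IsTorsF 𝔛 h) hB hε hG G).symm⟩

end Groth.Agent.RGamT
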